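import Mathlib
import Cfsg.Agent.H32.NX9.RDef
import Cfsg.Agent.H32.NY.RData
import Cfsg.Agent.H386.S3513N8
import Cfsg.Agent.H32.NY.Defs

/-!
# S4979, layer (I): the degree 8 case, the group `K / Q` (helper32)
-/

set_option autoImplicit false
set_option linter.unusedSectionVars false
set_option linter.style.haveILetI false

open Cfsg
open scoped commutatorElement Pointwise

namespace Cfsg.Agent.H32.NY.A32

open Cfsg.Agent.H32.NX9 Cfsg.Agent.H32.NX9 Cfsg.Agent.H32.NY.A32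

section part1

/-- A perfect group has no nontrivial homomorphism to a commutative group. -/
theorem hom_trivial {H A : Type*} [Group H] [CommGroup A] (hperf : commutator H = ⊤) (f : H →* A) (h : H) :
    f h = 1 := by
  have h1 : commutator H ≤ f.ker := Abelianization.commutator_subset_ker f
  rw [hperf] at h1
  exact h1 trivial

/-- A subgroup containing all commutators of a perfect group is everything. -/
theorem eq_top_of_commutator {H : Type*} [Group H] (hperf : commutator H = ⊤) (C : Subgroup H)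
    (h : ∀ a b : H, ⁅a, b⁆ ∈ C) : C = ⊤ := by
  rw [eq_top_iff, ← hperf, commutator_def, Subgroup.commutator_le]
  exact fun a _ b _ => h a b

/-- Transfer: a central `r`-subgroup of a perfect group with commutative Sylow `r`-subgroup is trivial. -/
theorem central_trivial {H : Type*} [Group H] [Finite H] (hperf : commutator H = ⊤) {r : ℕ} [Fact r.Prime]
    (P : Sylow r H) (hcomm : ∀ a ∈ (P : Subgroup H), ∀ b ∈ (P : Subgroup H), a * b = b * a) {z : H}
    (hzP : z ∈ (P : Subgroup H)) (hz : z ∈ Subgroup.center H) : z = 1 := by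
  classical
  let f : (P : Subgroup H) →* Abelianization (P : Subgroup H) := Abelianization.of
  have hinj : ∀ x : (P : Subgroup H), f x = 1 → x = 1 := by
    intro x hx
    have h1 : x ∈ commutator (P : Subgroup H) := by
      have : x ∈ (Abelianization.of : (P : Subgroup H) →* _).ker := hx
      rwa [Abelianization.ker_of] at this
    have h2 : commutator (P : Subgroup H) = ⊥ := by
      rw [eq_bot_iff, commutator_def, Subgroup.commutator_le]
      intro a _ b _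
      rw [Subgroup.mem_bot, commutatorElement_eq_one_iff_mul_comm]
      exact Subtype.ext (hcomm a a.2 b b.2)
    rw [h2, Subgroup.mem_bot] at h1
    exact h1
  have hcen : ∀ g : H, g * z = z * g := Subgroup.mem_center_iff.1 hz
  have hkey : ∀ (k : ℕ) (g₀ : H), g₀⁻¹ * z ^ k * g₀ ∈ (P : Subgroup H) → g₀⁻¹ * z ^ k * g₀ = z ^ k := by
    intro k g₀ _
    have h1 : Commute g₀ (z ^ k) := (show Commute g₀ z from hcen g₀).pow_right k
    rw [mul_assoc, ← h1.eq, inv_mul_cancel_left]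
  haveI : (P : Subgroup H).FiniteIndex := inferInstance
  have h1 := MonoidHom.transfer_eq_pow f z hkey
  have h2 : (MonoidHom.transfer f) z = 1 := hom_trivial hperf _ z
  rw [h2] at h1
  have h3 := hinj _ h1.symm
  have h4 : z ^ (P : Subgroup H).index = 1 := congrArg Subtype.val h3
  have h5 : orderOf z ∣ (P : Subgroup H).index := orderOf_dvd_of_pow_eq_one h4
  have h6 : ¬ r ∣ (P : Subgroup H).index := P.not_dvd_index
  obtain ⟨k, hk⟩ := P.isPGroup' ⟨z, hzP⟩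
  have hk' : z ^ r ^ k = 1 := congrArg Subtype.val hk
  have h7 : orderOf z ∣ r ^ k := orderOf_dvd_of_pow_eq_one hk'
  obtain ⟨m, _, hm⟩ := (Nat.dvd_prime_pow (Fact.out : r.Prime)).1 h7
  rcases Nat.eq_zero_or_pos m with h8 | h8
  · rw [h8, pow_zero] at hm
    exact orderOf_eq_one_iff.1 hm
  · exfalso
    apply h6
    refine (dvd_trans ?_ h5)
    rw [hm]
    exact dvd_pow_self r h8.ne'

/-- joint eigenvector of a set of automorphisms -/
def Eig {A : Type*} [CommGroup A] (S : Set (MulAut A)) (x : A) : Prop := ∀ σ ∈ S, σ x = x ∨ σ x = x⁻¹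

theorem pow_mem_closure_eig {A : Type*} [CommGroup A] (l : List (MulAut A)) :
    ∀ (D : Subgroup A) (_ : ∀ σ ∈ l, ∀ x ∈ D, σ x ∈ D) (_ : ∀ σ ∈ l, ∀ x, σ (σ x) = x)
      (_ : ∀ σ ∈ l, ∀ τ ∈ l, ∀ x, σ (τ x) = τ (σ x)), ∀ x ∈ D,
      x ^ 2 ^ l.length ∈ Subgroup.closure {y | y ∈ D ∧ Eig {σ | σ ∈ l} y} := by
  induction l with
  | nil =>
    intro D _ _ _ x hx
    rw [List.length_nil, pow_zero, pow_one]
    exact Subgroup.subset_closure ⟨hx, fun σ hσ => absurd hσ (by simp)⟩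
  | cons σ l ih =>
    intro D hD hinv hcomm x hx
    have hσ : σ ∈ σ :: l := List.mem_cons_self
    have hl : ∀ τ ∈ l, τ ∈ σ :: l := fun τ hτ => List.mem_cons_of_mem _ hτ
    let Dp : Subgroup A :=
      { carrier := {y | y ∈ D ∧ σ y = y}
        one_mem' := ⟨one_mem _, map_one σ⟩
        mul_mem' := fun {a b} ha hb => ⟨mul_mem ha.1 hb.1, by rw [map_mul, ha.2, hb.2]⟩
        inv_mem' := fun {a} ha => ⟨inv_mem ha.1, by rw [map_inv, ha.2]⟩ }
    let Dm : Subgroup A :=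
      { carrier := {y | y ∈ D ∧ σ y = y⁻¹}
        one_mem' := ⟨one_mem _, by rw [map_one, inv_one]⟩
        mul_mem' := fun {a b} ha hb => ⟨mul_mem ha.1 hb.1, by rw [map_mul, ha.2, hb.2, mul_inv]⟩
        inv_mem' := fun {a} ha => ⟨inv_mem ha.1, by rw [map_inv, ha.2]⟩ }
    have h1 := ih Dp (fun τ hτ y hy => ⟨hD τ (hl τ hτ) y hy.1, by
        rw [hcomm σ hσ τ (hl τ hτ), hy.2]⟩) (fun τ hτ => hinv τ (hl τ hτ))
        (fun τ hτ ρ hρ => hcomm τ (hl τ hτ) ρ (hl ρ hρ)) (x * σ x)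
        ⟨mul_mem hx (hD σ hσ x hx), by rw [map_mul, hinv σ hσ, mul_comm]⟩
    have h2 := ih Dm (fun τ hτ y hy => ⟨hD τ (hl τ hτ) y hy.1, by
        rw [hcomm σ hσ τ (hl τ hτ), hy.2, map_inv]⟩) (fun τ hτ => hinv τ (hl τ hτ))
        (fun τ hτ ρ hρ => hcomm τ (hl τ hτ) ρ (hl ρ hρ)) (x * (σ x)⁻¹)
        ⟨mul_mem hx (inv_mem (hD σ hσ x hx)), by
          rw [map_mul, map_inv, hinv σ hσ, mul_inv, inv_inv, mul_comm]⟩
    have h3 : x ^ 2 ^ (σ :: l).length = (x * σ x) ^ 2 ^ l.length * (x * (σ x)⁻¹) ^ 2 ^ l.length := by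
      rw [← mul_pow, List.length_cons, pow_succ', pow_mul]
      congr 1
      rw [pow_two]
      calc x * x = x * x * (σ x * (σ x)⁻¹) := by rw [mul_inv_cancel, mul_one]
        _ = x * σ x * (x * (σ x)⁻¹) := by ac_rfl
    rw [h3]
    refine mul_mem ?_ ?_
    · refine Subgroup.closure_mono ?_ h1
      rintro y ⟨⟨hy1, hy2⟩, hy3⟩
      refine ⟨hy1, ?_⟩
      intro τ hτ
      rcases List.mem_cons.1 hτ with rfl | hτ
      · exact Or.inl hy2
      · exact hy3 τ hτ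
    · refine Subgroup.closure_mono ?_ h2
      rintro y ⟨⟨hy1, hy2⟩, hy3⟩
      refine ⟨hy1, ?_⟩
      intro τ hτ
      rcases List.mem_cons.1 hτ with rfl | hτ
      · exact Or.inr hy2
      · exact hy3 τ hτ

/-- An abelian group of odd order with a finite elementary abelian `2`-group of automorphisms is generated by its
eigenvectors. -/
theorem closure_eig {A Γ : Type*} [CommGroup A] [Finite A] [Group Γ] [Finite Γ] (hodd : ¬ 2 ∣ Nat.card A)
    (α : Γ →* MulAut A) (hinv : ∀ g x, α g (α g x) = x) (hcomm : ∀ g h x, α g (α h x) = α h (α g x)) :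
    Subgroup.closure {y : A | ∀ g, α g y = y ∨ α g y = y⁻¹} = ⊤ := by
  classical
  haveI : Fintype Γ := Fintype.ofFinite Γ
  let l : List (MulAut A) := (Finset.univ : Finset Γ).toList.map (fun g => α g)
  have hl : ∀ σ ∈ l, ∃ g, α g = σ := by
    intro σ hσ
    obtain ⟨g, -, rfl⟩ := List.mem_map.1 hσ
    exact ⟨g, rfl⟩
  have hl' : ∀ g, α g ∈ l := fun g => List.mem_map.2 ⟨g, by simp, rfl⟩
  rw [eq_top_iff]
  intro x _
  have hc : (Nat.card A).Coprime (2 ^ l.length) :=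
    Nat.Coprime.pow_right _ ((Nat.Prime.coprime_iff_not_dvd Nat.prime_two).2 hodd).symm
  obtain ⟨y, hy⟩ : ∃ y : A, y ^ 2 ^ l.length = x := by
    refine ⟨(powCoprime hc).symm x, ?_⟩
    exact (powCoprime hc).apply_symm_apply x
  rw [← hy]
  have h1 := pow_mem_closure_eig l ⊤ (fun _ _ _ _ => trivial)
    (by intro σ hσ z; obtain ⟨g, rfl⟩ := hl σ hσ; exact hinv g z)
    (by
      intro σ hσ τ hτ z
      obtain ⟨g, rfl⟩ := hl σ hσ
      obtain ⟨h, rfl⟩ := hl τ hτ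
      exact hcomm g h z) y trivial
  refine Subgroup.closure_mono ?_ h1
  rintro z ⟨-, hz⟩
  exact fun g => hz (α g) (hl' g)

end part1

section part2

/-- `K / Q` is elementary abelian, regular on the `8` points of `B`, and `H` is `3`-transitive. -/
structure Agl {H : Type*} [Group H] (B : Type*) [MulAction H B] (K Q : Subgroup H) : Prop where
  nK : K.Normal
  nQ : Q.Normal
  QK : Q ≤ K
  memQ : ∀ g : H, g ∈ Q ↔ ∀ b : B, g • b = b
  sq : ∀ x ∈ K, x * x ∈ Q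
  cm : ∀ x ∈ K, ∀ y ∈ K, ⁅x, y⁆ ∈ Q
  reg : ∀ x ∈ K, ∀ b : B, x • b = b → x ∈ Q
  tr : ∀ b c : B, ∃ x ∈ K, x • b = c
  card : Nat.card B = 8
  rel : Q.relIndex K = 8
  t3 : ∀ i j k i' j' k' : B, i ≠ j → i ≠ k → j ≠ k → i' ≠ j' → i' ≠ k' → j' ≠ k' →
    ∃ h : H, h • i = i' ∧ h • j = j' ∧ h • k = k'

section perm
variable {H B : Type*} [Group H] [MulAction H B] {K Q : Subgroup H}

theorem exists_not_mem_finset [Finite B] (hc : Nat.card B = 8) (s : Finset B) (hs : s.card ≤ 7) :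
    ∃ b, b ∉ s := by
  classical
  haveI : Fintype B := Fintype.ofFinite B
  by_contra h
  push Not at h
  have h1 : (Finset.univ : Finset B) ⊆ s := fun x _ => h x
  have h2 := Finset.card_le_card h1
  rw [Finset.card_univ, ← Nat.card_eq_fintype_card] at h2
  omega

/-- two-transitivity from three-transitivity -/
theorem two_trans [Finite B] (hc : Nat.card B = 8)
    (t3 : ∀ i j k i' j' k' : B, i ≠ j → i ≠ k → j ≠ k → i' ≠ j' → i' ≠ k' → j' ≠ k' →
      ∃ h : H, h • i = i' ∧ h • j = j' ∧ h • k = k') (i j i' j' : B) (hij : i ≠ j) (hij' : i' ≠ j') :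
    ∃ h : H, h • i = i' ∧ h • j = j' := by
  classical
  obtain ⟨k, hk⟩ := exists_not_mem_finset hc {i, j} (by
    exact (Finset.card_le_two).trans (by norm_num))
  obtain ⟨k', hk'⟩ := exists_not_mem_finset hc {i', j'} (by
    exact (Finset.card_le_two).trans (by norm_num))
  simp only [Finset.mem_insert, Finset.mem_singleton, not_or] at hk hk'
  obtain ⟨h, h1, h2, -⟩ := t3 i j k i' j' k' hij (Ne.symm hk.1) (Ne.symm hk.2) hij' (Ne.symm hk'.1)
    (Ne.symm hk'.2)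
  exact ⟨h, h1, h2⟩

/-- a normal subgroup moving a point is transitive -/
theorem normal_trans [Finite B] (hc : Nat.card B = 8)
    (t3 : ∀ i j k i' j' k' : B, i ≠ j → i ≠ k → j ≠ k → i' ≠ j' → i' ≠ k' → j' ≠ k' →
      ∃ h : H, h • i = i' ∧ h • j = j' ∧ h • k = k') (M : Subgroup H) (hM : M.Normal) {m : H} (hm : m ∈ M)
    {b : B} (hb : m • b ≠ b) (c c' : B) : ∃ x ∈ M, x • c = c' := by
  by_cases h : c = c'
  · exact ⟨1, one_mem _, by rw [one_smul, h]⟩
  · obtain ⟨g, h1, h2⟩ := two_trans hc t3 b (m • b) c c' (Ne.symm hb) h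
    refine ⟨g * m * g⁻¹, hM.conj_mem m hm g, ?_⟩
    rw [← h1, mul_smul, mul_smul, inv_smul_smul, h2]

/-- construction of `Agl` -/
theorem agl_mk [Finite H] [Finite B] (nK : K.Normal) (QK : Q ≤ K)
    (memQ : ∀ g : H, g ∈ Q ↔ ∀ b : B, g • b = b) (hrel : Q.relIndex K = 8) (hc : Nat.card B = 8)
    (t3 : ∀ i j k i' j' k' : B, i ≠ j → i ≠ k → j ≠ k → i' ≠ j' → i' ≠ k' → j' ≠ k' →
      ∃ h : H, h • i = i' ∧ h • j = j' ∧ h • k = k') : Agl B K Q := by
  classical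
  have nQ : Q.Normal := by
    constructor
    intro g hg x
    rw [memQ]
    intro i
    rw [mul_smul, mul_smul, (memQ g).1 hg, smul_inv_smul]
  -- an element of order two mod `Q`
  haveI : (Q.subgroupOf K).Normal := nQ.subgroupOf K
  have hcq : Nat.card (K ⧸ Q.subgroupOf K) = 8 := hrel
  haveI : Fact (Nat.Prime 2) := ⟨Nat.prime_two⟩
  obtain ⟨x₀, hx₀⟩ := exists_prime_orderOf_dvd_card' (G := K ⧸ Q.subgroupOf K) 2 (by rw [hcq]; norm_num)
  obtain ⟨x, rfl⟩ := QuotientGroup.mk_surjective x₀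
  have hx2 : (x : H) * x ∈ Q := by
    have h1 : (QuotientGroup.mk x : K ⧸ Q.subgroupOf K) ^ 2 = 1 := by rw [← hx₀]; exact pow_orderOf_eq_one _
    rw [← QuotientGroup.mk_pow, QuotientGroup.eq_one_iff, Subgroup.mem_subgroupOf, pow_two] at h1
    exact h1
  have hxQ : (x : H) ∉ Q := by
    intro h
    have h1 : (QuotientGroup.mk x : K ⧸ Q.subgroupOf K) = 1 := by
      rw [QuotientGroup.eq_one_iff, Subgroup.mem_subgroupOf]
      exact h
    rw [h1, orderOf_one] at hx₀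
    norm_num at hx₀
  have hxb : ∃ b : B, (x : H) • b ≠ b := by
    by_contra hcon
    push Not at hcon
    exact hxQ ((memQ _).2 hcon)
  obtain ⟨b₀, hb₀⟩ := hxb
  have tr : ∀ b c : B, ∃ x ∈ K, x • b = c := normal_trans hc t3 K nK x.2 hb₀
  haveI : MulAction.IsPretransitive K B := by
    constructor
    intro b c
    obtain ⟨x, hx, h⟩ := tr b c
    exact ⟨⟨x, hx⟩, h⟩
  have reg : ∀ x ∈ K, ∀ b : B, x • b = b → x ∈ Q := by
    intro y hy b hyb
    have h1 : (MulAction.stabilizer K b).index = 8 := by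
      rw [MulAction.index_stabilizer_of_transitive, hc]
    have h2 : Q.subgroupOf K ≤ MulAction.stabilizer K b := by
      intro z hz
      rw [MulAction.mem_stabilizer_iff]
      exact (memQ _).1 (Subgroup.mem_subgroupOf.1 hz) b
    have h3 : Q.subgroupOf K = MulAction.stabilizer K b := by
      refine Subgroup.eq_of_le_of_card_ge h2 ?_
      have h4 := (Q.subgroupOf K).card_mul_index
      have h5 := (MulAction.stabilizer K b).card_mul_index
      rw [h1] at h5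
      rw [show (Q.subgroupOf K).index = 8 from hrel] at h4
      omega
    have h4 : (⟨y, hy⟩ : K) ∈ Q.subgroupOf K := by
      rw [h3, MulAction.mem_stabilizer_iff]
      exact hyb
    exact Subgroup.mem_subgroupOf.1 h4
  have sq : ∀ y ∈ K, y * y ∈ Q := by
    intro y hy
    by_cases hyQ : y ∈ Q
    · exact mul_mem hyQ hyQ
    · have h1 : y • b₀ ≠ b₀ := fun h => hyQ (reg y hy b₀ h)
      obtain ⟨h, h2, h3⟩ := two_trans hc t3 b₀ ((x : H) • b₀) b₀ (y • b₀) (Ne.symm hb₀) (Ne.symm h1)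
      have h4 : y⁻¹ * (h * x * h⁻¹) ∈ Q := by
        refine reg _ (mul_mem (inv_mem hy) (nK.conj_mem _ x.2 h)) b₀ ?_
        have : h⁻¹ • b₀ = b₀ := by rw [inv_smul_eq_iff, h2]
        rw [mul_smul, mul_smul, mul_smul, this, h3, inv_smul_smul]
      have h5 : (y : H ⧸ Q) = ((h * x * h⁻¹ : H) : H ⧸ Q) := QuotientGroup.eq.2 h4
      rw [← QuotientGroup.eq_one_iff, QuotientGroup.mk_mul, h5, ← QuotientGroup.mk_mul,
        QuotientGroup.eq_one_iff]
      have h6 : h * x * h⁻¹ * (h * x * h⁻¹) = h * (x * x) * h⁻¹ := by group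
      rw [h6]
      exact nQ.conj_mem _ hx2 h
  have cm : ∀ x ∈ K, ∀ y ∈ K, ⁅x, y⁆ ∈ Q := by
    intro y hy z hz
    have h1 := sq y hy
    have h2 := sq z hz
    have h3 := sq (y * z) (mul_mem hy hz)
    have h4 : ⁅y, z⁆ = (y * z * (y * z)) * (z⁻¹ * (y * y)⁻¹ * z) * (z * z)⁻¹ := by
      rw [commutatorElement_def]; group
    rw [h4]
    refine mul_mem (mul_mem h3 ?_) (inv_mem h2)
    have := nQ.conj_mem _ (inv_mem h1) z⁻¹
    rwa [inv_inv] at this
  exact ⟨nK, nQ, QK, memQ, sq, cm, reg, tr, hc, hrel, t3⟩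

end perm

section imp
open Cfsg.Agent.H37.NX Cfsg.Agent.H32.NY.A37
variable {p q : ℕ} {H V B : Type*} [Group H] [Finite H] [AddCommGroup V] [Finite V] [DistribMulAction H V]
  [Finite B] [MulAction H B] {W : B → AddSubgroup V} {K N Q : Subgroup H} {φ : N →* ℂˣ}

theorem index_K (I : ImpW (V := V) p q W K N Q φ) (hQ : Q.index = 1344) : K.index = 168 := by
  haveI := I.core.nK
  haveI := I.core.simp
  have h1 : Nat.card (H ⧸ K) ∣ 2688 := by
    have h2 : K.index ∣ Q.index := Subgroup.index_dvd_of_le I.QK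
    rw [hQ] at h2
    exact h2.trans (by norm_num)
  obtain ⟨M, hM1, hM2, ⟨e⟩⟩ := Finite.exists_type_univ_nonempty_mulEquiv.{_, 0} (H ⧸ K)
  haveI : IsSimpleGroup M := (e.isSimpleGroup_congr).1 inferInstance
  have h3 : ¬ ∀ a b : M, a * b = b * a := by
    intro h
    apply I.core.na
    refine ⟨⟨fun a b => ?_⟩⟩
    apply e.injective
    rw [map_mul, map_mul, h]
  have h4 : Nat.card M = Nat.card (H ⧸ K) := (Nat.card_congr e.toEquiv).symm
  rw [← h4] at h1
  have h5 := (Cfsg.Agent.H386.S3513N8.simple_2688 h3 h1).1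
  rw [h4] at h5
  exact h5

theorem agl_of_impC (I : ImpW (V := V) p q W K N Q φ) (hn : Nat.card B = 8) (hQ : Q.index = 1344) :
    Agl B K Q := by
  refine agl_mk I.core.nK I.QK I.memQ ?_ hn I.t3
  have h1 := Subgroup.relIndex_mul_index I.QK
  rw [index_K I hQ, hQ] at h1
  omega

end imp

end part2

section part3

theorem comm_eq {G : Type*} [Group G] (x y : G) : ⁅x, y⁆ = (x * y) * (y * x)⁻¹ := by
  rw [commutatorElement_def]; group

theorem comm_central {G : Type*} [Group G] (x y a b : G) (ha : ∀ g : G, g * a = a * g)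
    (hb : ∀ g : G, g * b = b * g) : ⁅x * a, y * b⁆ = ⁅x, y⁆ := by
  rw [comm_eq, comm_eq]
  have h1 : x * a * (y * b) = x * y * (a * b) := by
    rw [mul_assoc x a, ← mul_assoc a y b, ← ha y, mul_assoc y a b, ← mul_assoc]
  have h2 : y * b * (x * a) = y * x * (a * b) := by
    rw [mul_assoc y b, ← mul_assoc b x a, ← hb x, mul_assoc x b a, ← mul_assoc, hb a]
  rw [h1, h2, mul_inv_rev (y * x), ← mul_assoc, mul_assoc (x * y), mul_inv_cancel, mul_one]

section agl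
variable {H B : Type*} [Group H] [MulAction H B] [Finite B] {K Q : Subgroup H}

theorem Agl.pick (A : Agl B K Q) (b : B) (s : Finset B) (hs : s.card ≤ 7) : ∃ z ∈ K, z • b ∉ s := by
  obtain ⟨c, hc⟩ := exists_not_mem_finset A.card s hs
  obtain ⟨z, hz, h⟩ := A.tr b c
  exact ⟨z, hz, by rw [h]; exact hc⟩

theorem Agl.nonempty (A : Agl B K Q) : Nonempty B := by
  have h := A.card
  exact (Nat.card_pos_iff.1 (by rw [h]; norm_num)).1

theorem Agl.smul_ne (A : Agl B K Q) {x : H} (hx : x ∈ K) (hxQ : x ∉ Q) (b : B) : x • b ≠ b :=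
  fun h => hxQ (A.reg x hx b h)

theorem Agl.conj_eq (A : Agl B K Q) {x y h : H} (hx : x ∈ K) (hy : y ∈ K) {b : B} (hb : h • b = b)
    (hxy : h • x • b = y • b) : ∃ k ∈ Q, h * x * h⁻¹ = y * k := by
  refine ⟨y⁻¹ * (h * x * h⁻¹), A.reg _ (mul_mem (inv_mem hy) (A.nK.conj_mem _ hx h)) b ?_, ?_⟩
  · have : h⁻¹ • b = b := by rw [inv_smul_eq_iff, hb]
    rw [mul_smul, mul_smul, mul_smul, this, hxy, inv_smul_smul]
  · rw [mul_inv_cancel_left]

theorem Agl.move1 (A : Agl B K Q) (b : B) {x y : H} (hx : x ∈ K) (hy : y ∈ K) (hxQ : x ∉ Q) (hyQ : y ∉ Q) :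
    ∃ h : H, h • b = b ∧ ∃ k ∈ Q, h * x * h⁻¹ = y * k := by
  obtain ⟨h, h1, h2⟩ := two_trans A.card A.t3 b (x • b) b (y • b) (A.smul_ne hx hxQ b).symm
    (A.smul_ne hy hyQ b).symm
  exact ⟨h, h1, A.conj_eq hx hy h1 h2⟩

theorem Agl.ne_of (A : Agl B K Q) {x y : H} (hx : x ∈ K) (hy : y ∈ K) (h : x⁻¹ * y ∉ Q) (b : B) :
    x • b ≠ y • b := by
  intro h1
  refine h (A.reg _ (mul_mem (inv_mem hx) hy) b ?_)
  rw [mul_smul, ← h1, inv_smul_smul]

theorem Agl.move2 (A : Agl B K Q) (b : B) {x y z : H} (hx : x ∈ K) (hy : y ∈ K) (hz : z ∈ K) (hxQ : x ∉ Q)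
    (hyQ : y ∉ Q) (hzQ : z ∉ Q) (hxy : x⁻¹ * y ∉ Q) (hxz : x⁻¹ * z ∉ Q) :
    ∃ h : H, h • b = b ∧ (∃ k ∈ Q, h * x * h⁻¹ = x * k) ∧ ∃ k ∈ Q, h * y * h⁻¹ = z * k := by
  obtain ⟨h, h1, h2, h3⟩ := A.t3 b (x • b) (y • b) b (x • b) (z • b) (A.smul_ne hx hxQ b).symm
    (A.smul_ne hy hyQ b).symm (A.ne_of hx hy hxy b) (A.smul_ne hx hxQ b).symm
    (A.smul_ne hz hzQ b).symm (A.ne_of hx hz hxz b)
  exact ⟨h, h1, A.conj_eq hx hx h1 h2, A.conj_eq hy hz h1 h3⟩

theorem Agl.comm_mem (A : Agl B K Q) (C : Subgroup H) [C.Normal] (hC : ∀ h : H, ∀ k ∈ Q, ⁅h, k⁆ ∈ C) :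
    ∀ x ∈ K, ∀ y ∈ K, ⁅x, y⁆ ∈ C := by
  classical
  let π := QuotientGroup.mk' C
  have hone : ∀ x : H, π x = 1 ↔ x ∈ C := fun x => QuotientGroup.eq_one_iff x
  have hz : ∀ k ∈ Q, ∀ g : H ⧸ C, g * π k = π k * g := by
    intro k hk g
    obtain ⟨h, rfl⟩ := QuotientGroup.mk'_surjective C g
    have h1 := (hone _).2 (hC h k hk)
    rw [map_commutatorElement, commutatorElement_eq_one_iff_mul_comm] at h1
    exact h1
  have key : ∀ x y z : H, x ∈ K → y ∈ K → z ∈ K → x ∉ Q → y ∉ Q → z ∉ Q → x⁻¹ * y ∉ Q → x⁻¹ * z ∉ Q →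
      π ⁅x, y⁆ = π ⁅x, z⁆ := by
    intro x y z hx hy hz' hxQ hyQ hzQ hxy hxz
    obtain ⟨b⟩ := A.nonempty
    obtain ⟨h, -, ⟨k₁, hk₁, e₁⟩, ⟨k₂, hk₂, e₂⟩⟩ := A.move2 b hx hy hz' hxQ hyQ hzQ hxy hxz
    have h1 : π (h * ⁅x, y⁆ * h⁻¹) = π ⁅x, y⁆ := by
      rw [map_mul, map_mul, map_inv, hz _ (A.cm x hx y hy), mul_assoc, mul_inv_cancel, mul_one]
    have h2 : h * ⁅x, y⁆ * h⁻¹ = ⁅h * x * h⁻¹, h * y * h⁻¹⁆ := by
      simp only [commutatorElement_def]; group
    rw [← h1, h2, e₁, e₂, map_commutatorElement, map_mul, map_mul,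
      comm_central _ _ _ _ (hz _ hk₁) (hz _ hk₂), ← map_commutatorElement]
  intro x hx y hy
  by_cases hxQ : x ∈ Q
  · rw [← inv_mem_iff, commutatorElement_inv]
    exact hC y x hxQ
  by_cases hyQ : y ∈ Q
  · exact hC x y hyQ
  by_cases hxy : x⁻¹ * y ∈ Q
  · have h1 : ⁅x, y⁆ = x * ⁅x, x⁻¹ * y⁆ * x⁻¹ := by
      simp only [commutatorElement_def]; group
    rw [h1]
    exact (inferInstance : C.Normal).conj_mem _ (hC _ _ hxy) x
  obtain ⟨b⟩ := A.nonempty
  obtain ⟨z, hzK, hz1⟩ := A.pick b {b, x • b, y⁻¹ • b, (y⁻¹ * x) • b} (by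
    exact (Finset.card_le_four).trans (by norm_num))
  simp only [Finset.mem_insert, Finset.mem_singleton, not_or] at hz1
  obtain ⟨h1, h2, h3, h4⟩ := hz1
  have hzQ : z ∉ Q := fun h => h1 ((A.memQ z).1 h b)
  have hxz : x⁻¹ * z ∉ Q := fun h => h2 (by
    have := (A.memQ _).1 h b
    rw [mul_smul, inv_smul_eq_iff] at this
    exact this)
  have hyz : y * z ∉ Q := fun h => h3 (by
    have := (A.memQ _).1 h b
    rw [mul_smul, ← eq_inv_smul_iff] at this
    exact this)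
  have hxyz : x⁻¹ * (y * z) ∉ Q := fun h => h4 (by
    have := (A.memQ _).1 h b
    rw [mul_smul, inv_smul_eq_iff, mul_smul, ← eq_inv_smul_iff] at this
    rw [mul_smul]
    exact this)
  have e1 := key x y z hx hy hzK hxQ hyQ hzQ hxy hxz
  have e2 := key x y (y * z) hx hy (mul_mem hy hzK) hxQ hyQ hyz hxy hxyz
  have e3 : ⁅x, y * z⁆ = ⁅x, y⁆ * (y * ⁅x, z⁆ * y⁻¹) := by
    simp only [commutatorElement_def]; group
  rw [e3, map_mul, map_mul π (y * _) _, map_mul π y, hz _ (A.cm x hx z hzK), mul_assoc (π _) (π y),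
    map_inv, mul_inv_cancel, mul_one, left_eq_mul, ← e1] at e2
  exact (hone _).1 e2

theorem Agl.sq_mem (A : Agl B K Q) (C : Subgroup H) [C.Normal] (hC : ∀ h : H, ∀ k ∈ Q, ⁅h, k⁆ ∈ C) :
    ∀ x ∈ K, ∃ k ∈ Q, (x * k) * (x * k) ∈ C := by
  classical
  let π := QuotientGroup.mk' C
  have hone : ∀ x : H, π x = 1 ↔ x ∈ C := fun x => QuotientGroup.eq_one_iff x
  have hz : ∀ k ∈ Q, ∀ g : H ⧸ C, g * π k = π k * g := by
    intro k hk g
    obtain ⟨h, rfl⟩ := QuotientGroup.mk'_surjective C g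
    have h1 := (hone _).2 (hC h k hk)
    rw [map_commutatorElement, commutatorElement_eq_one_iff_mul_comm] at h1
    exact h1
  intro x hx
  by_cases hxQ : x ∈ Q
  · exact ⟨x⁻¹, inv_mem hxQ, by rw [mul_inv_cancel, one_mul]; exact one_mem _⟩
  obtain ⟨b⟩ := A.nonempty
  obtain ⟨y, hy, hy1⟩ := A.pick b {b, x⁻¹ • b} ((Finset.card_le_two).trans (by norm_num))
  simp only [Finset.mem_insert, Finset.mem_singleton, not_or] at hy1
  obtain ⟨h1, h2⟩ := hy1
  have hyQ : y ∉ Q := fun h => h1 ((A.memQ _).1 h b)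
  have hxyQ : x * y ∉ Q := fun h => h2 (by
    have := (A.memQ _).1 h b
    rw [mul_smul, ← eq_inv_smul_iff] at this
    exact this)
  have sqc : ∀ h : H, π (h * x * h⁻¹) ^ 2 = π x ^ 2 := by
    intro h
    have e1 : (h * x * h⁻¹) ^ 2 = h * (x * x) * h⁻¹ := by rw [pow_two]; group
    rw [← map_pow, e1, map_mul, map_mul, map_inv, hz _ (A.sq x hx), mul_assoc, mul_inv_cancel, mul_one,
      map_mul, pow_two]
  obtain ⟨g₁, -, k₁, hk₁, e₁⟩ := A.move1 b hx hy hxQ hyQ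
  obtain ⟨g₂, -, k₂, hk₂, e₂⟩ := A.move1 b hx (mul_mem hx hy) hxQ hxyQ
  have s₁ := sqc g₁
  have s₂ := sqc g₂
  have c₁ : ∀ g, Commute g (π k₁) := hz k₁ hk₁
  have c₂ : ∀ g, Commute g (π k₂) := hz k₂ hk₂
  have c₃ : Commute (π x) (π y) := by
    have h3 := (hone _).2 (A.comm_mem C hC x hx y hy)
    rw [map_commutatorElement, commutatorElement_eq_one_iff_mul_comm] at h3
    exact h3
  rw [e₁, map_mul, (c₁ _).mul_pow] at s₁
  rw [e₂, map_mul, (c₂ _).mul_pow, map_mul, c₃.mul_pow, mul_assoc, mul_eq_left] at s₂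
  refine ⟨k₂ * k₁⁻¹, mul_mem hk₂ (inv_mem hk₁), ?_⟩
  rw [← hone, ← pow_two, map_pow, map_mul, map_mul, map_inv]
  have c₄ : Commute (π x) (π k₂ * (π k₁)⁻¹) := (c₂ _).mul_right (c₁ _).inv_right
  rw [c₄.mul_pow, ← s₁, ((c₁ (π k₂)).inv_right).mul_pow]
  have c₅ : Commute (π k₁ ^ 2) (π k₂ ^ 2) := ((c₂ _).pow_pow 2 2)
  calc π y ^ 2 * π k₁ ^ 2 * (π k₂ ^ 2 * (π k₁)⁻¹ ^ 2)
      = π y ^ 2 * (π k₁ ^ 2 * π k₂ ^ 2) * (π k₁)⁻¹ ^ 2 := by simp only [mul_assoc]
    _ = π y ^ 2 * (π k₂ ^ 2 * π k₁ ^ 2) * (π k₁)⁻¹ ^ 2 := by rw [c₅.eq]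
    _ = (π y ^ 2 * π k₂ ^ 2) * (π k₁ ^ 2 * (π k₁)⁻¹ ^ 2) := by simp only [mul_assoc]
    _ = 1 := by rw [s₂, one_mul, inv_pow, mul_inv_cancel]

end agl

end part3

end Cfsg.Agent.H32.NY.A32
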