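import Mathlib
import Cfsg.Agent.H32.NY.AglA
import Cfsg.Agent.H32.NY.Basic

/-!
# S4979, layer (I): the degree 8 case, the action on `P` (helper32)
-/

set_option autoImplicit false
set_option linter.unusedSectionVars false
set_option linter.style.haveILetI false

open Cfsg
open scoped commutatorElement Pointwise

namespace Cfsg.Agent.H32.NY.A32

open Cfsg.Agent.H32.NX9 Cfsg.Agent.H32.NX9 Cfsg.Agent.H32.NY.A32

section part4

open Cfsg.Agent.H37.NX Cfsg.Agent.H32.NY.A37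

/-- commutators act trivially on a normalised cyclic group -/
theorem cyc_comm {M L : Type*} [Group M] [Group L] (f : M →* L) (u : L)
    (hu : ∀ m, ∃ e : ℕ, f m * u * (f m)⁻¹ = u ^ e) (m n : M) : Commute (f ⁅m, n⁆) u := by
  have hp : ∀ (m : M) (v : L) (j : ℕ), f m * v ^ j * (f m)⁻¹ = (f m * v * (f m)⁻¹) ^ j := by
    intro m v j
    rw [← MulAut.conj_apply, ← MulAut.conj_apply, map_pow]
  obtain ⟨j, hj⟩ := hu (n * m)⁻¹
  obtain ⟨c, hc⟩ := hu m
  obtain ⟨d, hd⟩ := hu n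
  have h1 : f (m * n) * u ^ j * (f (m * n))⁻¹ = f (n * m) * u ^ j * (f (n * m))⁻¹ := by
    rw [hp, hp]
    congr 1
    have e1 : f (m * n) * u * (f (m * n))⁻¹ = f m * (f n * u * (f n)⁻¹) * (f m)⁻¹ := by
      rw [map_mul, mul_inv_rev]; simp only [mul_assoc]
    have e2 : f (n * m) * u * (f (n * m))⁻¹ = f n * (f m * u * (f m)⁻¹) * (f n)⁻¹ := by
      rw [map_mul, mul_inv_rev]; simp only [mul_assoc]
    rw [e1, e2, hc, hd, hp, hp, hc, hd, ← pow_mul, ← pow_mul, mul_comm]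
  have h2 : f (n * m) * u ^ j * (f (n * m))⁻¹ = u := by
    rw [← hj, map_inv]
    group
  have h3 : f ⁅m, n⁆ * u * (f ⁅m, n⁆)⁻¹ = u := by
    rw [comm_eq, map_mul f (m * n), mul_inv_rev (f (m * n))]
    have e3 : f (m * n) * f (n * m)⁻¹ * u * ((f (n * m)⁻¹)⁻¹ * (f (m * n))⁻¹) =
        f (m * n) * (f (n * m)⁻¹ * u * (f (n * m)⁻¹)⁻¹) * (f (m * n))⁻¹ := by
      simp only [mul_assoc]
    rw [e3, hj, h1, h2]
  exact (mul_inv_eq_iff_eq_mul.1 h3)

/-- elements of `H` centralising `P` modulo `N`. -/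
def CenP {H : Type*} [Group H] (N P : Subgroup H) [N.Normal] : Subgroup H :=
  (Subgroup.centralizer (P.map (QuotientGroup.mk' N) : Set (H ⧸ N))).comap (QuotientGroup.mk' N)

section cen
variable {H : Type*} [Group H] {N P : Subgroup H} [N.Normal]

theorem mk_comm_iff (a b : H) : (QuotientGroup.mk' N a * QuotientGroup.mk' N b =
    QuotientGroup.mk' N b * QuotientGroup.mk' N a) ↔ ⁅a, b⁆ ∈ N := by
  rw [← commutatorElement_eq_one_iff_mul_comm, ← map_commutatorElement]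
  exact QuotientGroup.eq_one_iff _

theorem mk_eq_one_iff (a : H) : QuotientGroup.mk' N a = 1 ↔ a ∈ N := QuotientGroup.eq_one_iff a

theorem mem_cenP {h : H} : h ∈ CenP N P ↔ ∀ x ∈ P, ⁅h, x⁆ ∈ N := by
  rw [CenP, Subgroup.mem_comap, Subgroup.mem_centralizer_iff]
  constructor
  · intro h1 x hx
    rw [← mk_comm_iff]
    exact (h1 _ (Subgroup.mem_map_of_mem _ hx)).symm
  · rintro h1 _ ⟨x, hx, rfl⟩
    exact ((mk_comm_iff _ _).2 (h1 x hx)).symm

theorem cenP_normal (hP : P.Normal) : (CenP N P).Normal := by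
  haveI : (P.map (QuotientGroup.mk' N)).Normal := hP.map _ (QuotientGroup.mk'_surjective N)
  exact (inferInstance : (Subgroup.centralizer (P.map (QuotientGroup.mk' N) : Set (H ⧸ N))).Normal).comap _

end cen

section imp
variable {p q : ℕ} {H V B : Type*} [Group H] [Finite H] [AddCommGroup V] [Finite V] [DistribMulAction H V]
  [Finite B] [MulAction H B] {W : B → AddSubgroup V} {K N Q : Subgroup H} {φ : N →* ℂˣ}
  {r a : ℕ} {P : Subgroup H} {t : B → H}

theorem N_normal (I : ImpW (V := V) p q W K N Q φ) : N.Normal := by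
  constructor
  intro n hn g
  rw [Subgroup.mem_center_iff.1 (I.core.cen hn) g, mul_inv_cancel_right]
  exact hn

theorem N_central (I : ImpW (V := V) p q W K N Q φ) {n : H} (hn : n ∈ N) (g : H) : g * n = n * g :=
  Subgroup.mem_center_iff.1 (I.core.cen hn) g

theorem r_ne (I : ImpW (V := V) p q W K N Q φ) (R : RData r a W N Q P t) : r ≠ p := by
  haveI : Fact r.Prime := ⟨R.prime⟩
  rintro rfl
  apply I.core.pK
  obtain ⟨i⟩ : Nonempty B := by
    rw [← Finite.card_pos_iff]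
    have := I.card
    have := I.hp.two_le
    omega
  have h1 : t i ≠ 1 := by
    intro h
    have h2 := (R.ord i 1).1 (by intro w _; rw [h, one_pow, one_smul])
    have h3 := Nat.le_of_dvd one_pos h2
    have h4 : r ^ 1 ≤ r ^ a := Nat.pow_le_pow_right R.prime.pos R.ha
    rw [pow_one] at h4
    have h5 := R.prime.two_le
    omega
  have h6 : r ∣ Nat.card P := by
    obtain ⟨n, hn⟩ := IsPGroup.iff_card.1 R.pg
    rcases Nat.eq_zero_or_pos n with h | h
    · exfalso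
      rw [h, pow_zero, Subgroup.card_eq_one] at hn
      exact h1 (by simpa [hn] using R.tP i)
    · rw [hn]
      exact dvd_pow_self r h.ne'
  exact h6.trans (Subgroup.card_dvd_of_le (R.PQ.trans I.QK))

theorem t_ne_one (R : RData r a W N Q P t) (i : B) : t i ≠ 1 := by
  intro h
  have h2 := (R.ord i 1).1 (by intro w _; rw [h, one_pow, one_smul])
  have h3 := Nat.le_of_dvd one_pos h2
  have h4 : r ^ 1 ≤ r ^ a := Nat.pow_le_pow_right R.prime.pos R.ha
  rw [pow_one] at h4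
  have h5 := R.prime.two_le
  omega

theorem sq_not_dvd (hr : r.Prime) (h2 : r ≠ 2) : ¬ r ^ 2 ∣ 1344 := by
  intro h
  have h1 := Nat.le_of_dvd (by norm_num) h
  have h3 : r ≤ 36 := by
    by_contra hc
    push Not at hc
    have : 37 ^ 2 ≤ r ^ 2 := Nat.pow_le_pow_left hc 2
    omega
  have h4 := hr.two_le
  interval_cases r <;> first | omega | (revert h; norm_num; done) | (revert hr; norm_num)

/-- L1: `P` is not central. -/
theorem not_central (I : ImpW (V := V) p q W K N Q φ) (R : RData r a W N Q P t) (hQ : Q.index = 1344)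
    (hP : P ≤ Subgroup.center H) : False := by
  haveI : Fact r.Prime := ⟨R.prime⟩
  obtain ⟨S, hS⟩ := R.pg.exists_le_sylow
  obtain ⟨i⟩ : Nonempty B := by
    rw [← Finite.card_pos_iff]
    have := I.card
    have := I.hp.two_le
    omega
  refine t_ne_one R i (central_trivial I.core.perf S ?_ (hS (R.tP i)) (hP (R.tP i)))
  -- the index of `P` in `S`
  have h1 : P.relIndex S ∣ 1344 := by
    have h2 : P.relIndex S ∣ P.relIndex Q * Q.index := by
      rw [Subgroup.relIndex_mul_index R.PQ, ← Subgroup.relIndex_mul_index hS]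
      exact dvd_mul_right _ _
    rw [hQ] at h2
    refine Nat.Coprime.dvd_of_dvd_mul_left ?_ h2
    obtain ⟨n, hn⟩ : ∃ n, P.relIndex S = r ^ n := by
      have h3 : P.relIndex S ∣ Nat.card S := Subgroup.relIndex_dvd_card _ _
      obtain ⟨m, hm⟩ := IsPGroup.iff_card.1 S.isPGroup'
      rw [hm] at h3
      obtain ⟨n, -, hn⟩ := (Nat.dvd_prime_pow R.prime).1 h3
      exact ⟨n, hn⟩
    rw [hn]
    exact Nat.Coprime.pow_left n ((Nat.Prime.coprime_iff_not_dvd R.prime).2 R.idx)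
  have h4 : P.relIndex S ∣ r := by
    have h3 : P.relIndex S ∣ Nat.card S := Subgroup.relIndex_dvd_card _ _
    obtain ⟨m, hm⟩ := IsPGroup.iff_card.1 S.isPGroup'
    rw [hm] at h3
    obtain ⟨n, -, hn⟩ := (Nat.dvd_prime_pow R.prime).1 h3
    rw [hn]
    rcases Nat.lt_or_ge n 2 with h5 | h5
    · calc r ^ n ∣ r ^ 1 := pow_dvd_pow r (by omega)
        _ = r := pow_one r
    · exact absurd ((pow_dvd_pow r h5).trans (hn ▸ h1)) (sq_not_dvd R.prime R.odd)
  have h6 : ∀ a b : (S : Subgroup H), a * b = b * a := by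
    haveI : (P.subgroupOf (S : Subgroup H)).Normal := R.nP.subgroupOf _
    haveI : IsCyclic ((S : Subgroup H) ⧸ P.subgroupOf (S : Subgroup H)) :=
      isCyclic_of_card_dvd_prime (p := r) h4
    have h7 : (QuotientGroup.mk' (P.subgroupOf (S : Subgroup H))).ker ≤ Subgroup.center S := ?_
    · exact (MonoidHom.isMulCommutative_of_isCyclic_of_ker_le_center _ h7).is_comm.comm
    rw [QuotientGroup.ker_mk']
    intro x hx
    rw [Subgroup.mem_center_iff]
    intro g
    exact Subtype.ext (Subgroup.mem_center_iff.1 (hP (Subgroup.mem_subgroupOf.1 hx)) g)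
  intro x hx y hy
  exact congrArg Subtype.val (h6 ⟨x, hx⟩ ⟨y, hy⟩)

/-- elements of `P` acting in the same way on a block -/
theorem exists_pow_block (_ : ImpW (V := V) p q W K N Q φ) (R : RData r a W N Q P t) (i : B) {x : H}
    (hx : x ∈ P) : ∃ j : ℕ, (t i ^ j)⁻¹ * x ∈ P ∧ ∀ w ∈ W i, ((t i ^ j)⁻¹ * x) • w = w := by
  obtain ⟨j, hj⟩ := R.gen i x hx
  refine ⟨j, mul_mem (inv_mem (pow_mem (R.tP i) j)) hx, ?_⟩
  intro w hw
  rw [mul_smul, hj w hw, inv_smul_smul]

/-- L3 -/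
theorem cenP_le (I : ImpW (V := V) p q W K N Q φ) (A : Agl B K Q) (R : RData r a W N Q P t)
    (hQ : Q.index = 1344) [N.Normal] : CenP N P ≤ Q := by
  classical
  haveI hCn := cenP_normal (N := N) R.nP
  intro c hc
  by_contra hcQ
  obtain ⟨b₀, hb₀⟩ : ∃ b : B, c • b ≠ b := by
    by_contra hcon
    push Not at hcon
    exact hcQ ((A.memQ _).2 hcon)
  have tr : ∀ i j : B, ∃ c ∈ CenP N P, c • i = j := normal_trans A.card A.t3 _ hCn hc hb₀
  have htriv : ∀ x ∈ P, ∀ i, (∀ w ∈ W i, x • w = w) → x ∈ N := by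
    intro x hx i hxi
    apply mem_N_of_blocks I
    intro j w hw
    obtain ⟨d, hd, rfl⟩ := tr i j
    have h1 := conj_trivial I (h := d) hxi w hw
    have h2 : d * x * d⁻¹ = ⁅d, x⁆ * x := by rw [commutatorElement_def]; group
    rw [h2, mul_smul, trivial_of_N I (mem_cenP.1 hd x hx)] at h1
    exact h1
  let π := QuotientGroup.mk' N
  have hpow : ∀ x ∈ P, ∃ j : ℕ, π x = π (t b₀) ^ j := by
    intro x hx
    obtain ⟨j, h1, h2⟩ := exists_pow_block I R b₀ hx
    have h3 := htriv _ h1 b₀ h2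
    refine ⟨j, ?_⟩
    rw [← map_pow]
    exact (QuotientGroup.eq.2 h3).symm
  have hcomm := cyc_comm π (π (t b₀)) (fun m => by
    rw [← map_inv, ← map_mul, ← map_mul]
    exact hpow _ (R.nP.conj_mem _ (R.tP b₀) m))
  have htop : CenP N P = ⊤ := by
    apply eq_top_of_commutator I.core.perf
    intro m n
    rw [mem_cenP]
    intro x hx
    rw [← mk_comm_iff]
    obtain ⟨j, hj⟩ := hpow x hx
    change π _ * π x = π x * π _
    rw [hj]
    exact (hcomm m n).pow_right j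
  refine not_central I R hQ ?_
  intro x hx
  refine Cfsg.Agent.H32.NY.A20.mem_center_of_perfect I.core.perf I.core.cen (N := N) ?_
  intro h
  rw [← inv_mem_iff, commutatorElement_inv]
  have h1 : h ∈ CenP N P := by rw [htop]; trivial
  exact mem_cenP.1 h1 x hx

/-- the action of the stabiliser of a block -/
def stabAct (I : ImpW (V := V) p q W K N Q φ) (i : B) : MulAction.stabilizer H i →* Equiv.Perm (W i) where
  toFun g :=
    { toFun := fun w => ⟨(g : H) • (w : V), by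
        have h1 := smul_mem_block I (g : H) w.2
        rwa [g.2] at h1⟩
      invFun := fun w => ⟨(g : H)⁻¹ • (w : V), by
        have h1 := smul_mem_block I (g⁻¹ : H) w.2
        have h2 : (g : H)⁻¹ • i = i := by rw [inv_smul_eq_iff]; exact g.2.symm
        rwa [h2] at h1⟩
      left_inv := fun w => Subtype.ext (inv_smul_smul _ _)
      right_inv := fun w => Subtype.ext (smul_inv_smul _ _) }
  map_one' := by
    ext w
    exact one_smul _ _
  map_mul' := by
    intro a b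
    ext w
    exact mul_smul _ _ _

theorem stabAct_eq_iff (I : ImpW (V := V) p q W K N Q φ) {i : B} {g h : MulAction.stabilizer H i} :
    stabAct I i g = stabAct I i h ↔ ∀ w ∈ W i, (g : H) • w = (h : H) • w := by
  constructor
  · intro e w hw
    exact congrArg (fun σ : Equiv.Perm (W i) => ((σ ⟨w, hw⟩ : W i) : V)) e
  · intro e
    ext w
    exact e w w.2

theorem orderOf_blk (I : ImpW (V := V) p q W K N Q φ) (R : RData r a W N Q P t) (i : B) :
    orderOf (blk I i ⟨t i, R.PQ (R.tP i)⟩) = r ^ a := by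
  apply Nat.dvd_antisymm
  · rw [orderOf_dvd_iff_pow_eq_one, blk_pow_eq_one_iff, R.ord]
  · rw [← R.ord i, ← blk_pow_eq_one_iff I (R.PQ (R.tP i))]
    exact pow_orderOf_eq_one _

theorem pow_mem_N (I : ImpW (V := V) p q W K N Q φ) (R : RData r a W N Q P t) {x : H} (hx : x ∈ P) :
    x ^ r ^ a ∈ N := by
  apply mem_N_of_blocks I
  intro i
  obtain ⟨j, hj⟩ := R.gen i x hx
  intro w hw
  rw [pow_agree I (Q.pow_mem (R.PQ (R.tP i)) j) hj _ w hw, ← pow_mul, mul_comm, pow_mul]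
  have h2 : ∀ w ∈ W i, t i ^ r ^ a • w = w := (R.ord i _).2 dvd_rfl
  have h3 := pow_agree I (y := 1) Q.one_mem (i := i) (x := t i ^ r ^ a) (by
    intro w hw
    rw [h2 w hw, one_smul]) j w hw
  rwa [one_pow, one_smul] at h3

theorem mem_cenP_of_modEq (I : ImpW (V := V) p q W K N Q φ) (R : RData r a W N Q P t) [N.Normal] {k : H} {e : ℕ}
    (he : ∀ x ∈ P, k * x * k⁻¹ * (x ^ e)⁻¹ ∈ N) (h1 : e ≡ 1 [MOD r ^ a]) : k ∈ CenP N P := by
  rw [mem_cenP]
  intro x hx
  have h2 : (QuotientGroup.mk' N x) ^ e = (QuotientGroup.mk' N x) ^ 1 := by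
    rw [pow_eq_pow_iff_modEq]
    refine h1.of_dvd ?_
    rw [orderOf_dvd_iff_pow_eq_one, ← map_pow]
    exact (mk_eq_one_iff _).2 (pow_mem_N I R hx)
  have h3 := (mk_eq_one_iff _).2 (he x hx)
  rw [map_mul, map_inv, map_pow, h2, pow_one, mul_inv_eq_one] at h3
  rw [← mk_eq_one_iff, commutatorElement_def, map_mul, h3, map_inv, mul_inv_cancel]

theorem pm_one (hr : r.Prime) (h2 : r ≠ 2) {e : ℕ} (h : e * e ≡ 1 [MOD r ^ a]) :
    e ≡ 1 [MOD r ^ a] ∨ r ^ a ∣ e + 1 := by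
  have hrZ : Prime (r : ℤ) := Nat.prime_iff_prime_int.1 hr
  have h1 : (r : ℤ) ^ a ∣ (e - 1) * (e + 1) := by
    have h3 := Nat.modEq_iff_dvd.1 h.symm
    push_cast at h3
    have : ((e : ℤ) - 1) * (e + 1) = e * e - 1 := by ring
    rw [this]
    exact h3
  by_cases h4 : (r : ℤ) ∣ e + 1
  · right
    have h5 : ¬ (r : ℤ) ∣ e - 1 := by
      intro h6
      have h7 : (r : ℤ) ∣ 2 := by
        have := dvd_sub h4 h6
        ring_nf at this
        exact this
      have h8 : r ∣ 2 := by exact_mod_cast h7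
      exact h2 ((Nat.prime_dvd_prime_iff_eq hr Nat.prime_two).1 h8)
    have h6 : IsCoprime ((r : ℤ) ^ a) (e - 1) := ((Prime.coprime_iff_not_dvd hrZ).2 h5).pow_left
    have h7 := h6.dvd_of_dvd_mul_left h1
    exact_mod_cast h7
  · left
    have h6 : IsCoprime ((r : ℤ) ^ a) (e + 1) := ((Prime.coprime_iff_not_dvd hrZ).2 h4).pow_left
    have h7 := h6.dvd_of_dvd_mul_right h1
    rw [Nat.ModEq.comm, Nat.modEq_iff_dvd]
    push_cast
    exact h7

/-- L6 -/
theorem Q_le_cenP (I : ImpW (V := V) p q W K N Q φ) (A : Agl B K Q) (R : RData r a W N Q P t)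
    (S : Scal N Q P) [N.Normal]
    (hni : ∀ i, ∀ k ∈ Q, ¬ ∀ w ∈ W i, k • t i • w = (t i)⁻¹ • k • w) : Q ≤ CenP N P := by
  classical
  haveI hCn := cenP_normal (N := N) R.nP
  set C := CenP N P with hCdef
  let π := QuotientGroup.mk' N
  -- `Q` is central mod `C`
  have hC : ∀ h : H, ∀ k ∈ Q, ⁅h, k⁆ ∈ C := by
    intro h k hk
    obtain ⟨e, he⟩ := S k hk
    have he' : ∀ x ∈ P, π k * π x * (π k)⁻¹ = (π x) ^ e := by
      intro x hx
      have h3 := (mk_eq_one_iff _).2 (he x hx)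
      rw [map_mul, map_inv, mul_inv_eq_one, map_mul, map_mul, map_inv, map_pow] at h3
      exact h3
    rw [hCdef, mem_cenP]
    intro x hx
    rw [← mk_comm_iff]
    change π ⁅h, k⁆ * π x = π x * π ⁅h, k⁆
    have h4 : h⁻¹ * (k⁻¹ * x * k) * h ∈ P := by
      have h5 := R.nP.conj_mem _ (R.nP.conj_mem _ hx k⁻¹) h⁻¹
      rwa [inv_inv, inv_inv] at h5
    have h5 : k⁻¹ * x * k ∈ P := by
      have h5 := R.nP.conj_mem _ hx k⁻¹
      rwa [inv_inv] at h5
    have h6 := he' _ h4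
    have h7 := he' _ h5
    have h8 : π h * (π k * π (h⁻¹ * (k⁻¹ * x * k) * h) * (π k)⁻¹) * (π h)⁻¹ =
        π k * π (k⁻¹ * x * k) * (π k)⁻¹ := by
      rw [h6, h7, ← MulAut.conj_apply, map_pow, MulAut.conj_apply, map_mul π _ h, map_mul π h⁻¹, map_inv]
      group
    have h9 : π k * π (k⁻¹ * x * k) * (π k)⁻¹ = π x := by
      rw [map_mul, map_mul, map_inv]; group
    rw [h9] at h8
    have h10 : π h * (π k * π (h⁻¹ * (k⁻¹ * x * k) * h) * (π k)⁻¹) * (π h)⁻¹ =
        π ⁅h, k⁆ * π x * (π ⁅h, k⁆)⁻¹ := by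
      rw [commutatorElement_def]
      simp only [map_mul, map_inv]
      group
    rw [h10] at h8
    exact mul_inv_eq_iff_eq_mul.1 h8
  have hKC := A.comm_mem C hC
  have hKsq := A.sq_mem C hC
  let σ := QuotientGroup.mk' C
  have hσ : ∀ x : H, σ x = 1 ↔ x ∈ C := fun x => QuotientGroup.eq_one_iff x
  -- `Ω`
  let Ω : Subgroup H :=
    { carrier := {x | x ∈ K ∧ x * x ∈ C}
      one_mem' := ⟨one_mem _, by rw [one_mul]; exact one_mem _⟩
      mul_mem' := by
        rintro x y ⟨hx, hx'⟩ ⟨hy, hy'⟩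
        refine ⟨mul_mem hx hy, ?_⟩
        have c : σ x * σ y = σ y * σ x := by
          have h3 := (hσ _).2 (hKC x hx y hy)
          rw [map_commutatorElement, commutatorElement_eq_one_iff_mul_comm] at h3
          exact h3
        rw [← hσ] at hx' hy' ⊢
        rw [map_mul] at hx' hy'
        rw [map_mul, map_mul, mul_assoc, ← mul_assoc (σ y), ← c, mul_assoc, hy', mul_one, hx']
      inv_mem' := by
        rintro x ⟨hx, hx'⟩
        refine ⟨inv_mem hx, ?_⟩
        rw [← mul_inv_rev]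
        exact inv_mem hx' }
  have hΩmem : ∀ x, x ∈ Ω ↔ x ∈ K ∧ x * x ∈ C := fun _ => Iff.rfl
  haveI hΩn : Ω.Normal := by
    constructor
    rintro x ⟨hx, hx'⟩ g
    refine ⟨A.nK.conj_mem _ hx g, ?_⟩
    have e1 : g * x * g⁻¹ * (g * x * g⁻¹) = g * (x * x) * g⁻¹ := by group
    rw [e1]
    exact hCn.conj_mem _ hx' g
  have hΩtr : ∀ b c : B, ∃ x ∈ Ω, x • b = c := by
    intro b c
    obtain ⟨x, hx, hxb⟩ := A.tr b c
    obtain ⟨k, hk, hk'⟩ := hKsq x hx
    refine ⟨x * k, ⟨mul_mem hx (A.QK hk), hk'⟩, ?_⟩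
    rw [mul_smul, (A.memQ k).1 hk, hxb]
  -- `Ω ∩ Q = C`
  have hΩQ : ∀ x ∈ Ω, x ∈ Q → x ∈ C := by
    rintro ω ⟨-, hω2⟩ hωQ
    obtain ⟨e, he⟩ := S ω hωQ
    obtain ⟨b⟩ := A.nonempty
    set τ := blk I b ⟨t b, R.PQ (R.tP b)⟩ with hτ
    have h1 : ∀ (g : H) (hg : g ∈ Q) (e : ℕ), g * t b * g⁻¹ * (t b ^ e)⁻¹ ∈ N →
        blk I b ⟨g, hg⟩ * τ * (blk I b ⟨g, hg⟩)⁻¹ = τ ^ e := by
      intro g hg e hge
      rw [hτ, ← map_inv, ← map_mul, ← map_mul, ← map_pow, ← mul_inv_eq_one, ← map_inv, ← map_mul,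
        blk_eq_one_iff]
      intro w _
      exact trivial_of_N I hge w
    have h2 := h1 ω hωQ e (he _ (R.tP b))
    have h3 := h1 (ω * ω) (mul_mem hωQ hωQ) 1 (by
      rw [pow_one]
      exact mem_cenP.1 hω2 _ (R.tP b))
    have h4 : blk I b ⟨ω * ω, mul_mem hωQ hωQ⟩ = blk I b ⟨ω, hωQ⟩ * blk I b ⟨ω, hωQ⟩ := by
      rw [← map_mul]; rfl
    have h5 : τ ^ (e * e) = τ ^ 1 := by
      rw [← h3, h4, mul_inv_rev]
      have : blk I b ⟨ω, hωQ⟩ * blk I b ⟨ω, hωQ⟩ * τ * ((blk I b ⟨ω, hωQ⟩)⁻¹ * (blk I b ⟨ω, hωQ⟩)⁻¹) =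
        blk I b ⟨ω, hωQ⟩ * (blk I b ⟨ω, hωQ⟩ * τ * (blk I b ⟨ω, hωQ⟩)⁻¹) * (blk I b ⟨ω, hωQ⟩)⁻¹ := by
        simp only [mul_assoc]
      rw [this, h2, ← MulAut.conj_apply, map_pow, MulAut.conj_apply, h2, ← pow_mul]
    rw [pow_eq_pow_iff_modEq, orderOf_blk I R b] at h5
    rcases pm_one R.prime R.odd h5 with h6 | h6
    · exact mem_cenP_of_modEq I R he h6
    · exfalso
      refine hni b ω hωQ ?_
      have h7 : τ ^ (e + 1) = 1 := by
        rw [← orderOf_dvd_iff_pow_eq_one, orderOf_blk I R b]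
        exact h6
      have h8 : τ ^ e = τ⁻¹ := by
        rw [pow_succ] at h7
        exact eq_inv_of_mul_eq_one_left h7
      rw [h8] at h2
      have h9 : blk I b ⟨ω, hωQ⟩ * τ = τ⁻¹ * blk I b ⟨ω, hωQ⟩ := mul_inv_eq_iff_eq_mul.1 h2
      rw [hτ, ← map_inv, ← map_mul, ← map_mul, blk_eq_iff] at h9
      intro w hw
      have h10 := h9 w hw
      simp only [Subgroup.coe_mul, Subgroup.coe_inv, mul_smul] at h10
      exact h10
  -- the stabiliser
  obtain ⟨b⟩ := A.nonempty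
  let M := MulAction.stabilizer H b
  have hmem : ∀ x ∈ Q, x ∈ M := fun x hx => (A.memQ x).1 hx b
  have htM : t b ∈ M := hmem _ (R.PQ (R.tP b))
  let f := stabAct I b
  have hcomm := cyc_comm f (f ⟨t b, htM⟩) (by
    intro m
    obtain ⟨j, hj⟩ := R.gen b _ (R.nP.conj_mem _ (R.tP b) (m : H))
    refine ⟨j, ?_⟩
    rw [← map_inv, ← map_mul, ← map_mul, ← map_pow, stabAct_eq_iff]
    exact hj)
  let U : Subgroup H := ((Subgroup.centralizer {f ⟨t b, htM⟩}).comap f).map M.subtype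
  have hU : ∀ (m : H) (hm : m ∈ M), m ∈ U ↔ f ⟨m, hm⟩ * f ⟨t b, htM⟩ = f ⟨t b, htM⟩ * f ⟨m, hm⟩ := by
    intro m hm
    constructor
    · rintro ⟨m', hm', rfl⟩
      rw [SetLike.mem_coe, Subgroup.mem_comap, Subgroup.mem_centralizer_singleton_iff] at hm'
      exact hm'
    · intro h
      refine ⟨⟨m, hm⟩, ?_, rfl⟩
      rw [SetLike.mem_coe, Subgroup.mem_comap, Subgroup.mem_centralizer_singleton_iff]
      exact h
  have htop : U ⊔ Ω = ⊤ := by
    apply eq_top_of_commutator I.core.perf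
    intro g h
    have hdec : ∀ g : H, ∃ m ∈ M, ∃ ω ∈ Ω, g = m * ω := by
      intro g
      obtain ⟨ω, hω, h1⟩ := hΩtr b (g⁻¹ • b)
      refine ⟨g * ω, ?_, ω⁻¹, inv_mem hω, by group⟩
      change (g * ω) • b = b
      rw [mul_smul, h1, smul_inv_smul]
    obtain ⟨m, hm, ω, hω, rfl⟩ := hdec g
    obtain ⟨n, hn, ρ, hρ, rfl⟩ := hdec h
    have h1 : ⁅m, n⁆ ∈ U := by
      refine ⟨⁅(⟨m, hm⟩ : M), (⟨n, hn⟩ : M)⁆, ?_, rfl⟩
      rw [SetLike.mem_coe, Subgroup.mem_comap, Subgroup.mem_centralizer_singleton_iff]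
      exact (hcomm ⟨m, hm⟩ ⟨n, hn⟩).eq
    have h2 : ⁅m, n⁆⁻¹ * ⁅m * ω, n * ρ⁆ ∈ Ω := by
      rw [← QuotientGroup.eq_one_iff (N := Ω)]
      have h3 : ((m * ω : H) : H ⧸ Ω) = (m : H ⧸ Ω) := by
        rw [QuotientGroup.mk_mul, (QuotientGroup.eq_one_iff ω).2 hω, mul_one]
      have h4 : ((n * ρ : H) : H ⧸ Ω) = (n : H ⧸ Ω) := by
        rw [QuotientGroup.mk_mul, (QuotientGroup.eq_one_iff ρ).2 hρ, mul_one]
      have h5 : ∀ x y : H, ((⁅x, y⁆ : H) : H ⧸ Ω) = ⁅(x : H ⧸ Ω), (y : H ⧸ Ω)⁆ := fun x y =>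
        map_commutatorElement (QuotientGroup.mk' Ω) x y
      rw [QuotientGroup.mk_mul, QuotientGroup.mk_inv, h5, h5, h3, h4, inv_mul_cancel]
    have h6 : ⁅m * ω, n * ρ⁆ = ⁅m, n⁆ * (⁅m, n⁆⁻¹ * ⁅m * ω, n * ρ⁆) := by group
    rw [h6]
    exact mul_mem (Subgroup.mem_sup_left h1) (Subgroup.mem_sup_right h2)
  intro k hk
  have h1 : k ∈ U ⊔ Ω := by rw [htop]; trivial
  rw [Subgroup.mem_sup_of_normal_right] at h1
  obtain ⟨u, hu, ω, hω, rfl⟩ := h1
  have huM : u ∈ M := by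
    obtain ⟨u', -, rfl⟩ := hu
    exact u'.2
  have hωQ : ω ∈ Q := by
    refine A.reg ω hω.1 b ?_
    have h2 : (u * ω) • b = b := hmem _ hk
    rw [mul_smul, ← eq_inv_smul_iff] at h2
    rw [h2, inv_smul_eq_iff]
    exact huM.symm
  have hωC := hΩQ ω hω hωQ
  refine mul_mem ?_ hωC
  have huQ : u ∈ Q := by
    have := mul_mem hk (inv_mem hωQ)
    rwa [mul_inv_cancel_right] at this
  obtain ⟨e, he⟩ := S u huQ
  refine mem_cenP_of_modEq I R he ?_
  rw [← orderOf_blk I R b, ← pow_eq_pow_iff_modEq, pow_one, ← map_pow, blk_eq_iff]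
  have h2 := (hU u huM).1 hu
  intro w hw
  have h3 : (u * t b * u⁻¹ * (t b ^ e)⁻¹) • (t b ^ e • w) = t b ^ e • w := trivial_of_N I (he _ (R.tP b)) _
  rw [mul_smul _ ((t b ^ e)⁻¹), inv_smul_smul] at h3
  have h4 := (mul_inv_eq_iff_eq_mul.2 h2)
  rw [← map_inv, ← map_mul, ← map_mul, stabAct_eq_iff] at h4
  have h5 := h4 w hw
  change (u * t b * u⁻¹) • w = t b • w at h5
  change t b ^ e • w = t b • w
  rw [← h3, h5]

end imp

end part4

section part5

open Cfsg.Agent.H37.NX Cfsg.Agent.H32.NY.A37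

/-- `closure_eig` for a normal abelian subgroup. -/
theorem closure_eig_conj {G : Type*} [Group G] [Finite G] (P K : Subgroup G) (hP : P.Normal)
    (hab : ∀ x ∈ P, ∀ y ∈ P, x * y = y * x) (hodd : ¬ 2 ∣ Nat.card P)
    (hsq : ∀ g ∈ K, ∀ x ∈ P, g * (g * x * g⁻¹) * g⁻¹ = x)
    (hcm : ∀ g ∈ K, ∀ h ∈ K, ∀ x ∈ P, g * (h * x * h⁻¹) * g⁻¹ = h * (g * x * g⁻¹) * h⁻¹) :
    P ≤ Subgroup.closure {y | y ∈ P ∧ ∀ g ∈ K, g * y * g⁻¹ = y ∨ g * y * g⁻¹ = y⁻¹} := by
  letI : CommGroup P :=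
    { (inferInstance : Group P) with
      mul_comm := fun a b => Subtype.ext (hab a a.2 b b.2) }
  let α : K →* MulAut P := (MulAut.conjNormal (H := P)).comp K.subtype
  have hα : ∀ (g : K) (x : P), ((α g x : P) : G) = (g : G) * x * (g : G)⁻¹ := fun g x => rfl
  have h1 := closure_eig hodd α (by
    intro g x
    apply Subtype.ext
    rw [hα, hα]
    exact hsq g g.2 x x.2) (by
    intro g h x
    apply Subtype.ext
    rw [hα, hα, hα, hα]
    exact hcm g g.2 h h.2 x x.2)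
  intro x hx
  have h2 : (⟨x, hx⟩ : P) ∈ Subgroup.closure {y : P | ∀ g, α g y = y ∨ α g y = y⁻¹} := by
    rw [h1]; trivial
  have h3 := Subgroup.mem_map_of_mem P.subtype h2
  rw [MonoidHom.map_closure] at h3
  refine Subgroup.closure_mono ?_ h3
  rintro _ ⟨y, hy, rfl⟩
  refine ⟨y.2, fun g hg => ?_⟩
  rcases hy ⟨g, hg⟩ with h4 | h4
  · left
    have := congrArg Subtype.val h4
    exact this
  · right
    have := congrArg Subtype.val h4
    exact this

section imp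
variable {p q : ℕ} {H V B : Type*} [Group H] [Finite H] [AddCommGroup V] [Finite V] [DistribMulAction H V]
  [Finite B] [MulAction H B] {W : B → AddSubgroup V} {K N Q : Subgroup H} {φ : N →* ℂˣ}
  {r a : ℕ} {P : Subgroup H} {t : B → H}

/-- the eigenvectors of `K` in `P` mod `N` -/
def EigP {H : Type*} [Group H] (K N P : Subgroup H) : Set H :=
  {y | y ∈ P ∧ ∀ g ∈ K, ⁅g, y⁆ ∈ N ∨ g * y * g⁻¹ * y ∈ N}

theorem closure_eigP [N.Normal] (hN : ∀ n ∈ N, ∀ g : H, g * n = n * g) (A : Agl B K Q)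
    (R : RData r a W N Q P t) (hQ : ∀ k ∈ Q, ∀ x ∈ P, ⁅k, x⁆ ∈ N) : P ≤ Subgroup.closure (EigP K N P) := by
  let π := QuotientGroup.mk' N
  have hπ : ∀ x, π x = 1 ↔ x ∈ N := fun x => mk_eq_one_iff x
  haveI hPn : (P.map π).Normal := R.nP.map _ (QuotientGroup.mk'_surjective N)
  have hQ' : ∀ k ∈ Q, ∀ x ∈ P, π k * π x * (π k)⁻¹ = π x := by
    intro k hk x hx
    have h1 := (mk_comm_iff (N := N) k x).2 (hQ k hk x hx)
    exact mul_inv_eq_iff_eq_mul.2 h1
  have h1 := closure_eig_conj (P.map π) (K.map π) hPn (by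
      rintro _ ⟨x, hx, rfl⟩ _ ⟨y, hy, rfl⟩
      exact (mk_comm_iff x y).2 (R.comm x hx y hy)) (by
      intro h
      haveI : Fact r.Prime := ⟨R.prime⟩
      have h2 : IsPGroup r (P.map π) := R.pg.map π
      obtain ⟨n, hn⟩ := IsPGroup.iff_card.1 h2
      rw [hn] at h
      exact R.odd ((Nat.prime_dvd_prime_iff_eq Nat.prime_two R.prime).1 (Nat.prime_two.dvd_of_dvd_pow h)).symm)
    (by
      rintro _ ⟨g, hg, rfl⟩ _ ⟨x, hx, rfl⟩
      have h2 := hQ' _ (A.sq g hg) x hx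
      rw [map_mul] at h2
      conv_rhs => rw [← h2]
      group)
    (by
      rintro _ ⟨g, hg, rfl⟩ _ ⟨h, hh, rfl⟩ _ ⟨x, hx, rfl⟩
      have h3 : (h * g)⁻¹ * (g * h) ∈ Q := by
        have := A.cm g⁻¹ (inv_mem hg) h⁻¹ (inv_mem hh)
        rw [commutatorElement_def, inv_inv, inv_inv] at this
        rw [mul_inv_rev, ← mul_assoc]
        exact this
      have h2 := hQ' _ h3 x hx
      have h4 : π g * (π h * π x * (π h)⁻¹) * (π g)⁻¹ =
          π (h * g) * (π ((h * g)⁻¹ * (g * h)) * π x * (π ((h * g)⁻¹ * (g * h)))⁻¹) * (π (h * g))⁻¹ := by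
        simp only [map_mul, map_inv]
        group
      rw [h4, h2, map_mul]
      group)
  intro x hx
  have h2 := h1 (Subgroup.mem_map_of_mem π hx)
  have h3 : Subgroup.closure {y | y ∈ P.map π ∧ ∀ g ∈ K.map π, g * y * g⁻¹ = y ∨ g * y * g⁻¹ = y⁻¹} ≤
      (Subgroup.closure (EigP K N P)).map π := by
    rw [Subgroup.closure_le]
    rintro _ ⟨⟨y, hy, rfl⟩, h4⟩
    refine Subgroup.mem_map_of_mem π (Subgroup.subset_closure ⟨hy, fun g hg => ?_⟩)
    rcases h4 _ (Subgroup.mem_map_of_mem π hg) with h5 | h5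
    · left
      rw [← mk_comm_iff]
      exact mul_inv_eq_iff_eq_mul.1 h5
    · right
      rw [← hπ, map_mul, map_mul, map_mul, map_inv, h5, inv_mul_cancel]
  obtain ⟨e, he, hex⟩ := h3 h2
  have h4 : e⁻¹ * x ∈ N := by
    rw [← hπ, map_mul, map_inv, hex, inv_mul_cancel]
  have heP : e ∈ P := by
    have h5 : Subgroup.closure (EigP K N P) ≤ P := by
      rw [Subgroup.closure_le]
      exact fun y hy => hy.1
    exact h5 he
  have h5 : x = e * (e⁻¹ * x) := by group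
  rw [h5]
  refine mul_mem he (Subgroup.subset_closure ⟨mul_mem (inv_mem heP) hx, fun g _ => Or.inl ?_⟩)
  rw [commutatorElement_def, hN _ h4 g, mul_inv_cancel_right, mul_inv_cancel]
  exact one_mem _

/-- L7 -/
theorem P_comm (I : ImpW (V := V) p q W K N Q φ) (A : Agl B K Q) (R : RData r a W N Q P t)
    (hQ : ∀ k ∈ Q, ∀ x ∈ P, ⁅k, x⁆ ∈ N) : ∀ x ∈ P, ∀ y ∈ P, x * y = y * x := by
  haveI := N_normal I
  haveI : Fact r.Prime := ⟨R.prime⟩
  have hN : ∀ n ∈ N, ∀ g : H, g * n = n * g := fun n hn g => N_central I hn g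
  have hcl := closure_eigP hN A R hQ
  -- eigenvectors commute
  have key1 : ∀ x ∈ P, ∀ y ∈ P, ∀ g ∈ K, ⁅g, x⁆ ∈ N → g * y * g⁻¹ * y ∈ N → x * y = y * x := by
    intro x hx y hy g _ h1 h2
    have hc := R.comm x hx y hy
    have e1 : g * x * g⁻¹ = x * (x⁻¹ * ⁅g, x⁆ * x) := by
      rw [commutatorElement_def]; group
    have n1 : x⁻¹ * ⁅g, x⁆ * x = ⁅g, x⁆ := by
      rw [hN _ h1, mul_assoc, inv_mul_cancel, mul_one]
    have e2 : g * y * g⁻¹ = y⁻¹ * (y * (g * y * g⁻¹ * y) * y⁻¹) := by group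
    have n2 : y * (g * y * g⁻¹ * y) * y⁻¹ = g * y * g⁻¹ * y := by
      rw [hN _ h2 y, mul_assoc, mul_inv_cancel, mul_one]
    rw [n1] at e1
    rw [n2] at e2
    have e3 : ⁅g * x * g⁻¹, g * y * g⁻¹⁆ = ⁅x, y⁻¹⁆ := by
      rw [e1, e2]
      exact comm_central _ _ _ _ (hN _ h1) (hN _ h2)
    have e4 : ⁅g * x * g⁻¹, g * y * g⁻¹⁆ = g * ⁅x, y⁆ * g⁻¹ := by
      simp only [commutatorElement_def]; group
    rw [e4, hN _ hc g, mul_inv_cancel_right] at e3
    have e5 : ⁅x, y⁻¹⁆ = y⁻¹ * ⁅x, y⁆⁻¹ * y := by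
      simp only [commutatorElement_def]; group
    rw [e5, hN _ (inv_mem hc), mul_assoc, inv_mul_cancel, mul_one] at e3
    have e6 : ⁅x, y⁆ ^ 2 = 1 := by
      rw [pow_two]
      nth_rewrite 1 [e3]
      exact inv_mul_cancel _
    have hP : ⁅x, y⁆ ∈ P := mul_mem (mul_mem (mul_mem hx hy) (inv_mem hx)) (inv_mem hy)
    obtain ⟨k, hk⟩ := R.pg ⟨_, hP⟩
    have hk' : ⁅x, y⁆ ^ r ^ k = 1 := congrArg Subtype.val hk
    have e7 : orderOf ⁅x, y⁆ ∣ 2 := orderOf_dvd_of_pow_eq_one e6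
    have e8 : orderOf ⁅x, y⁆ ∣ r ^ k := orderOf_dvd_of_pow_eq_one hk'
    have e9 : Nat.Coprime 2 (r ^ k) := by
      refine Nat.Coprime.pow_right k ?_
      exact (Nat.coprime_primes Nat.prime_two R.prime).2 (Ne.symm R.odd)
    have e10 := Nat.eq_one_of_dvd_coprimes e9 e7 e8
    exact commutatorElement_eq_one_iff_mul_comm.1 (orderOf_eq_one_iff.1 e10)
  have key : ∀ x ∈ EigP K N P, ∀ y ∈ EigP K N P, x * y = y * x := by
    rintro x ⟨hx, hx'⟩ y ⟨hy, hy'⟩
    by_cases h1 : ∃ g ∈ K, ⁅g, x⁆ ∈ N ∧ g * y * g⁻¹ * y ∈ N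
    · obtain ⟨g, hg, h2, h3⟩ := h1
      exact key1 x hx y hy g hg h2 h3
    by_cases h2 : ∃ g ∈ K, ⁅g, y⁆ ∈ N ∧ g * x * g⁻¹ * x ∈ N
    · obtain ⟨g, hg, h2, h3⟩ := h2
      exact (key1 y hy x hx g hg h2 h3).symm
    push Not at h1 h2
    -- the eigenspace of `x`
    let Λ : Subgroup H :=
      { carrier := {z | z ∈ P ∧ ∀ g ∈ K, (⁅g, x⁆ ∈ N → ⁅g, z⁆ ∈ N) ∧
          (g * x * g⁻¹ * x ∈ N → g * z * g⁻¹ * z ∈ N)}
        one_mem' := ⟨one_mem _, fun g _ => ⟨fun _ => by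
          rw [commutatorElement_one_right]; exact one_mem _, fun _ => by
          rw [mul_one, mul_one, mul_inv_cancel]; exact one_mem _⟩⟩
        mul_mem' := by
          rintro z z' ⟨hz, hz1⟩ ⟨hz', hz2⟩
          refine ⟨mul_mem hz hz', fun g hg => ⟨fun h3 => ?_, fun h3 => ?_⟩⟩
          · have h4 := (hz1 g hg).1 h3
            have h5 := (hz2 g hg).1 h3
            have h6 : ⁅g, z * z'⁆ = ⁅g, z⁆ * (z * ⁅g, z'⁆ * z⁻¹) := by
              simp only [commutatorElement_def]; group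
            rw [h6]
            exact mul_mem h4 ((inferInstance : N.Normal).conj_mem _ h5 z)
          · have h4 := (hz1 g hg).2 h3
            have h5 := (hz2 g hg).2 h3
            have h6 : g * (z * z') * g⁻¹ * (z * z') =
                (g * z * g⁻¹ * z) * (z⁻¹ * (g * z' * g⁻¹ * z') * z) * (z⁻¹ * ⁅z'⁻¹, z⁆ * z) := by
              simp only [commutatorElement_def]; group
            rw [h6]
            have h7 := (inferInstance : N.Normal).conj_mem _ h5 z⁻¹
            have h8 := (inferInstance : N.Normal).conj_mem _ (R.comm _ (inv_mem hz') _ hz) z⁻¹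
            rw [inv_inv] at h7 h8
            exact mul_mem (mul_mem h4 h7) h8
        inv_mem' := by
          rintro z ⟨hz, hz1⟩
          refine ⟨inv_mem hz, fun g hg => ⟨fun h3 => ?_, fun h3 => ?_⟩⟩
          · have h4 := (hz1 g hg).1 h3
            have h6 : ⁅g, z⁻¹⁆ = z⁻¹ * ⁅g, z⁆⁻¹ * z := by
              simp only [commutatorElement_def]; group
            rw [h6]
            have h7 := (inferInstance : N.Normal).conj_mem _ (inv_mem h4) z⁻¹
            rwa [inv_inv] at h7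
          · have h4 := (hz1 g hg).2 h3
            have h6 : g * z⁻¹ * g⁻¹ * z⁻¹ = (g * z * g⁻¹)⁻¹ * (g * z * g⁻¹ * z)⁻¹ * (g * z * g⁻¹) := by
              group
            rw [h6]
            have h7 := (inferInstance : N.Normal).conj_mem _ (inv_mem h4) (g * z * g⁻¹)⁻¹
            rwa [inv_inv] at h7 }
    have hxΛ : x ∈ Λ := ⟨hx, fun g hg => ⟨id, id⟩⟩
    have hyΛ : y ∈ Λ := by
      refine ⟨hy, fun g hg => ⟨fun h3 => ?_, fun h3 => ?_⟩⟩
      · rcases hy' g hg with h4 | h4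
        · exact h4
        · exact absurd h4 (h1 g hg h3)
      · rcases hy' g hg with h4 | h4
        · exact absurd h3 (h2 g hg h4)
        · exact h4
    obtain ⟨b⟩ := A.nonempty
    have hΛP : Λ ≤ P := fun z hz => hz.1
    have htriv : ∀ z ∈ Λ, (∀ w ∈ W b, z • w = w) → z ∈ N := by
      rintro z ⟨hz, hz1⟩ hzb
      apply mem_N_of_blocks I
      intro c w hw
      obtain ⟨g, hg, rfl⟩ := A.tr b c
      have h3 := conj_trivial I (h := g) hzb w hw
      rcases hx' g hg with h4 | h4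
      · have h5 := (hz1 g hg).1 h4
        have h6 : g * z * g⁻¹ = ⁅g, z⁆ * z := by rw [commutatorElement_def]; group
        rw [h6, mul_smul, trivial_of_N I h5] at h3
        exact h3
      · have h5 := (hz1 g hg).2 h4
        have h6 : g * z * g⁻¹ = (g * z * g⁻¹ * z) * z⁻¹ := by group
        rw [h6, mul_smul, trivial_of_N I h5, inv_smul_eq_iff] at h3
        exact h3.symm
    -- the cyclic group on `W b`
    let τ := blk I b ⟨t b, R.PQ (R.tP b)⟩
    let f : Λ →* Subgroup.zpowers τ :=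
      ((blk I b).comp (Subgroup.inclusion (hΛP.trans R.PQ))).codRestrict (Subgroup.zpowers τ) (by
        intro z
        obtain ⟨j, hj⟩ := R.gen b z (hΛP z.2)
        refine ⟨j, ?_⟩
        change τ ^ (j : ℤ) = _
        rw [zpow_natCast]
        symm
        change blk I b (Subgroup.inclusion (hΛP.trans R.PQ) z) = blk I b ⟨t b, _⟩ ^ j
        rw [← map_pow, blk_eq_iff]
        exact hj)
    have hf : f.ker ≤ Subgroup.center Λ := by
      intro z hz
      have h3 : (z : H) ∈ N := by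
        refine htriv z z.2 ?_
        have h4 : blk I b (Subgroup.inclusion (hΛP.trans R.PQ) z) = 1 := congrArg Subtype.val hz
        rw [blk_eq_one_iff] at h4
        exact h4
      rw [Subgroup.mem_center_iff]
      intro g
      exact Subtype.ext (hN _ h3 g)
    have h3 := MonoidHom.isMulCommutative_of_isCyclic_of_ker_le_center f hf
    exact congrArg Subtype.val (h3.is_comm.comm (⟨x, hxΛ⟩ : Λ) ⟨y, hyΛ⟩)
  have h1 : Subgroup.closure (EigP K N P) ≤ Subgroup.centralizer (EigP K N P) := by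
    rw [Subgroup.closure_le]
    intro x hx
    rw [SetLike.mem_coe, Subgroup.mem_centralizer_iff]
    exact fun y hy => key y hy x hx
  have h2 : Subgroup.closure (EigP K N P) ≤
      Subgroup.centralizer (Subgroup.closure (EigP K N P) : Set H) := by
    rw [Subgroup.closure_le]
    intro x hx
    rw [SetLike.mem_coe, Subgroup.mem_centralizer_iff]
    intro y hy
    exact ((Subgroup.mem_centralizer_iff.1 (h1 hy)) x hx).symm
  intro x hx y hy
  exact ((Subgroup.mem_centralizer_iff.1 (h2 (hcl hx))) y (hcl hy)).symm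

/-- L8 -/
theorem Q_comm_P (I : ImpW (V := V) p q W K N Q φ) (R : RData r a W N Q P t)
    (hQ : ∀ k ∈ Q, ∀ x ∈ P, ⁅k, x⁆ ∈ N) (hP : ∀ x ∈ P, ∀ y ∈ P, x * y = y * x) :
    ∀ k ∈ Q, ∀ x ∈ P, k * x = x * k := by
  intro k hk x hx
  have hN : ∀ n ∈ N, ∀ g : H, g * n = n * g := fun n hn g => N_central I hn g
  set n := ⁅k, x⁆ with hn
  have hnN := hQ k hk x hx
  have hc : ∀ g : H, Commute g n := hN n hnN
  have e1 : k * x * k⁻¹ = n * x := by rw [hn, commutatorElement_def]; group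
  have e2 : ∀ m : ℕ, k ^ m * x * (k ^ m)⁻¹ = n ^ m * x := by
    intro m
    induction m with
    | zero => simp
    | succ m ih =>
      have : k ^ (m + 1) * x * (k ^ (m + 1))⁻¹ = k * (k ^ m * x * (k ^ m)⁻¹) * k⁻¹ := by
        rw [pow_succ']; group
      rw [this, ih]
      have h2 : k * (n ^ m * x) * k⁻¹ = n ^ m * (k * x * k⁻¹) := by
        rw [← mul_assoc k, ((hc k).pow_right m).eq]; simp only [mul_assoc]
      rw [h2, e1, pow_succ]; simp only [mul_assoc]
  haveI : (P.subgroupOf Q).Normal := R.nP.subgroupOf _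
  have e3 : k ^ P.relIndex Q ∈ P := by
    have h1 := Subgroup.pow_index_mem (P.subgroupOf Q) (⟨k, hk⟩ : Q)
    exact Subgroup.mem_subgroupOf.1 h1
  have e4 : n ^ P.relIndex Q = 1 := by
    have h1 := e2 (P.relIndex Q)
    rw [hP _ e3 x hx, mul_inv_cancel_right] at h1
    exact (mul_eq_right.1 h1.symm)
  obtain ⟨s, hs⟩ := R.pg ⟨x, hx⟩
  have hs' : x ^ r ^ s = 1 := congrArg Subtype.val hs
  have e5 : n ^ r ^ s = 1 := by
    have h1 : (k * x * k⁻¹) ^ r ^ s = 1 := by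
      rw [← MulAut.conj_apply, ← map_pow, hs', map_one]
    rw [e1, ((hc x).symm).mul_pow, hs', mul_one] at h1
    exact h1
  have e6 : Nat.Coprime (P.relIndex Q) (r ^ s) :=
    (Nat.Coprime.pow_left s ((Nat.Prime.coprime_iff_not_dvd R.prime).2 R.idx)).symm
  have e7 := Nat.eq_one_of_dvd_coprimes e6 (orderOf_dvd_of_pow_eq_one e4) (orderOf_dvd_of_pow_eq_one e5)
  exact commutatorElement_eq_one_iff_mul_comm.1 (orderOf_eq_one_iff.1 e7)

end imp

end part5

end Cfsg.Agent.H32.NY.A32
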