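import Mathlib
import Cfsg.Agent.H32.NY.AltP

/-!
# S4979, layer (I), [I-f]: five blocks (helper322)

For `n = 5`, `p = 3`: the cocycle is a coboundary, or there is a PROD family.
-/

set_option autoImplicit false
set_option linter.unusedSectionVars false

open Cfsg
open scoped commutatorElement Pointwise

namespace Cfsg.Agent.H32.NY.A322

open Cfsg.Agent.H322.NX Cfsg.Agent.H32.NX9 Cfsg.Agent.H32.NY.A32

open Cfsg.Agent.H32.NX9 Cfsg.Agent.H32.NY.A32 Cfsg.Agent.H37.NX Cfsg.Agent.H32.NY.A37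

/-! ### permutations of five points -/

theorem d1 : ∀ σ : Equiv.Perm (Fin 5), Equiv.Perm.sign σ = 1 → σ 0 = 0 → σ 1 = 1 → σ ^ 3 = 1 := by
  decide +kernel

theorem d2 : ∀ σ : Equiv.Perm (Fin 5), Equiv.Perm.sign σ = 1 → σ 0 = 0 → σ ^ 6 = 1 := by
  decide +kernel

theorem d3 : ∀ σ : Equiv.Perm (Fin 5), Equiv.Perm.sign σ = 1 → σ 0 = 0 → σ 1 = 1 →
    Equiv.swap 0 1 * Equiv.swap 2 3 * σ * (Equiv.swap 0 1 * Equiv.swap 2 3)⁻¹ * σ = 1 := by
  decide +kernel

theorem d4 : (Finset.univ.filter fun σ : Equiv.Perm (Fin 5) => Equiv.Perm.sign σ = 1 ∧ σ 0 = 0).card = 12 := by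
  decide +kernel

theorem d5 : ∀ σ : Equiv.Perm (Fin 5), Equiv.Perm.sign σ = 1 → σ 0 = 0 → σ ^ 2 ≠ 1 →
    ∃ j, j ≠ 0 ∧ σ j = j := by
  decide +kernel

theorem d6 : Equiv.Perm.sign (Equiv.swap (0 : Fin 5) 1 * Equiv.swap 2 3) = 1 ∧
    (Equiv.swap (0 : Fin 5) 1 * Equiv.swap 2 3) ^ 2 = 1 ∧
    (Equiv.swap (0 : Fin 5) 1 * Equiv.swap 2 3 : Equiv.Perm (Fin 5)) 0 = 1 ∧
    (Equiv.swap (0 : Fin 5) 1 * Equiv.swap 2 3 : Equiv.Perm (Fin 5)) 1 = 0 := by
  decide +kernel

theorem ais {B : Type*} (f : Equiv.Perm B) (x : B) : f (f⁻¹ x) = x := Equiv.apply_symm_apply f x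

theorem exists_e {B : Type*} [Finite B] (h5 : Nat.card B = 5) {i j : B} (hij : i ≠ j) :
    ∃ e : B ≃ Fin 5, e i = 0 ∧ e j = 1 := by
  classical
  let e0 : B ≃ Fin 5 := (Finite.equivFin B).trans (finCongr h5)
  let e1 : B ≃ Fin 5 := e0.trans (Equiv.swap (e0 i) 0)
  have h1 : e1 i = 0 := by
    show Equiv.swap (e0 i) 0 (e0 i) = 0
    exact Equiv.swap_apply_left _ _
  have h2 : e1 j ≠ 0 := fun h => hij (e1.injective (h1.trans h.symm))
  refine ⟨e1.trans (Equiv.swap (e1 j) 1), ?_, ?_⟩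
  · show Equiv.swap (e1 j) 1 (e1 i) = 0
    rw [h1]
    exact Equiv.swap_apply_of_ne_of_ne (Ne.symm h2) (by decide)
  · show Equiv.swap (e1 j) 1 (e1 j) = 1
    exact Equiv.swap_apply_left _ _

section perm

variable {H B : Type*} [Group H] [MulAction H B] [Finite B]

theorem perm_even (hA : IsAlt H B) (e : B ≃ Fin 5) (h : H) :
    Equiv.Perm.sign (e.permCongr (MulAction.toPerm h : Equiv.Perm B)) = 1 := by
  obtain ⟨i1, i2, hA⟩ := hA
  rw [Equiv.Perm.sign_permCongr]
  exact (hA _).2 ⟨h, fun b => rfl⟩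

theorem exists_lift (hA : IsAlt H B) (e : B ≃ Fin 5) (τ : Equiv.Perm (Fin 5)) (hτ : Equiv.Perm.sign τ = 1) :
    ∃ h : H, e.permCongr (MulAction.toPerm h : Equiv.Perm B) = τ := by
  obtain ⟨i1, i2, hA⟩ := hA
  obtain ⟨h, hh⟩ := (hA (e.symm.permCongr τ)).1 (by rw [Equiv.Perm.sign_permCongr]; exact hτ)
  refine ⟨h, ?_⟩
  ext x
  rw [Equiv.permCongr_apply, MulAction.toPerm_apply, hh]
  simp

theorem permCongr_mul' (e : B ≃ Fin 5) (g h : H) :
    e.permCongr (MulAction.toPerm (g * h) : Equiv.Perm B) =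
      e.permCongr (MulAction.toPerm g : Equiv.Perm B) * e.permCongr (MulAction.toPerm h) := by
  ext x
  simp [Equiv.permCongr_apply, mul_smul]

theorem permCongr_one' (e : B ≃ Fin 5) : e.permCongr (MulAction.toPerm (1 : H) : Equiv.Perm B) = 1 := by
  ext x
  simp [Equiv.permCongr_apply]

/-- the action as a homomorphism to `Perm (Fin 5)` -/
def act (e : B ≃ Fin 5) : H →* Equiv.Perm (Fin 5) where
  toFun h := e.permCongr (MulAction.toPerm h)
  map_one' := permCongr_one' e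
  map_mul' := permCongr_mul' e

theorem act_apply (e : B ≃ Fin 5) (h : H) (b : B) : act e h (e b) = e (h • b) := by
  show e.permCongr (MulAction.toPerm h : Equiv.Perm B) (e b) = _
  rw [Equiv.permCongr_apply, Equiv.symm_apply_apply, MulAction.toPerm_apply]

theorem act_one_iff (e : B ≃ Fin 5) (h : H) : act e h = 1 ↔ ∀ b : B, h • b = b := by
  constructor
  · intro hh b
    have := act_apply e h b
    rw [hh] at this
    exact (e.injective this).symm
  · intro hh
    ext x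
    have := act_apply e h (e.symm x)
    rw [hh, Equiv.apply_symm_apply] at this
    rw [this]
    rfl

end perm

variable {p q r a : ℕ} {H V B : Type*} [Group H] [Finite H] [AddCommGroup V] [Finite V]
  [DistribMulAction H V] [Finite B] [MulAction H B] {W : B → AddSubgroup V} {K N Q P : Subgroup H}
  {φ : N →* ℂˣ} {t : B → H}

section five

variable (I : ImpW (V := V) p q W K N Q φ) (hA : IsAlt H B) (h5 : Nat.card B = 5)

include I in
theorem mem_Q_act (e : B ≃ Fin 5) (h : H) : h ∈ Q ↔ act e h = 1 := by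
  rw [I.memQ, act_one_iff]

include I hA h5

theorem e1 {h : H} {i j : B} (hij : i ≠ j) (hi : h • i = i) (hj : h • j = j) : h ^ 3 ∈ Q := by
  obtain ⟨e, he0, he1⟩ := exists_e h5 hij
  rw [mem_Q_act I e, map_pow]
  refine d1 _ (perm_even hA e h) ?_ ?_
  · rw [← he0, act_apply, hi]
  · rw [← he1, act_apply, hj]

theorem e2 {h : H} {i : B} (hi : h • i = i) : h ^ 6 ∈ Q := by
  obtain ⟨j, hij, -⟩ := third I i i
  obtain ⟨e, he0, he1⟩ := exists_e h5 hij
  rw [mem_Q_act I e, map_pow]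
  refine d2 _ (perm_even hA e h) ?_
  rw [← he0, act_apply, hi]

theorem e3 {i j : B} (hij : i ≠ j) : ∃ g : H, g • i = j ∧ g • j = i ∧ g * g ∈ Q ∧
    ∀ h : H, h • i = i → h • j = j → g * h * g⁻¹ * h ∈ Q := by
  obtain ⟨e, he0, he1⟩ := exists_e h5 hij
  obtain ⟨d61, d62, d63, d64⟩ := d6
  obtain ⟨g, hg⟩ := exists_lift hA e _ d61
  have hg' : act e g = Equiv.swap (0 : Fin 5) 1 * Equiv.swap 2 3 := hg
  refine ⟨g, ?_, ?_, ?_, fun h hi hj => ?_⟩
  · apply e.injective
    rw [← act_apply, hg', he0, he1, d63]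
  · apply e.injective
    rw [← act_apply, hg', he0, he1, d64]
  · rw [mem_Q_act I e, map_mul, hg', ← pow_two, d62]
  · rw [mem_Q_act I e, map_mul, map_mul, map_mul, map_inv, hg']
    refine d3 _ (perm_even hA e h) ?_ ?_
    · rw [← he0]
      exact (act_apply e h i).trans (by rw [hi])
    · rw [← he1]
      exact (act_apply e h j).trans (by rw [hj])

theorem e5 {h : H} {i : B} (hi : h • i = i) (hh : h * h ∉ Q) : ∃ j, j ≠ i ∧ h • j = j := by
  obtain ⟨j, hij, -⟩ := third I i i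
  obtain ⟨e, he0, he1⟩ := exists_e h5 hij
  obtain ⟨x, hx0, hx⟩ := d5 (act e h) (perm_even hA e h) (by rw [← he0, act_apply, hi])
    (fun h1 => hh (by rw [mem_Q_act I e, map_mul, ← pow_two, h1]))
  refine ⟨e.symm x, fun h1 => hx0 ?_, ?_⟩
  · rw [← he0, ← h1, Equiv.apply_symm_apply]
  · apply e.injective
    rw [← act_apply, Equiv.apply_symm_apply, hx]

omit I hA in
theorem e4 [Fintype B] [DecidableEq B] (i : B) :
    Fintype.card {σ : Equiv.Perm B // Equiv.Perm.sign σ = 1 ∧ σ i = i} = 12 := by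
  obtain ⟨j, hij⟩ : ∃ j, i ≠ j := by
    by_contra hcon
    push Not at hcon
    haveI : Subsingleton B := ⟨fun x y => (hcon x).symm.trans (hcon y)⟩
    have h6 : Nat.card B ≤ 1 := Finite.card_le_one_iff_subsingleton.2 inferInstance
    omega
  obtain ⟨e, he0, -⟩ := exists_e h5 hij
  rw [← d4, ← Fintype.card_subtype]
  refine Fintype.card_congr (Equiv.subtypeEquiv e.permCongr fun σ => ?_)
  rw [Equiv.Perm.sign_permCongr, Equiv.permCongr_apply, ← he0, Equiv.symm_apply_apply,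
    EmbeddingLike.apply_eq_iff_eq]

end five

section main

variable (R : RData r a W N Q P t) (I : ImpW (V := V) p q W K N Q φ)

include R I in
/-- sums of coordinate vectors -/
theorem exists_sum {ι : Type*} (F : Finset ι) (z : ι → H) (hz : ∀ i, z i ∈ P) :
    ∃ y ∈ P, ∀ j, X R j y = ∑ i ∈ F, X R j (z i) := by
  classical
  induction F using Finset.induction_on with
  | empty => exact ⟨1, one_mem P, fun j => by rw [X_one, Finset.sum_empty]⟩
  | insert i F hi ih =>
    obtain ⟨y, hy, h1⟩ := ih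
    exact ⟨z i * y, mul_mem (hz i) hy, fun j => by
      rw [X_mul R I (hz i) hy, h1, Finset.sum_insert hi]⟩

include R I in
theorem r_ne_p : r ≠ p := by
  have h0 : 0 < Nat.card B := lt_of_lt_of_le (by omega) I.card
  obtain ⟨⟨i⟩, -⟩ := Nat.card_pos_iff.1 h0
  intro hrp
  apply I.core.pK
  rw [← hrp]
  have h1 : t i ≠ 1 := by
    intro h1
    have h2 := (R.ord i 1).1 (fun w _ => by rw [pow_one, h1, one_smul])
    rw [Nat.dvd_one, Nat.pow_eq_one] at h2
    have := R.ha
    have := R.prime.one_lt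
    omega
  have h2 : r ∣ orderOf (t i) := by
    obtain ⟨m, hm⟩ := R.pg ⟨t i, R.tP i⟩
    have h10 : t i ^ r ^ m = 1 := congrArg Subtype.val hm
    obtain ⟨l, -, hl⟩ := (Nat.dvd_prime_pow R.prime).1 (orderOf_dvd_of_pow_eq_one h10)
    rw [hl]
    refine dvd_pow_self r fun h0 => h1 ?_
    rw [h0, pow_zero, orderOf_eq_one_iff] at hl
    exact hl
  refine h2.trans ?_
  rw [← Subgroup.orderOf_mk (t i) (I.QK (R.PQ (R.tP i)))]
  exact orderOf_dvd_natCard _

theorem eq_one_of_pow {u : (ZMod (r ^ a))ˣ} {m n : ℕ} (hm : u ^ m = 1) (hn : u ^ n = 1)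
    (h : m.Coprime n) : u = 1 := by
  have h1 := Nat.dvd_gcd (orderOf_dvd_of_pow_eq_one hm) (orderOf_dvd_of_pow_eq_one hn)
  rw [h, Nat.dvd_one, orderOf_eq_one_iff] at h1
  exact h1

/-- elements supported on different blocks commute, if there are isolated elements and a swap -/
theorem sup_comm_swap {i j : B} (hij : i ≠ j) {g : H} (hgi : g • i = j) (hgj : g • j = i)
    (hU : U R g i * U R g j = 1) {s s' : H} (hs : s ∈ Sup R I i) (hs' : s' ∈ Sup R I j)
    (hu : IsUnit (X R i s)) (hu' : IsUnit (X R j s')) :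
    ∀ x ∈ Sup R I i, ∀ y ∈ Sup R I j, x * y = y * x := by
  haveI := neZero_ra R
  haveI : Fact r.Prime := ⟨R.prime⟩
  have e1 : g * s * g⁻¹ ∈ Sup R I j := by
    have := Sup_conj R I (h := g) hs
    rwa [hgi] at this
  have e2 : g * s' * g⁻¹ ∈ Sup R I i := by
    have := Sup_conj R I (h := g) hs'
    rwa [hgj] at this
  have key : ∀ {i : B} {s x : H}, s ∈ Sup R I i → IsUnit (X R i s) → x ∈ Sup R I i →
      ∃ m : ℕ, ∃ n ∈ N, x = n * s ^ m ∧ X R i x = m * X R i s := by
    intro i s x hs hu hx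
    obtain ⟨m, h1, h2⟩ := exists_pow R I hs hu hx.1
    refine ⟨m, x * (s ^ m)⁻¹, X_all R I (mul_mem hx.1 (inv_mem (pow_mem hs.1 _))) fun l => ?_, by group, ?_⟩
    · by_cases hl : l = i
      · rw [hl, h1]
      · rw [h2 l hl, hx.2 l hl]
    · rw [X_mul R I hx.1 (inv_mem (pow_mem hs.1 _)), X_inv R I (pow_mem hs.1 _), X_pow R I hs.1] at h1
      exact add_neg_eq_zero.1 h1
  obtain ⟨m, n, hn, h1, h1'⟩ := key hs' hu' e1
  obtain ⟨m', n', hn', h2, h2'⟩ := key hs hu e2
  have hX1 : X R j (g * s * g⁻¹) = U R g i * X R i s := by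
    have := X_conj R I hs.1 g i
    rwa [hgi] at this
  have hX2 : X R i (g * s' * g⁻¹) = U R g j * X R j s' := by
    have := X_conj R I hs'.1 g j
    rwa [hgj] at this
  have hmm : (m : ZMod (r ^ a)) * m' = 1 := by
    have h3 : (m : ZMod (r ^ a)) * m' * (X R i s * X R j s') = 1 * (X R i s * X R j s') := by
      calc (m : ZMod (r ^ a)) * m' * (X R i s * X R j s') = (m * X R j s') * (m' * X R i s) := by ring
        _ = (U R g i * U R g j) * (X R i s * X R j s') := by rw [← h1', ← h2', hX1, hX2]; ring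
        _ = _ := by rw [hU]
    exact (hu.mul hu').mul_right_cancel h3
  set c := s * s' * s⁻¹ * s'⁻¹ with hc
  have hcN : c ∈ N := R.comm s hs.1 s' hs'.1
  have hcP : c ∈ P := mul_mem (mul_mem (mul_mem hs.1 hs'.1) (inv_mem hs.1)) (inv_mem hs'.1)
  have hcc : ∀ g : H, g * c = c * g := comm_N I hcN
  have h3 : s * s' = c * (s' * s) := by rw [hc]; group
  have hci : ∀ g : H, g * c⁻¹ = c⁻¹ * g := comm_N I (inv_mem hcN)
  have h4 : s' * s = c⁻¹ * (s * s') := by rw [h3]; group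
  have h5 := comm_pow hci h4 m m'
  have h6 : g * s * g⁻¹ * (g * s' * g⁻¹) = c * (g * s' * g⁻¹ * (g * s * g⁻¹)) := by
    calc g * s * g⁻¹ * (g * s' * g⁻¹) = g * (s * s') * g⁻¹ := by group
      _ = g * c * (s' * s) * g⁻¹ := by rw [h3]; group
      _ = _ := by rw [hcc]; group
  rw [h1, h2] at h6
  have hnc : ∀ g, g * n = n * g := comm_N I hn
  have hnc' : ∀ g, g * n' = n' * g := comm_N I hn'
  have h7 : n * s' ^ m * (n' * s ^ m') = n * n' * (s' ^ m * s ^ m') := by
    calc n * s' ^ m * (n' * s ^ m') = n * (s' ^ m * n') * s ^ m' := by group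
      _ = _ := by rw [hnc']; group
  have h8 : n' * s ^ m' * (n * s' ^ m) = n * n' * (s ^ m' * s' ^ m) := by
    calc n' * s ^ m' * (n * s' ^ m) = n' * (s ^ m' * n) * s' ^ m := by group
      _ = n' * n * (s ^ m' * s' ^ m) := by rw [hnc]; group
      _ = _ := by rw [hnc]
  rw [h7, h8, h5] at h6
  have h9 : c⁻¹ ^ (m * m') = c := by
    have h10 : n * n' * (c⁻¹ ^ (m * m') * (s ^ m' * s' ^ m)) = n * n' * (c * (s ^ m' * s' ^ m)) := by
      rw [h6]
      calc c * (n * n' * (s ^ m' * s' ^ m)) = c * (n * n') * (s ^ m' * s' ^ m) := by group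
        _ = _ := by rw [← hcc]; group
    exact mul_right_cancel (mul_left_cancel h10)
  have h10 : c = 1 := by
    by_contra hc1
    have h9' : r ∣ orderOf c := by
      obtain ⟨m, hm⟩ := R.pg ⟨c, hcP⟩
      have h10 : c ^ r ^ m = 1 := congrArg Subtype.val hm
      obtain ⟨l, -, hl⟩ := (Nat.dvd_prime_pow R.prime).1 (orderOf_dvd_of_pow_eq_one h10)
      rw [hl]
      refine dvd_pow_self r fun h0 => hc1 ?_
      rw [h0, pow_zero, orderOf_eq_one_iff] at hl
      exact hl
    have h11 : c ^ (m * m' + 1) = 1 := by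
      rw [pow_succ, ← inv_inv (c ^ (m * m')), ← inv_pow, h9, inv_mul_cancel]
    have h12 : r ∣ m * m' + 1 := h9'.trans (orderOf_dvd_of_pow_eq_one h11)
    have h13 : ((m * m' + 1 : ℕ) : ZMod r) = 0 := (ZMod.natCast_eq_zero_iff _ _).2 h12
    have h14 : red R ((m : ZMod (r ^ a)) * m') = ((m * m' : ℕ) : ZMod r) := by
      rw [map_mul, map_natCast, map_natCast, Nat.cast_mul]
    rw [hmm, map_one] at h14
    rw [Nat.cast_add, ← h14, Nat.cast_one] at h13
    have h15 : ((2 : ℕ) : ZMod r) = 0 := by rw [← h13]; push_cast; norm_num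
    rw [ZMod.natCast_eq_zero_iff] at h15
    exact R.odd ((Nat.prime_dvd_prime_iff_eq R.prime Nat.prime_two).1 h15)
  rw [h10, one_mul] at h3
  intro x hx y hy
  obtain ⟨k, n1, hn1, rfl, -⟩ := key hs hu hx
  obtain ⟨l, n2, hn2, rfl, -⟩ := key hs' hu' hy
  have e3 : ∀ z, Commute n1 z := fun z => (comm_N I hn1 z).symm
  have e4 : ∀ z, Commute n2 z := fun z => (comm_N I hn2 z).symm
  have e5 : Commute (s ^ k) (s' ^ l) := (show Commute s s' from h3).pow_pow k l
  exact ((e3 _).mul_left ((((e4 _).symm).mul_right e5))).eq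

/-- **five blocks**: the cocycle is a coboundary, or there is a PROD family -/
theorem cob_five (hA : IsAlt H B) (h5 : Nat.card B = 5) (hp3 : p = 3) (hS : Scal N Q P) :
    (∃ c : B → (ZMod (r ^ a))ˣ, ∀ (h : H) (i : B), Uu R I h i * c i = c (h • i)) ∨
      ∃ T : B → Subgroup H, Prod W N Q T := by
  classical
  haveI := Fintype.ofFinite B
  haveI := neZero_ra R
  haveI : Fact r.Prime := ⟨R.prime⟩
  have hr3 : r ≠ 3 := hp3 ▸ r_ne_p R I
  have hscal : ∀ k ∈ Q, ∀ i j, Uu R I k i = Uu R I k j := fun k hk i j => Units.ext (scal_U R I hS hk i j)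
  obtain ⟨c, hc⟩ := coboundary R I 3 (fun h i j hij hi hj => by
    rw [← Uu_pow R I hi, ← Uu_pow R I hj]
    exact hscal _ (e1 I hA h5 hij hi hj) i j)
  have h3 : ∀ (h : H) (i : B), h • i = i → Uu R I h i ^ 3 = 1 := fun h i hi => by
    have h1 := hc h i
    rw [hi] at h1
    exact mul_eq_right.1 h1
  have hQ1 : ∀ k ∈ Q, ∀ i, Uu R I k i = 1 := by
    intro k hk i
    have hki := (I.memQ k).1 hk i
    refine eq_one_of_pow (h3 k i hki) (n := Nat.card Q) ?_ ?_
    · rw [← Uu_pow R I hki]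
      have h1 : k ^ Nat.card Q = 1 := congrArg Subtype.val (pow_card_eq_one' (x := (⟨k, hk⟩ : Q)))
      rw [h1, Uu_one]
    · rw [Nat.Prime.coprime_iff_not_dvd Nat.prime_three]
      intro hd
      exact I.core.pK (hp3 ▸ hd.trans (Subgroup.card_dvd_of_le I.QK))
  by_cases htw : ∀ (h : H) (i : B), h • i = i → Uu R I h i = 1
  · left
    obtain ⟨i0, -, -, -, -, -⟩ := three_pts I
    have hex : ∀ i : B, ∃ h : H, h • i0 = i := by
      intro i
      by_cases hi : i0 = i
      · exact ⟨1, by rw [one_smul, hi]⟩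
      · obtain ⟨h, h1, -⟩ := two I hi (Ne.symm hi)
        exact ⟨h, h1⟩
    choose g hg using hex
    refine ⟨fun i => Uu R I (g i) i0, fun h i => ?_⟩
    have h1 : h * g i = g (h • i) * ((g (h • i))⁻¹ * h * g i) := by group
    have h2 : ((g (h • i))⁻¹ * h * g i) • i0 = i0 := by
      rw [mul_smul, mul_smul, hg, inv_smul_eq_iff, hg]
    have h4 : Uu R I (h * g i) i0 = Uu R I h i * Uu R I (g i) i0 := by rw [Uu_mul, hg]
    show Uu R I h i * Uu R I (g i) i0 = Uu R I (g (h • i)) i0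
    rw [← h4, h1, Uu_mul, h2, htw _ _ h2, mul_one]
  right
  push Not at htw
  obtain ⟨h1, i1, hi1, hne1⟩ := htw
  -- a three-cycle
  obtain ⟨j1, hj1, hhj1⟩ := e5 I hA h5 hi1 (fun hh => hne1 (eq_one_of_pow (h3 h1 i1 hi1) (n := 2) (by
    rw [← Uu_pow R I hi1, pow_two, hQ1 _ hh]) (by norm_num)))
  have hcyc : ∀ i j, i ≠ j → ∃ z : H, z • i = i ∧ z • j = j ∧ Uu R I z i ≠ 1 ∧
      Uu R I z i * Uu R I z j = 1 := by
    intro i j hij
    obtain ⟨g, hgi, hgj⟩ := two I hj1.symm hij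
    have hzi : (g * h1 * g⁻¹) • i = i := by
      rw [mul_smul, mul_smul, ← hgi, inv_smul_smul, hi1]
    have hzj : (g * h1 * g⁻¹) • j = j := by
      rw [mul_smul, mul_smul, ← hgj, inv_smul_smul, hhj1]
    have hzU : Uu R I (g * h1 * g⁻¹) i = Uu R I h1 i1 := by
      rw [← hgi, Uu_conj R I g h1 i1 hi1]
    obtain ⟨g', hg'i, hg'j, -, hg'⟩ := e3 I hA h5 hij
    have h6 := hQ1 _ (hg' _ hzi hzj) j
    rw [Uu_mul, hzj] at h6
    have h7 : Uu R I (g' * (g * h1 * g⁻¹) * g'⁻¹) j = Uu R I (g * h1 * g⁻¹) i := by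
      have := Uu_conj R I g' _ i hzi
      rwa [hg'i] at this
    rw [h7] at h6
    exact ⟨_, hzi, hzj, by rw [hzU]; exact hne1, h6⟩
  -- isolated elements
  have iso : ∀ i, ∃ s ∈ Sup R I i, IsUnit (X R i s) := by
    intro i
    obtain ⟨j0, hij0, -⟩ := third I i i
    let Al := {σ : Equiv.Perm B // Equiv.Perm.sign σ = 1 ∧ σ i = i}
    have hlift : ∀ σ : Equiv.Perm B, Equiv.Perm.sign σ = 1 → ∃ h : H, ∀ b, h • b = σ b := by
      obtain ⟨inst1, inst2, hA'⟩ := hA
      intro σ hσ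
      exact (hA' σ).1 (by convert hσ)
    have hliftA : ∀ σ : Al, ∃ h : H, ∀ b, h • b = (σ : Equiv.Perm B) b := fun σ => hlift σ σ.2.1
    choose lam hlam using hliftA
    -- the value on elements with the same permutation
    have hsame : ∀ (g h : H), (∀ b : B, g • b = h • b) → ∀ l, Uu R I g l = Uu R I h l := by
      intro g h hgh l
      have h6 : h⁻¹ * g ∈ Q := by
        rw [I.memQ]
        intro b
        rw [mul_smul, hgh, inv_smul_smul]
      have h7 : g = h * (h⁻¹ * g) := by group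
      rw [h7, Uu_mul, hQ1 _ h6, mul_one, (I.memQ _).1 h6]
    let z : Al → H := fun σ => (lam σ * t i * (lam σ)⁻¹) ^
      (((Uu R I (lam σ) i)⁻¹ : (ZMod (r ^ a))ˣ) : ZMod (r ^ a)).val
    have hzP : ∀ σ, z σ ∈ P := fun σ => pow_mem (R.nP.conj_mem _ (R.tP i) _) _
    have hzX : ∀ (σ : Al) (j : B), X R j (z σ) = (((Uu R I (lam σ) i)⁻¹ : (ZMod (r ^ a))ˣ) : ZMod (r ^ a)) *
        (U R (lam σ) ((σ : Equiv.Perm B)⁻¹ j) * X R ((σ : Equiv.Perm B)⁻¹ j) (t i)) := by
      intro σ j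
      rw [X_pow R I (R.nP.conj_mem _ (R.tP i) _), ZMod.natCast_zmod_val]
      have h6 := X_conj R I (R.tP i) (lam σ) ((σ : Equiv.Perm B)⁻¹ j)
      rw [hlam, ais] at h6
      rw [h6]
    obtain ⟨y, hy, hyX⟩ := exists_sum R I (Finset.univ : Finset Al) z hzP
    refine ⟨y, ⟨hy, fun j hj => ?_⟩, ?_⟩
    · -- the reindexing argument
      obtain ⟨c, hci, hcj, hc1, hc2⟩ := hcyc i j (Ne.symm hj)
      have hceven : Equiv.Perm.sign (MulAction.toPerm c : Equiv.Perm B) = 1 := by
        obtain ⟨inst1, inst2, hA'⟩ := hA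
        have := (hA' (MulAction.toPerm c)).2 ⟨c, fun b => rfl⟩
        convert this
      let ρ : Al ≃ Al :=
        { toFun := fun σ => ⟨MulAction.toPerm c * (σ : Equiv.Perm B), by
              rw [map_mul, hceven, σ.2.1, one_mul], by
              rw [Equiv.Perm.mul_apply, σ.2.2]; exact hci⟩
          invFun := fun σ => ⟨(MulAction.toPerm c)⁻¹ * (σ : Equiv.Perm B), by
              rw [map_mul, Equiv.Perm.sign_inv, hceven, σ.2.1, one_mul], by
              rw [Equiv.Perm.mul_apply, σ.2.2, Equiv.Perm.inv_eq_iff_eq]; exact hci.symm⟩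
          left_inv := fun σ => Subtype.ext (by simp)
          right_inv := fun σ => Subtype.ext (by simp) }
      have h6 : ∀ σ : Al, X R j (z (ρ σ)) = U R c i * X R j (z σ) := by
        intro σ
        have e1 : ((ρ σ : Al) : Equiv.Perm B)⁻¹ j = (σ : Equiv.Perm B)⁻¹ j := by
          show ((MulAction.toPerm c : Equiv.Perm B) * (σ : Equiv.Perm B))⁻¹ j = _
          rw [mul_inv_rev, Equiv.Perm.mul_apply]
          congr 1
          rw [Equiv.Perm.inv_eq_iff_eq]
          exact hcj.symm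
        have e2 : ∀ b, lam (ρ σ) • b = (c * lam σ) • b := fun b => by
          rw [hlam, mul_smul, hlam]
          rfl
        have e3 : Uu R I (lam (ρ σ)) i = Uu R I c i * Uu R I (lam σ) i := by
          rw [hsame _ _ e2, Uu_mul, hlam, σ.2.2]
        have e4 : U R (lam (ρ σ)) ((σ : Equiv.Perm B)⁻¹ j) = U R c j * U R (lam σ) ((σ : Equiv.Perm B)⁻¹ j) := by
          have h7 : Uu R I (lam (ρ σ)) ((σ : Equiv.Perm B)⁻¹ j) =
              Uu R I c j * Uu R I (lam σ) ((σ : Equiv.Perm B)⁻¹ j) := by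
            rw [hsame _ _ e2, Uu_mul, hlam, ais]
          exact congrArg Units.val h7
        rw [hzX, hzX, e1, e3, e4, mul_inv, Units.val_mul]
        -- `ω⁻¹ * U c j = ω⁻² = ω`
        have e5 : (((Uu R I c i)⁻¹ : (ZMod (r ^ a))ˣ) : ZMod (r ^ a)) * U R c j = U R c i := by
          have h8 : (Uu R I c i)⁻¹ * Uu R I c j = Uu R I c i := by
            have h9 : Uu R I c j = (Uu R I c i)⁻¹ := (inv_eq_of_mul_eq_one_right hc2).symm
            rw [h9, ← mul_inv, inv_eq_iff_mul_eq_one, ← pow_two, ← pow_succ]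
            exact h3 c i hci
          exact congrArg Units.val h8
        calc (((Uu R I c i)⁻¹ : (ZMod (r ^ a))ˣ) : ZMod (r ^ a)) *
              (((Uu R I (lam σ) i)⁻¹ : (ZMod (r ^ a))ˣ) : ZMod (r ^ a)) *
              (U R c j * U R (lam σ) ((σ : Equiv.Perm B)⁻¹ j) * X R ((σ : Equiv.Perm B)⁻¹ j) (t i))
            = ((((Uu R I c i)⁻¹ : (ZMod (r ^ a))ˣ) : ZMod (r ^ a)) * U R c j) *
              ((((Uu R I (lam σ) i)⁻¹ : (ZMod (r ^ a))ˣ) : ZMod (r ^ a)) *
              (U R (lam σ) ((σ : Equiv.Perm B)⁻¹ j) * X R ((σ : Equiv.Perm B)⁻¹ j) (t i))) := by ring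
          _ = _ := by rw [e5]
      have h7 : X R j y = U R c i * X R j y := by
        conv_lhs => rw [hyX, ← Equiv.sum_comp ρ]
        rw [hyX, Finset.mul_sum]
        exact Finset.sum_congr rfl fun σ _ => h6 σ
      have h8 : IsUnit (U R c i - 1) := by
        rw [isUnit_iff R, map_sub, map_one, sub_ne_zero]
        intro h9
        apply hc1
        have h10 : U R c i = 1 := eq_one_of_red R (n := 3)
          (fun hd => hr3 ((Nat.prime_dvd_prime_iff_eq R.prime Nat.prime_three).1 hd))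
          (congrArg Units.val (h3 c i hci)) h9
        exact Units.ext h10
      have h9 : (U R c i - 1) * X R j y = 0 := by rw [sub_mul, one_mul, ← h7, sub_self]
      exact (h8.mul_right_eq_zero).1 h9
    · -- the coordinate at `i` is 12
      have h6 : X R i y = ((12 : ℕ) : ZMod (r ^ a)) := by
        rw [hyX]
        have h7 : ∀ σ : Al, X R i (z σ) = 1 := by
          intro σ
          have h8 : (σ : Equiv.Perm B)⁻¹ i = i := by
            rw [Equiv.Perm.inv_eq_iff_eq]; exact σ.2.2.symm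
          rw [hzX, h8, X_t, mul_one]
          exact congrArg Units.val (inv_mul_cancel (Uu R I (lam σ) i))
        rw [Finset.sum_congr rfl fun σ _ => h7 σ, Finset.sum_const, Finset.card_univ, nsmul_eq_mul, mul_one,
          e4 h5 i]
      rw [h6, isUnit_iff R, map_natCast, Ne, ZMod.natCast_eq_zero_iff]
      intro hd
      have h7 : (12 : ℕ) = 2 * (2 * 3) := by norm_num
      rw [h7] at hd
      rcases (Nat.Prime.dvd_mul R.prime).1 hd with hd | hd
      · exact R.odd ((Nat.prime_dvd_prime_iff_eq R.prime Nat.prime_two).1 hd)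
      · rcases (Nat.Prime.dvd_mul R.prime).1 hd with hd | hd
        · exact R.odd ((Nat.prime_dvd_prime_iff_eq R.prime Nat.prime_two).1 hd)
        · exact hr3 ((Nat.prime_dvd_prime_iff_eq R.prime Nat.prime_three).1 hd)
  choose s hs hu using iso
  refine prod_data R I s hs hu (fun i j hij => ?_) (fun i => MulAction.stabilizer H i) (fun h i k hk => ?_)
    (fun i k hk => hk) (fun i k hk => ?_) (fun i => ?_)
  · obtain ⟨g, hgi, hgj, hgg, -⟩ := e3 I hA h5 hij
    refine sup_comm_swap R I hij hgi hgj ?_ (hs i) (hs j) (hu i) (hu j)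
    have h6 := hQ1 _ hgg i
    rw [Uu_mul, hgi, mul_comm] at h6
    exact congrArg Units.val h6
  · rw [MulAction.mem_stabilizer_iff] at hk ⊢
    rw [mul_smul, mul_smul, inv_smul_smul, hk]
  · refine ⟨6 * P.relIndex Q, fun hd => ?_, ?_⟩
    · have h7 : (6 : ℕ) = 2 * 3 := by norm_num
      rw [h7] at hd
      rcases (Nat.Prime.dvd_mul R.prime).1 hd with hd | hd
      · rcases (Nat.Prime.dvd_mul R.prime).1 hd with hd | hd
        · exact R.odd ((Nat.prime_dvd_prime_iff_eq R.prime Nat.prime_two).1 hd)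
        · exact hr3 ((Nat.prime_dvd_prime_iff_eq R.prime Nat.prime_three).1 hd)
      · exact R.idx hd
    · rw [pow_mul]
      exact pow_relIndex_mem R (e2 I hA h5 (MulAction.mem_stabilizer_iff.1 hk))
  · obtain ⟨j, hij, -⟩ := third I i i
    obtain ⟨z, hzi, hzj, hz1, -⟩ := hcyc i j hij
    refine ⟨z, hzi, fun h => hz1 (Units.ext h)⟩

end main

end Cfsg.Agent.H32.NY.A322
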