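import Mathlib
import Cfsg.Agent.H32.NY.Defs
import Cfsg.Agent.H32.NY.Basic

/-!
# S4979, layer (I): the final contradictions (helper912)

* `stab_index`: P2 for a linear character over `φ` of a normal subgroup of `H_v`;
* `exists_char`: a linear character of `N × ∏ S i` with prescribed restrictions;
* `ImpW.prod_false`, `ImpW.zero_false`.
-/

set_option autoImplicit false
set_option linter.unusedSectionVars false
set_option linter.style.haveILetI false

open Cfsg
open scoped Pointwise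

namespace Cfsg.Agent.H32.NY.A912

open Cfsg.Agent.H912.NX Cfsg.Agent.H32.NX9 Cfsg.Agent.H32.NY.A32

open Cfsg.Agent.H37.NX Cfsg.Agent.H32.NY.A37 Cfsg.Agent.H32.NX9 Cfsg.Agent.H32.NY.A32 Cfsg.Agent.H511.Wt Cfsg.Agent.H672

universe u

section core
variable {p q : ℕ} {H V : Type u} [Group H] [Finite H] [AddCommGroup V] [Finite V] [DistribMulAction H V]
  {K N : Subgroup H} {φ : N →* ℂˣ}

/-- [I-t] the tool of (I3): P2 for a linear character over `φ` of a normal subgroup of `H_v`. -/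
theorem stab_index (hp : p.Prime) (C : CoreW (V := V) p q K N φ) (v : V) (Y : Subgroup H) (hNY : N ≤ Y)
    (hYv : ∀ y ∈ Y, y • v = v) (hYn : ∀ h : H, h • v = v → ∀ y ∈ Y, h * y * h⁻¹ ∈ Y) (ψ : Y →* ℂˣ)
    (hψ : ∀ n (hn : n ∈ N), ψ ⟨n, hNY hn⟩ = φ ⟨n, hn⟩) (T : Subgroup H)
    (hT : ∀ h : H, h • v = v → (∀ y (hy : y ∈ Y) (hy' : h * y * h⁻¹ ∈ Y), ψ ⟨h * y * h⁻¹, hy'⟩ = ψ ⟨y, hy⟩) → h ∈ T) :
    ¬ p ∣ T.index := by
  haveI : Fact p.Prime := ⟨hp⟩
  obtain ⟨-, P, hPv, hP⟩ := Cfsg.Agent.H32.NY.A20.normal_char C v Y hNY (fun y hy => hYv y hy) hYn (isIrr_lf ψ) (by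
    intro n hn
    rw [lf_apply, lf_apply, map_one, Units.val_one, one_mul, hψ n hn])
  have h1 : (P : Subgroup H) ≤ T := by
    intro x hx
    refine hT x (hPv hx) ?_
    intro y hy hy'
    have h2 := hP x hx ⟨y, hy⟩ hy'
    rw [lf_apply, lf_apply] at h2
    exact Units.ext h2
  intro h2
  exact (Sylow.not_dvd_index P) (h2.trans (Subgroup.index_dvd_of_le h1))

end core

section build

variable {H V B : Type*} [Group H] [Finite H] [AddCommGroup V] [DistribMulAction H V]

/-- A linear character of `N × ∏ S i` with prescribed restrictions. -/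
theorem exists_char {ι : Type*} [Finite ι] (N : Subgroup H) (hN : N ≤ Subgroup.center H) (φ : N →* ℂˣ)
    (S : ι → Subgroup H) (hcomm : ∀ i j, ∀ a ∈ S i, ∀ b ∈ S j, a * b = b * a)
    (U : ι → AddSubgroup V) (hNU : ∀ n ∈ N, ∀ v : V, n • v = v)
    (hSU : ∀ i, ∀ s ∈ S i, ∀ w ∈ U i, s • w ∈ U i)
    (htriv : ∀ i j, i ≠ j → ∀ s ∈ S i, ∀ w ∈ U j, s • w = w)
    (hfaith : ∀ i, ∀ s ∈ S i, (∀ w ∈ U i, s • w = w) → s = 1)
    (c : ∀ i, S i →* ℂˣ) :
    ∃ ψ : ↥(N ⊔ ⨆ i, S i) →* ℂˣ, (∀ n (hn : n ∈ N) (hn' : n ∈ N ⊔ ⨆ i, S i), ψ ⟨n, hn'⟩ = φ ⟨n, hn⟩) ∧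
      ∀ i x (hx : x ∈ S i) (hx' : x ∈ N ⊔ ⨆ i, S i), ψ ⟨x, hx'⟩ = c i ⟨x, hx⟩ := by
  classical
  haveI : Fintype ι := Fintype.ofFinite ι
  have hc : Pairwise fun i j => ∀ x y : H, x ∈ S i → y ∈ S j → Commute x y :=
    fun i j _ x y hx hy => hcomm i j x hx y hy
  let F : (∀ i, S i) →* H := Subgroup.noncommPiCoprod hc
  have hF1 : ∀ i (x : S i), F (Pi.mulSingle i x) = x := fun i x => Subgroup.noncommPiCoprod_mulSingle i x
  have hFr : F.range = ⨆ i, S i := Subgroup.noncommPiCoprod_range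
  -- action of `F t` on `U i`
  have hact : ∀ i (t : ∀ i, S i), ∀ w ∈ U i, F t • w = (t i : H) • w := by
    intro i t
    let E : Subgroup (∀ i, S i) :=
      { carrier := {t | ∀ w ∈ U i, F t • w = (t i : H) • w}
        one_mem' := by
          intro w _
          simp
        mul_mem' := by
          intro a b ha hb w hw
          rw [map_mul, mul_smul, hb w hw, ha _ (hSU i _ (b i).2 w hw), Pi.mul_apply, Subgroup.coe_mul,
            mul_smul]
        inv_mem' := by
          intro a ha w hw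
          have h1 : (a i : H)⁻¹ • w ∈ U i := hSU i _ (S i |>.inv_mem (a i).2) w hw
          have h2 := ha _ h1
          rw [smul_inv_smul] at h2
          rw [map_inv, inv_smul_eq_iff, Pi.inv_apply, Subgroup.coe_inv]
          exact h2.symm }
    have hE : t ∈ E := by
      refine Subgroup.pi_mem_of_mulSingle_mem t ?_
      intro j w hw
      rw [hF1]
      by_cases hj : j = i
      · subst hj
        rw [Pi.mulSingle_eq_same]
      · rw [Pi.mulSingle_eq_of_ne (Ne.symm hj)]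
        rw [htriv j i hj _ (t j).2 w hw, Subgroup.coe_one, one_smul]
    exact hE
  let G : N × (∀ i, S i) →* H :=
    { toFun := fun x => (x.1 : H) * F x.2
      map_one' := by simp
      map_mul' := by
        intro x y
        have h1 : (y.1 : H) * F x.2 = F x.2 * y.1 := (Subgroup.mem_center_iff.1 (hN y.1.2) _).symm
        simp only [Prod.fst_mul, Prod.snd_mul, Subgroup.coe_mul, map_mul]
        rw [mul_assoc, mul_assoc, ← mul_assoc (y.1 : H), h1]
        simp only [mul_assoc] }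
  have hGinj : Function.Injective G := by
    rw [injective_iff_map_eq_one]
    rintro ⟨n, t⟩ h
    have h1 : (n : H) * F t = 1 := h
    have h2 : F t = (n : H)⁻¹ := eq_inv_of_mul_eq_one_right h1
    have h3 : ∀ i, t i = 1 := by
      intro i
      apply Subtype.ext
      refine hfaith i _ (t i).2 ?_
      intro w hw
      rw [← hact i t w hw, h2]
      exact hNU _ (N.inv_mem n.2) w
    have h4 : t = 1 := funext h3
    rw [h4, map_one, mul_one] at h1
    refine Prod.ext (Subtype.ext h1) h4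
  have hGr : G.range = N ⊔ ⨆ i, S i := by
    apply le_antisymm
    · rintro _ ⟨⟨n, t⟩, rfl⟩
      refine mul_mem (Subgroup.mem_sup_left n.2) (Subgroup.mem_sup_right ?_)
      rw [← hFr]
      exact ⟨t, rfl⟩
    · refine sup_le ?_ (iSup_le ?_)
      · intro n hn
        exact ⟨(⟨n, hn⟩, 1), by simp [G]⟩
      · intro i x hx
        refine ⟨(1, Pi.mulSingle i ⟨x, hx⟩), ?_⟩
        change ((1 : N) : H) * F _ = x
        rw [hF1]
        simp
  let e : N × (∀ i, S i) ≃* ↥(N ⊔ ⨆ i, S i) :=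
    (MonoidHom.ofInjective hGinj).trans (MulEquiv.subgroupCongr hGr)
  have he : ∀ x, ((e x : ↥(N ⊔ ⨆ i, S i)) : H) = G x := fun x => rfl
  let κ : N × (∀ i, S i) →* ℂˣ :=
    (φ.comp (MonoidHom.fst _ _)) * ((∏ i, (c i).comp (Pi.evalMonoidHom (fun i => S i) i)).comp (MonoidHom.snd _ _))
  refine ⟨κ.comp e.symm.toMonoidHom, ?_, ?_⟩
  · intro n hn hn'
    have h1 : e (⟨n, hn⟩, 1) = ⟨n, hn'⟩ := by
      apply Subtype.ext
      rw [he]
      simp [G]
    have h2 : e.symm ⟨n, hn'⟩ = (⟨n, hn⟩, 1) := by rw [← h1, e.symm_apply_apply]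
    change κ (e.symm _) = _
    rw [h2]
    simp [κ]
  · intro i x hx hx'
    have h1 : e (1, Pi.mulSingle i ⟨x, hx⟩) = ⟨x, hx'⟩ := by
      apply Subtype.ext
      rw [he]
      change ((1 : N) : H) * F _ = x
      rw [hF1]
      simp
    have h2 : e.symm ⟨x, hx'⟩ = (1, Pi.mulSingle i ⟨x, hx⟩) := by rw [← h1, e.symm_apply_apply]
    change κ (e.symm _) = _
    rw [h2]
    simp only [κ, MonoidHom.mul_apply, MonoidHom.comp_apply, MonoidHom.coe_fst, MonoidHom.coe_snd, map_one, one_mul,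
      MonoidHom.finsetProd_apply, Pi.evalMonoidHom_apply]
    rw [Finset.prod_eq_single i]
    · rw [Pi.mulSingle_eq_same]
    · intro j _ hj
      rw [Pi.mulSingle_eq_of_ne hj, map_one]
    · intro h
      exact absurd (Finset.mem_univ i) h

end build

section imp
variable {p q : ℕ} {H V : Type u} {B : Type*} [Group H] [Finite H] [AddCommGroup V] [Finite V] [DistribMulAction H V]
  [Finite B] [MulAction H B] {W : B → AddSubgroup V} {K N Q : Subgroup H} {φ : N →* ℂˣ}

theorem mul_mem_W (I : ImpW (V := V) p q W K N Q φ) (g : H) (i : B) {w : V} (hw : w ∈ W i) : g • w ∈ W (g • i) := by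
  rw [← I.smulW]
  exact AddSubgroup.smul_mem_pointwise_smul w g (W i) hw

theorem exists_h (I : ImpW (V := V) p q W K N Q φ) (i j : B) : ∃ h : H, h • i = j := by
  have h1 : 3 ≤ Nat.card B := by
    have := I.card
    have h2 := I.hp.two_le
    omega
  classical
  haveI := Fintype.ofFinite B
  rw [Nat.card_eq_fintype_card] at h1
  have hex : ∀ i : B, ∃ k l : B, i ≠ k ∧ i ≠ l ∧ k ≠ l := by
    intro i
    have h2 : 1 < (Finset.univ.erase i).card := by
      rw [Finset.card_erase_of_mem (Finset.mem_univ i), Finset.card_univ]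
      omega
    obtain ⟨k, hk, l, hl, hkl⟩ := Finset.one_lt_card.1 h2
    exact ⟨k, l, (Finset.ne_of_mem_erase hk).symm, (Finset.ne_of_mem_erase hl).symm, hkl⟩
  obtain ⟨k, l, h2, h3, h4⟩ := hex i
  obtain ⟨k', l', h5, h6, h7⟩ := hex j
  obtain ⟨h, hh, -⟩ := I.t3 i k l j k' l' h2 h3 h4 h5 h6 h7
  exact ⟨h, hh⟩

theorem exists_ne_zero (I : ImpW (V := V) p q W K N Q φ) (i : B) : ∃ w ∈ W i, w ≠ 0 := by
  by_contra hcon
  push Not at hcon
  have h1 : ∀ j, W j ≤ ⊥ := by
    intro j w hw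
    obtain ⟨h, hh⟩ := exists_h I j i
    have h2 := mul_mem_W I h j hw
    rw [hh] at h2
    have h3 := hcon _ h2
    rw [AddSubgroup.mem_bot]
    exact (smul_eq_zero_iff_eq h).1 h3
  have h2 : (⊤ : AddSubgroup V) ≤ ⊥ := by
    rw [← I.top]
    exact iSup_le h1
  haveI := I.core.nt
  obtain ⟨v, hv⟩ := exists_ne (0 : V)
  exact hv ((AddSubgroup.mem_bot).1 (h2 (AddSubgroup.mem_top v)))

/-- a vector with support the complement of `Γ` -/
theorem exists_vec (I : ImpW (V := V) p q W K N Q φ) (Γ : Set B) :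
    ∃ v : V, (∀ h : H, (∀ i, i ∉ Γ → ∀ w ∈ W i, h • w = w) → h • v = v) ∧
      ∀ h : H, h • v = v → ∀ c ∈ Γ, h • c ∈ Γ := by
  classical
  haveI := Fintype.ofFinite B
  choose w hw hw0 using exists_ne_zero I
  let f : B → V := fun i => if i ∈ Γ then 0 else w i
  have hf : ∀ i, f i ∈ W i := by
    intro i
    by_cases h : i ∈ Γ
    · simp only [f, if_pos h]
      exact (W i).zero_mem
    · simp only [f, if_neg h]
      exact hw i
  refine ⟨∑ i, f i, ?_, ?_⟩
  · intro h hh
    rw [Finset.smul_sum]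
    refine Finset.sum_congr rfl fun i _ => ?_
    by_cases hi : i ∈ Γ
    · simp only [f, if_pos hi, smul_zero]
    · simp only [f, if_neg hi]
      exact hh i hi _ (hw i)
  · intro h hh c hc
    by_contra hcon
    have h1 : ∑ i, (h • f (h⁻¹ • i) - f i) = 0 := by
      rw [Finset.sum_sub_distrib]
      have h2 : ∑ i, h • f (h⁻¹ • i) = ∑ i, h • f i := by
        refine Fintype.sum_equiv (MulAction.toPerm h⁻¹) _ _ ?_
        intro i
        rfl
      rw [h2, ← Finset.smul_sum, hh, sub_self]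
    have h3 : ∀ i, h • f (h⁻¹ • i) - f i ∈ W i := by
      intro i
      refine (W i).sub_mem ?_ (hf i)
      have := mul_mem_W I h (h⁻¹ • i) (hf (h⁻¹ • i))
      rwa [smul_inv_smul] at this
    have h4 := sum_unique I.ind h3 h1 (h • c)
    rw [inv_smul_smul] at h4
    simp only [f, if_pos hc, if_neg hcon, smul_zero, zero_sub, neg_eq_zero] at h4
    exact hw0 _ h4

theorem exists_Gamma (I : ImpW (V := V) p q W K N Q φ) : ∃ (Γ : Set B) (b : B), b ∈ Γ ∧ Γ.ncard = p := by
  classical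
  haveI := Fintype.ofFinite B
  have h1 : p ≤ (Finset.univ : Finset B).card := by
    rw [Finset.card_univ, ← Nat.card_eq_fintype_card]
    have := I.card
    omega
  obtain ⟨s, -, hs⟩ := Finset.exists_subset_card_eq h1
  have h2 : s.Nonempty := by
    rw [← Finset.card_pos, hs]
    exact I.hp.pos
  obtain ⟨b, hb⟩ := h2
  exact ⟨(s : Set B), b, by simpa using hb, by rw [Set.ncard_coe_finset, hs]⟩

/-- The stabilizer of `b` and of the set `Γ`. -/
theorem index_false (I : ImpW (V := V) p q W K N Q φ) (Γ : Set B) (b : B) (hb : b ∈ Γ) (hΓ : Γ.ncard = p)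
    (v : V) (hvΓ : ∀ h : H, h • v = v → ∀ c ∈ Γ, h • c ∈ Γ)
    (Y : Subgroup H) (hNY : N ≤ Y)
    (hYv : ∀ y ∈ Y, y • v = v) (hYn : ∀ h : H, h • v = v → ∀ y ∈ Y, h * y * h⁻¹ ∈ Y) (ψ : Y →* ℂˣ)
    (hψ : ∀ n (hn : n ∈ N), ψ ⟨n, hNY hn⟩ = φ ⟨n, hn⟩)
    (hst : ∀ h : H, h • v = v → (∀ c ∈ Γ, h • c ∈ Γ) →
      (∀ y (hy : y ∈ Y) (hy' : h * y * h⁻¹ ∈ Y), ψ ⟨h * y * h⁻¹, hy'⟩ = ψ ⟨y, hy⟩) → h • b = b) : False := by
  let T : Subgroup H := MulAction.stabilizer H b ⊓ MulAction.stabilizer H Γ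
  have hT1 : ∀ t ∈ T, t • b = b := fun t ht => ht.1
  have hT2 : ∀ t ∈ T, ∀ c ∈ Γ, t • c ∈ Γ := by
    intro t ht c hc
    have h1 : t • Γ = Γ := ht.2
    rw [← h1]
    exact Set.smul_mem_smul_set hc
  refine stab_index I.hp I.core v Y hNY hYv hYn ψ hψ T ?_ (I.lab Γ b hb hΓ T hT1 hT2)
  intro h hv hinv
  have h1 := hvΓ h hv
  refine ⟨hst h hv h1 hinv, ?_⟩
  have hfin : Γ.Finite := Set.toFinite _
  change h • Γ = Γ
  apply Set.eq_of_subset_of_ncard_le
  · rintro _ ⟨c, hc, rfl⟩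
    exact h1 c hc
  · rw [Set.ncard_smul_set]
  · exact hfin

/-- [I-e1] PROD. -/
theorem prod_false (I : ImpW (V := V) p q W K N Q φ) (T : B → Subgroup H) (hTQ : ∀ i, T i ≤ Q)
    (hconj : ∀ (h : H) (i : B), ∀ t ∈ T i, h * t * h⁻¹ ∈ T (h • i))
    (htriv : ∀ i j, i ≠ j → ∀ t ∈ T i, ∀ w ∈ W j, t • w = w) (hT1 : ∀ i, T i ≠ ⊥)
    (hab : ∀ i j, ∀ a ∈ T i, ∀ b ∈ T j, a * b = b * a) (hTN : (⨆ i, T i) ⊓ N = ⊥) : False := by
  classical
  obtain ⟨Γ, b, hb, hΓ⟩ := exists_Gamma I
  obtain ⟨v, hv1, hv2⟩ := exists_vec I Γ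
  -- characters
  have hchar : ∀ i : Γ, ∃ c : T i →* ℂˣ, ((i : B) ≠ b → ∃ x, c x ≠ 1) ∧ ((i : B) = b → c = 1) := by
    intro i
    by_cases hi : (i : B) = b
    · exact ⟨1, fun h => absurd hi h, fun _ => rfl⟩
    · letI : CommGroup (T i) := { (inferInstance : Group (T i)) with
        mul_comm := fun x y => Subtype.ext (hab i i x x.2 y y.2) }
      obtain ⟨x, hx⟩ : ∃ x : T i, x ≠ 1 := by
        by_contra hcon
        push Not at hcon
        apply hT1 i
        rw [eq_bot_iff]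
        intro x hx
        have := congrArg Subtype.val (hcon ⟨x, hx⟩)
        exact this
      obtain ⟨c, hc⟩ := CommGroup.exists_apply_ne_one_of_hasEnoughRootsOfUnity (T i) ℂ hx
      exact ⟨c, fun _ => ⟨x, hc⟩, fun h => absurd h hi⟩
  choose c hc1 hc2 using hchar
  have hker : ∀ n ∈ N, ∀ w : V, n • w = w := fun n hn => (I.core.ker n).2 hn
  have hfaith : ∀ i : Γ, ∀ s ∈ T i, (∀ w ∈ W i, s • w = w) → s = 1 := by
    intro i s hs hw
    have h1 : s ∈ N := by
      rw [← I.core.ker]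
      have h2 : (⊤ : AddSubgroup V) ≤
          { carrier := {x | s • x = x}, zero_mem' := smul_zero s,
            add_mem' := fun {a b} ha hb => by
              have ha' : s • a = a := ha
              have hb' : s • b = b := hb
              change s • (a + b) = a + b
              rw [smul_add, ha', hb']
            neg_mem' := fun {a} ha => by
              have ha' : s • a = a := ha
              change s • (-a) = -a
              rw [smul_neg, ha'] } := by
        rw [← I.top]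
        refine iSup_le ?_
        intro j w hw'
        by_cases hj : (i : B) = j
        · subst hj
          exact hw w hw'
        · exact htriv i j hj s hs w hw'
      intro x
      exact h2 (AddSubgroup.mem_top x)
    have h3 : s ∈ (⨆ i, T i) ⊓ N := ⟨Subgroup.mem_iSup_of_mem (i : B) hs, h1⟩
    rw [hTN] at h3
    exact h3
  have hTW : ∀ i : B, ∀ s ∈ T i, ∀ j, ∀ w ∈ W j, s • w ∈ W j := by
    intro i s hs j w hw
    have h1 := mul_mem_W I s j hw
    rwa [(I.memQ s).1 (hTQ i hs) j] at h1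
  let Y : Subgroup H := N ⊔ ⨆ i : Γ, T i
  obtain ⟨ψ, hψN, hψT⟩ : ∃ ψ : Y →* ℂˣ, (∀ n (hn : n ∈ N) (hn' : n ∈ Y), ψ ⟨n, hn'⟩ = φ ⟨n, hn⟩) ∧
      ∀ (i : Γ) x (hx : x ∈ T i) (hx' : x ∈ Y), ψ ⟨x, hx'⟩ = c i ⟨x, hx⟩ :=
    exists_char N I.core.cen φ (fun i : Γ => T i)
    (fun i j a ha b hb => hab i j a ha b hb) (fun i : Γ => W i) hker
    (fun i s hs w hw => hTW i s hs i w hw)
    (fun i j hij s hs w hw => htriv i j (fun h => hij (Subtype.ext h)) s hs w hw) hfaith c
  have hTY : ∀ i ∈ Γ, T i ≤ Y := fun i hi => le_trans (le_iSup (fun i : Γ => T i) ⟨i, hi⟩) le_sup_right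
  refine index_false I Γ b hb hΓ v hv2 Y le_sup_left ?_ ?_ ψ (fun n hn => hψN n hn _) ?_
  · -- `Y` fixes `v`
    have h1 : Y ≤ MulAction.stabilizer H v := by
      refine sup_le (fun n hn => hker n hn v) (iSup_le ?_)
      rintro ⟨i, hi⟩ t ht
      refine hv1 t ?_
      intro j hj w hw
      exact htriv i j (fun h => hj (h ▸ hi)) t ht w hw
    exact fun y hy => h1 hy
  · -- `Y` is normalized
    intro h hv
    have h1 : Y ≤ Y.comap (MulAut.conj h).toMonoidHom := by
      refine sup_le ?_ (iSup_le ?_)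
      · intro n hn
        rw [Subgroup.mem_comap]
        have h2 : h * n * h⁻¹ = n := by
          rw [Subgroup.mem_center_iff.1 (I.core.cen hn) h, mul_inv_cancel_right]
        change h * n * h⁻¹ ∈ Y
        rw [h2]
        exact Subgroup.mem_sup_left hn
      · rintro ⟨i, hi⟩ t ht
        rw [Subgroup.mem_comap]
        change h * t * h⁻¹ ∈ Y
        exact hTY _ (hv2 h hv i hi) (hconj h i t ht)
    exact fun y hy => h1 hy
  · intro h hv hΓ' hinv
    by_contra hne
    have hb' : h • b ∈ Γ := hΓ' b hb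
    obtain ⟨⟨x, hx⟩, hx1⟩ := hc1 ⟨h • b, hb'⟩ hne
    have h1 : h⁻¹ * x * h ∈ T b := by
      have := hconj h⁻¹ (h • b) x hx
      rwa [inv_smul_smul, inv_inv] at this
    have h2 : h * (h⁻¹ * x * h) * h⁻¹ = x := by group
    have h3 := hinv (h⁻¹ * x * h) (hTY b hb h1) (by rw [h2]; exact hTY _ hb' hx)
    rw [hψT ⟨b, hb⟩ _ h1] at h3
    have h4 : ψ ⟨h * (h⁻¹ * x * h) * h⁻¹, by rw [h2]; exact hTY _ hb' hx⟩ = c ⟨h • b, hb'⟩ ⟨x, hx⟩ := by
      rw [← hψT ⟨h • b, hb'⟩ x hx (hTY _ hb' hx)]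
      congr 1
      exact Subtype.ext h2
    rw [h4, hc2 ⟨b, hb⟩ rfl] at h3
    exact hx1 h3

/-- [I-e2] ZERO. -/
theorem zero_false (I : ImpW (V := V) p q W K N Q φ) {r : ℕ} (hr : r.Prime) (y : B → B → H)
    (hyQ : ∀ i j, i ≠ j → y i j ∈ Q) (hyN : ∀ i j, i ≠ j → y i j ∉ N)
    (htriv : ∀ i j k, i ≠ j → k ≠ i → k ≠ j → ∀ w ∈ W k, y i j • w = w)
    (hab : ∀ i j k l, i ≠ j → k ≠ l → y i j * y k l = y k l * y i j)
    (hconj : ∀ (h : H) (i j : B), i ≠ j → h * y i j * h⁻¹ = y (h • i) (h • j))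
    (hinv : ∀ i j, i ≠ j → y i j * y j i = 1)
    (hmul : ∀ i j k, i ≠ j → i ≠ k → j ≠ k → y i j * y j k = y i k)
    (hpow : ∀ i j, i ≠ j → y i j ^ r = 1) : False := by
  classical
  haveI : Fact r.Prime := ⟨hr⟩
  obtain ⟨Γ, b, hb, hΓ⟩ := exists_Gamma I
  obtain ⟨v, hv1, hv2⟩ := exists_vec I Γ
  have hker : ∀ n ∈ N, ∀ w : V, n • w = w := fun n hn => (I.core.ker n).2 hn
  have hp3 : 3 ≤ p := by
    have h1 := I.hp.two_le
    have h2 := I.core.odd
    omega
  -- order of `y`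
  have hy1 : ∀ i j, i ≠ j → y i j ≠ 1 := fun i j hij h => hyN i j hij (h ▸ N.one_mem)
  have hord : ∀ i j, i ≠ j → orderOf (y i j) = r := fun i j hij => orderOf_eq_prime (hpow i j hij) (hy1 i j hij)
  have hyinv : ∀ i j, i ≠ j → y j i = (y i j)⁻¹ := fun i j hij => (eq_inv_of_mul_eq_one_right (hinv i j hij))
  -- `y i j` is nontrivial on `W j`
  have hnt : ∀ i j, i ≠ j → ¬ ∀ w ∈ W j, y i j • w = w := by
    intro i j hij hcon
    apply hyN i j hij
    rw [← I.core.ker]
    have hi : ∀ w ∈ W i, y i j • w = w := by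
      -- move `(i, j)` to `(j, i)`
      obtain ⟨k, hk1, hk2⟩ : ∃ k, i ≠ k ∧ j ≠ k := by
        haveI := Fintype.ofFinite B
        have h3 : 5 ≤ Fintype.card B := by
          rw [← Nat.card_eq_fintype_card]
          have := I.card
          omega
        have h2 : 0 < ((Finset.univ.erase i).erase j).card := by
          rw [Finset.card_erase_of_mem (Finset.mem_erase.2 ⟨hij.symm, Finset.mem_univ j⟩),
            Finset.card_erase_of_mem (Finset.mem_univ i), Finset.card_univ]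
          omega
        obtain ⟨k, hk⟩ := Finset.card_pos.1 h2
        rw [Finset.mem_erase, Finset.mem_erase] at hk
        exact ⟨k, hk.2.1.symm, hk.1.symm⟩
      obtain ⟨h, h1, h2, -⟩ := I.t3 i j k j i k hij hk1 hk2 hij.symm hk2 hk1
      intro w hw
      have h3 : y j i = h * y i j * h⁻¹ := by rw [hconj h i j hij, h1, h2]
      have h4 : h⁻¹ • w ∈ W j := by
        have := mul_mem_W I h⁻¹ i hw
        rwa [show h⁻¹ • i = j by rw [inv_smul_eq_iff]; exact h2.symm] at this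
      have h5 : y j i • w = w := by
        rw [h3, mul_smul, mul_smul, hcon _ h4, smul_inv_smul]
      rw [hyinv i j hij] at h5
      rw [inv_smul_eq_iff] at h5
      exact h5.symm
    have h2 : (⊤ : AddSubgroup V) ≤
        { carrier := {x | y i j • x = x}, zero_mem' := smul_zero (y i j),
          add_mem' := fun {a b} ha hb => by
            have ha' : y i j • a = a := ha
            have hb' : y i j • b = b := hb
            change y i j • (a + b) = a + b
            rw [smul_add, ha', hb']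
          neg_mem' := fun {a} ha => by
            have ha' : y i j • a = a := ha
            change y i j • (-a) = -a
            rw [smul_neg, ha'] } := by
      rw [← I.top]
      refine iSup_le ?_
      intro k w hw'
      by_cases hk : k = i
      · subst hk
        exact hi w hw'
      · by_cases hk' : k = j
        · subst hk'
          exact hcon w hw'
        · exact htriv i j k hij hk hk' w hw'
    intro x
    exact h2 (AddSubgroup.mem_top x)
  -- index set and subgroups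
  let ι := {k : B // k ∈ Γ ∧ k ≠ b}
  have hι : ∀ k : ι, b ≠ (k : B) := fun k => k.2.2.symm
  let S : ι → Subgroup H := fun k => Subgroup.zpowers (y b k)
  have hfaith : ∀ i : ι, ∀ s ∈ S i, (∀ w ∈ W i, s • w = w) → s = 1 := by
    intro i s hs hw
    by_contra hne
    apply hnt b i (hι i)
    -- `s` generates
    have h1 : Subgroup.zpowers s = Subgroup.zpowers (y b i) := by
      have h2 : Subgroup.zpowers s ≤ Subgroup.zpowers (y b i) := by
        rw [Subgroup.zpowers_le]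
        exact hs
      apply Subgroup.eq_of_le_of_card_ge h2
      have h3 : orderOf s ∣ r := by
        rw [← hord b i (hι i)]
        rw [← Nat.card_zpowers, ← Nat.card_zpowers]
        exact Subgroup.card_dvd_of_le h2
      rw [Nat.card_zpowers, Nat.card_zpowers, hord b i (hι i)]
      rcases (Nat.dvd_prime hr).1 h3 with h4 | h4
      · exact absurd (orderOf_eq_one_iff.1 h4) hne
      · exact h4.ge
    have h2 : y b i ∈ Subgroup.zpowers s := by
      rw [h1]
      exact Subgroup.mem_zpowers _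
    obtain ⟨m, hm⟩ := Subgroup.mem_zpowers_iff.1 h2
    intro w hw'
    have h3 : Subgroup.zpowers s ≤ MulAction.stabilizer H w := by
      rw [Subgroup.zpowers_le]
      exact hw w hw'
    exact h3 h2
  have hSQ : ∀ i : ι, S i ≤ Q := by
    intro i
    rw [Subgroup.zpowers_le]
    exact hyQ b i (hι i)
  have hSW : ∀ i : ι, ∀ s ∈ S i, ∀ j, ∀ w ∈ W j, s • w ∈ W j := by
    intro i s hs j w hw
    have h1 := mul_mem_W I s j hw
    rwa [(I.memQ s).1 (hSQ i hs) j] at h1
  have hStriv : ∀ i : ι, ∀ j : B, j ≠ b → j ≠ i → ∀ s ∈ S i, ∀ w ∈ W j, s • w = w := by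
    intro i j hj1 hj2 s hs w hw
    have h3 : S i ≤ MulAction.stabilizer H w := by
      rw [Subgroup.zpowers_le]
      exact htriv b i j (hι i) hj1 hj2 w hw
    exact h3 hs
  have hScomm : ∀ i j : ι, ∀ a ∈ S i, ∀ c ∈ S j, a * c = c * a := by
    intro i j a ha c hc
    obtain ⟨m, rfl⟩ := Subgroup.mem_zpowers_iff.1 ha
    obtain ⟨l, rfl⟩ := Subgroup.mem_zpowers_iff.1 hc
    have h1 : Commute (y b i) (y b j) := hab b i b j (hι i) (hι j)
    exact (h1.zpow_zpow m l).eq
  -- the root of unity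
  haveI : NeZero r := ⟨hr.ne_zero⟩
  obtain ⟨ζ, hζ⟩ : ∃ ζ : ℂˣ, orderOf ζ = r := by
    have h1 : IsPrimitiveRoot (Complex.exp (2 * Real.pi * Complex.I / r)) r :=
      Complex.isPrimitiveRoot_exp r hr.ne_zero
    obtain ⟨z, hz⟩ := h1.isUnit hr.ne_zero
    refine ⟨z, ?_⟩
    have h2 : IsPrimitiveRoot z r := by
      rw [← hz] at h1
      exact (IsPrimitiveRoot.coe_units_iff).1 h1
    exact h2.eq_orderOf.symm
  have hζ1 : ζ ≠ 1 := by
    intro h
    rw [h, orderOf_one] at hζ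
    exact hr.one_lt.ne hζ
  have hc : ∀ i : ι, ∃ c : S i →* ℂˣ, c ⟨y b i, Subgroup.mem_zpowers _⟩ = ζ := by
    intro i
    let g : S i := ⟨y b i, Subgroup.mem_zpowers _⟩
    have hg : ∀ x, x ∈ Subgroup.zpowers g := by
      rintro ⟨x, hx⟩
      obtain ⟨m, rfl⟩ := Subgroup.mem_zpowers_iff.1 hx
      exact Subgroup.mem_zpowers_iff.2 ⟨m, Subtype.ext (by simp [g])⟩
    have hg' : orderOf ζ ∣ orderOf g := by
      rw [hζ]
      have : orderOf g = r := by
        rw [← hord b i (hι i)]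
        exact (Subgroup.orderOf_coe g).symm
      rw [this]
    exact ⟨monoidHomOfForallMemZpowers hg hg', monoidHomOfForallMemZpowers_apply_gen hg hg'⟩
  choose c hc using hc
  let Y : Subgroup H := N ⊔ ⨆ i : ι, S i
  obtain ⟨ψ, hψN, hψS⟩ : ∃ ψ : Y →* ℂˣ, (∀ n (hn : n ∈ N) (hn' : n ∈ Y), ψ ⟨n, hn'⟩ = φ ⟨n, hn⟩) ∧
      ∀ (i : ι) x (hx : x ∈ S i) (hx' : x ∈ Y), ψ ⟨x, hx'⟩ = c i ⟨x, hx⟩ :=
    exists_char N I.core.cen φ S hScomm (fun i : ι => W i) hker
    (fun i s hs w hw => hSW i s hs i w hw)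
    (fun i j hij s hs w hw => hStriv i j j.2.2 (fun h => hij (Subtype.ext h.symm)) s hs w hw) hfaith c
  have hby : ∀ k (h1 : k ∈ Γ) (h2 : k ≠ b), y b k ∈ Y := fun k h1 h2 =>
    Subgroup.mem_sup_right (Subgroup.mem_iSup_of_mem (⟨k, h1, h2⟩ : ι) (Subgroup.mem_zpowers _))
  have hyb : ∀ k (h1 : k ∈ Γ) (h2 : k ≠ b), y k b ∈ Y := by
    intro k h1 h2
    rw [hyinv b k h2.symm]
    exact Y.inv_mem (hby k h1 h2)
  have hYmem : ∀ i ∈ Γ, ∀ j ∈ Γ, i ≠ j → y i j ∈ Y := by
    intro i hi j hj hij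
    by_cases h1 : i = b
    · subst h1
      exact hby j hj hij.symm
    · by_cases h2 : j = b
      · subst h2
        exact hyb i hi hij
      · rw [← hmul i b j h1 hij (Ne.symm h2)]
        exact Y.mul_mem (hyb i hi h1) (hby j hj h2)
  have hψb : ∀ k (h1 : k ∈ Γ) (h2 : k ≠ b) (h3 : y b k ∈ Y), ψ ⟨y b k, h3⟩ = ζ := by
    intro k h1 h2 h3
    rw [hψS (⟨k, h1, h2⟩ : ι) (y b k) (Subgroup.mem_zpowers _) h3]
    exact hc ⟨k, h1, h2⟩
  have hψ1 : ∀ i ∈ Γ, ∀ j ∈ Γ, i ≠ j → i ≠ b → j ≠ b → ∀ h3 : y i j ∈ Y, ψ ⟨y i j, h3⟩ = 1 := by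
    intro i hi j hj hij h1 h2 h3
    have h4 : (⟨y i j, h3⟩ : Y) = (⟨y b i, hby i hi h1⟩ : Y)⁻¹ * ⟨y b j, hby j hj h2⟩ := by
      apply Subtype.ext
      rw [Subgroup.coe_mul, Subgroup.coe_inv, ← hyinv b i (Ne.symm h1), hmul i b j h1 hij (Ne.symm h2)]
    rw [h4, map_mul, map_inv, hψb i hi h1, hψb j hj h2, inv_mul_cancel]
  refine index_false I Γ b hb hΓ v hv2 Y le_sup_left ?_ ?_ ψ (fun n hn => hψN n hn _) ?_
  · -- `Y` fixes `v`
    have h1 : Y ≤ MulAction.stabilizer H v := by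
      refine sup_le (fun n hn => hker n hn v) (iSup_le ?_)
      intro i
      rw [Subgroup.zpowers_le]
      refine hv1 _ ?_
      intro j hj w hw
      exact htriv b i j (hι i) (fun h => hj (h ▸ hb)) (fun h => hj (h ▸ i.2.1)) w hw
    exact fun y hy => h1 hy
  · -- `Y` is normalized
    intro h hv
    have h1 : Y ≤ Y.comap (MulAut.conj h).toMonoidHom := by
      refine sup_le ?_ (iSup_le ?_)
      · intro n hn
        rw [Subgroup.mem_comap]
        have h2 : h * n * h⁻¹ = n := by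
          rw [Subgroup.mem_center_iff.1 (I.core.cen hn) h, mul_inv_cancel_right]
        change h * n * h⁻¹ ∈ Y
        rw [h2]
        exact Subgroup.mem_sup_left hn
      · intro i
        rw [Subgroup.zpowers_le, Subgroup.mem_comap]
        change h * y b i * h⁻¹ ∈ Y
        rw [hconj h b i (hι i)]
        exact hYmem _ (hv2 h hv b hb) _ (hv2 h hv i i.2.1) (fun h' => hι i (MulAction.injective h h'))
    exact fun y hy => h1 hy
  · intro h hv hΓ' hinv'
    by_contra hne
    have hb' : h • b ∈ Γ := hΓ' b hb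
    -- choose `k ∈ Γ`, `k ≠ b`, `h • k ≠ b`
    obtain ⟨k, hk, hkb, hhk⟩ : ∃ k ∈ Γ, k ≠ b ∧ h • k ≠ b := by
      by_contra hcon
      push Not at hcon
      have h1 : Γ ⊆ {b, h⁻¹ • b} := by
        intro k hk
        by_cases h2 : k = b
        · exact Or.inl h2
        · right
          have := hcon k hk h2
          rw [Set.mem_singleton_iff, eq_inv_smul_iff]
          exact this
      have h2 : Γ.ncard ≤ 2 := (Set.ncard_le_ncard h1 (Set.toFinite _)).trans (by
        have := Set.ncard_insert_le b ({h⁻¹ • b} : Set B)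
        rw [Set.ncard_singleton] at this
        exact this)
      omega
    have hhk' : h • k ∈ Γ := hΓ' k hk
    have hne' : h • b ≠ h • k := fun h' => hkb (MulAction.injective h h').symm
    have h2 : h * y b k * h⁻¹ = y (h • b) (h • k) := hconj h b k (Ne.symm hkb)
    have h3 := hinv' (y b k) (hby k hk hkb) (by rw [h2]; exact hYmem _ hb' _ hhk' hne')
    rw [hψb k hk hkb] at h3
    have h4 : ψ ⟨h * y b k * h⁻¹, by rw [h2]; exact hYmem _ hb' _ hhk' hne'⟩ = 1 := by
      rw [← hψ1 _ hb' _ hhk' hne' hne hhk (hYmem _ hb' _ hhk' hne')]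
      congr 1
      exact Subtype.ext h2
    rw [h4] at h3
    exact hζ1 h3.symm

end imp

end Cfsg.Agent.H32.NY.A912
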