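import Mathlib
import Cfsg.Agent.H32.NY.FiveP
import Cfsg.Agent.H32.NY.Lab

/-!
# S4979, layer (I), [I-f]: conclusion (helper322)

* `scal_of_rdata` : `Q` acts on `P` modulo `N` by scalars;
* `perm_data` : in the alternating case there are coordinates on `P N` which are permuted by `H`.
-/

set_option autoImplicit false
set_option linter.unusedSectionVars false

open Cfsg
open scoped commutatorElement Pointwise

namespace Cfsg.Agent.H32.NY.A322

open Cfsg.Agent.H322.NX Cfsg.Agent.H32.NX9 Cfsg.Agent.H32.NY.A32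

open Cfsg.Agent.H32.NX9 Cfsg.Agent.H32.NY.A32 Cfsg.Agent.H37.NX Cfsg.Agent.H32.NY.A37

universe u v

variable {p q r a : ℕ} {H V : Type u} {B : Type v} [Group H] [Finite H] [AddCommGroup V] [Finite V]
  [DistribMulAction H V] [Finite B] [MulAction H B] {W : B → AddSubgroup V} {K N Q P : Subgroup H}
  {φ : N →* ℂˣ} {t : B → H}

theorem no_prod (I : ImpW (V := V) p q W K N Q φ) : ¬ ∃ T : B → Subgroup H, Prod W N Q T := by
  rintro ⟨T, hT⟩
  exact Cfsg.Agent.H32.NY.A912.prod_false I T hT.TQ hT.conj hT.triv hT.ne hT.ab hT.inf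

/-- **[I-f]** `Q` acts on `P` modulo `N` by scalars. -/
theorem scal_of_rdata (I : ImpW (V := V) p q W K N Q φ) (R : RData r a W N Q P t) : Scal N Q P :=
  (scal_or_prod R I).resolve_right (no_prod I)

/-- the cocycle is a coboundary in the alternating case -/
theorem cob (I : ImpW (V := V) p q W K N Q φ) (R : RData r a W N Q P t) (hA : IsAlt H B)
    (hn : (p = 3 ∧ Nat.card B = 5) ∨ 8 ≤ Nat.card B) :
    ∃ c : B → (ZMod (r ^ a))ˣ, ∀ (h : H) (i : B), Uu R I h i * c i = c (h • i) := by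
  rcases hn with ⟨hp3, h5⟩ | h8
  · exact (cob_five R I hA h5 hp3 (scal_of_rdata I R)).resolve_right (no_prod I)
  · exact cob_big R I hA (by omega) (scal_of_rdata I R)

/-- **[I-f]** permuted coordinates in the alternating case -/
theorem perm_data (I : ImpW (V := V) p q W K N Q φ) (R : RData r a W N Q P t) (hA : IsAlt H B)
    (hn : (p = 3 ∧ Nat.card B = 5) ∨ 8 ≤ Nat.card B) :
    ∃ x : H → B → ZMod (r ^ a),
      (∀ b ∈ P ⊔ N, ∀ c ∈ P ⊔ N, ∀ i, x (b * c) i = x b i + x c i) ∧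
      (∀ b ∈ P ⊔ N, (∀ i, x b i = 0) → b ∈ N) ∧
      (∀ b ∈ N, ∀ i, x b i = 0) ∧
      (∀ h : H, ∀ b ∈ P ⊔ N, ∀ i, x (h * b * h⁻¹) (h • i) = x b i) ∧
      N ≤ P ⊔ N ∧ (P ⊔ N).Normal ∧ P ⊔ N ≤ Q ∧ (¬ r ∣ (P ⊔ N).relIndex Q) ∧
      (∀ ρ ∈ P ⊔ N, ∀ i, x ρ i = 0 → ∀ w ∈ W i, ρ • w = w) ∧
      (∀ i, IsUnit (x (t i) i)) := by
  classical
  haveI := neZero_ra R
  haveI hPn := R.nP
  haveI hNn : N.Normal := ⟨fun n hn g => by
    have h1 := Subgroup.mem_center_iff.1 (I.core.cen hn) g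
    rw [h1, mul_inv_cancel_right]
    exact hn⟩
  obtain ⟨c, hc⟩ := cob I R hA hn
  have hdec : ∀ b ∈ P ⊔ N, ∃ y ∈ P, b * y⁻¹ ∈ N := by
    intro b hb
    obtain ⟨y, hy, n, hn, rfl⟩ := Subgroup.mem_sup_of_normal_right.1 hb
    refine ⟨y, hy, ?_⟩
    rw [comm_N I hn y, mul_inv_cancel_right]
    exact hn
  -- the coordinate of `b ∈ P N`
  let X' : H → B → ZMod (r ^ a) := fun b i => if hb : b ∈ P ⊔ N then X R i (Classical.choose (hdec b hb)) else 0
  have hX' : ∀ b (y : H), y ∈ P → b * y⁻¹ ∈ N → ∀ i, X' b i = X R i y := by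
    intro b y hy hby i
    have hb : b ∈ P ⊔ N := by
      have h1 : b = b * y⁻¹ * y := by group
      rw [h1]
      exact mul_mem ((le_sup_right : N ≤ P ⊔ N) hby) ((le_sup_left : P ≤ P ⊔ N) hy)
    have h1 := Classical.choose_spec (hdec b hb)
    show (if hb : b ∈ P ⊔ N then X R i (Classical.choose (hdec b hb)) else 0) = _
    rw [dif_pos hb]
    set z := Classical.choose (hdec b hb) with hz
    have h2 : z * y⁻¹ ∈ N := by
      have h3 : z * y⁻¹ = (b * z⁻¹)⁻¹ * (b * y⁻¹) := by group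
      rw [h3]
      exact mul_mem (inv_mem h1.2) hby
    have h3 := X_N R I (mul_mem h1.1 (inv_mem hy)) h2 i
    rw [X_mul R I h1.1 (inv_mem hy), X_inv R I hy] at h3
    exact add_neg_eq_zero.1 h3
  have hXP : ∀ y ∈ P, ∀ i, X' y i = X R i y := fun y hy i => hX' y y hy (by rw [mul_inv_cancel]; exact one_mem N) i
  have hW : ∀ i, W i ≠ ⊥ := by
    intro i hi
    have h1 := (R.ord i 1).1 (fun w hw => by
      rw [hi, AddSubgroup.mem_bot] at hw
      rw [hw, smul_zero])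
    rw [Nat.dvd_one, Nat.pow_eq_one] at h1
    have := R.ha
    have := R.prime.one_lt
    omega
  have hNQ : N ≤ Q := N_le_Q I hW
  refine ⟨fun b i => ((c i)⁻¹ : (ZMod (r ^ a))ˣ) * X' b i, ?_, ?_, ?_, ?_, le_sup_right, inferInstance,
    sup_le R.PQ hNQ, ?_, ?_, ?_⟩
  · intro b hb d hd i
    obtain ⟨y, hy, hby⟩ := hdec b hb
    obtain ⟨z, hz, hdz⟩ := hdec d hd
    show ((c i)⁻¹ : (ZMod (r ^ a))ˣ) * X' (b * d) i = ((c i)⁻¹ : (ZMod (r ^ a))ˣ) * X' b i +
      ((c i)⁻¹ : (ZMod (r ^ a))ˣ) * X' d i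
    have h1 : b * d * (y * z)⁻¹ ∈ N := by
      have h2 : b * d * (y * z)⁻¹ = b * (d * z⁻¹) * y⁻¹ := by group
      rw [h2, comm_N I hdz b, mul_assoc]
      exact mul_mem hdz hby
    rw [hX' _ _ (mul_mem hy hz) h1, hX' b y hy hby, hX' d z hz hdz, X_mul R I hy hz, mul_add]
  · intro b hb h0
    obtain ⟨y, hy, hby⟩ := hdec b hb
    have h1 : y ∈ N := X_all R I hy fun i => by
      rw [← hX' b y hy hby i]
      exact (((c i)⁻¹ : (ZMod (r ^ a))ˣ).isUnit.mul_right_eq_zero).1 (h0 i)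
    have h2 : b = b * y⁻¹ * y := by group
    rw [h2]
    exact mul_mem hby h1
  · intro b hb i
    show ((c i)⁻¹ : (ZMod (r ^ a))ˣ) * X' b i = 0
    rw [hX' b 1 (one_mem P) (by rw [inv_one, mul_one]; exact hb), X_one, mul_zero]
  · intro h b hb i
    obtain ⟨y, hy, hby⟩ := hdec b hb
    show ((c (h • i))⁻¹ : (ZMod (r ^ a))ˣ) * X' (h * b * h⁻¹) (h • i) = ((c i)⁻¹ : (ZMod (r ^ a))ˣ) * X' b i
    have h1 : h * b * h⁻¹ * (h * y * h⁻¹)⁻¹ ∈ N := by
      have h2 : h * b * h⁻¹ * (h * y * h⁻¹)⁻¹ = h * (b * y⁻¹) * h⁻¹ := by group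
      rw [h2]
      exact hNn.conj_mem _ hby h
    rw [hX' _ _ (R.nP.conj_mem _ hy h) h1, hX' b y hy hby, X_conj R I hy, ← Uu_val R I, ← mul_assoc,
      ← Units.val_mul, ← hc h i]
    congr 2
    rw [mul_inv, mul_comm (Uu R I h i)⁻¹, mul_assoc, inv_mul_cancel, mul_one]
  · intro hd
    exact R.idx (hd.trans (Subgroup.relIndex_dvd_of_le_left Q le_sup_left))
  · intro b hb i h0 w hw
    obtain ⟨y, hy, hby⟩ := hdec b hb
    have h1 : X R i y = 0 := by
      rw [← hX' b y hy hby i]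
      exact (((c i)⁻¹ : (ZMod (r ^ a))ˣ).isUnit.mul_right_eq_zero).1 h0
    have h2 : b = b * y⁻¹ * y := by group
    rw [h2, mul_smul, smul_of_mem_N I hby, (X_eq_zero R hy i).1 h1 w hw]
  · intro i
    show IsUnit (((c i)⁻¹ : (ZMod (r ^ a))ˣ) * X' (t i) i : ZMod (r ^ a))
    rw [hXP _ (R.tP i), X_t, mul_one]
    exact Units.isUnit _

end Cfsg.Agent.H32.NY.A322
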