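import Cfsg.Agent.H32.NX9.RDef
import Cfsg.Agent.H37.NX.TripNum
import Cfsg.Agent.H37.NW.Cov
import Cfsg.Agent.H37.NW.TThree
import Cfsg.Agent.H37.NW.Ctx
import Cfsg.Agent.H692.Rel.Red
import Cfsg.Agent.H676.DL.Prep
import Cfsg.Agent.SmallSimple.Simple168
import Cfsg.Agent.S0493
import Cfsg.Agent.H32.NY.Defs

/-!
# S4979, layer (I), (I6): the bad case over `AGL_3(2)` (helper37)

`K / N` is a `2`-group times `2^3`; a Sylow `7`-subgroup fixes some `θ ∈ Irr(K | φ)`, whose inertia group `T` has
index prime to `3` and `7`; all characters over `θ` have relative degree prime to `3`, so there are at most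
`|C(x)| = 3` of them (`x` of order `3` in `T / K ≤ PSL_2(7)`), and the squares of their relative degrees add up
to `|T : K|`: impossible.
-/

set_option autoImplicit false
set_option linter.style.haveILetI false
set_option linter.unusedSectionVars false

open Cfsg
open scoped Pointwise

namespace Cfsg.Agent.H32.NY.A37

open Cfsg.Agent.H37.NX Cfsg.Agent.H32.NX9 Cfsg.Agent.H32.NY.A32

open Cfsg.Agent.H32.NX9 Cfsg.Agent.H32.NY.A32 MulAction
open Cfsg.Agent.Characters.Core Cfsg.Agent.Characters.Clifford Cfsg.Agent.H672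
open Cfsg.Agent.H586.GW Cfsg.Agent.H37.NW
open Cfsg.Agent.H595.Triple Cfsg.Agent.H595.Central
open Cfsg.Agent.H672.RM (over_lin_iff TSet)

universe u v w

/-- The primitive group of degree `8` and order `1344` has a normal subgroup of order `8`. -/
def Big8Stmt : Prop :=
  ∀ G : Subgroup (Equiv.Perm (Fin 8)), MulAction.IsPreprimitive G (Fin 8) → Nat.card G = 1344 →
    ∃ V : Subgroup G, V.Normal ∧ Nat.card V = 8

/-- An automorphism of a group of prime order `q` has order dividing `q - 1`. -/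
theorem pow_smul_of_prime_card {H V : Type*} [Group H] [AddCommGroup V] [DistribMulAction H V] {q : ℕ}
    (hq : q.Prime) {W : AddSubgroup V} (hW : Nat.card W = q) (x : H) (hx : ∀ w ∈ W, x • w ∈ W) :
    ∀ w ∈ W, x ^ (q - 1) • w = w := by
  haveI : Fact q.Prime := ⟨hq⟩
  intro w hw
  by_cases h0 : w = 0
  · rw [h0, smul_zero]
  have h1 : (⟨w, hw⟩ : W) ≠ 0 := fun h => h0 (congrArg Subtype.val h)
  have h2 := mem_zmultiples_of_prime_card hW (g' := ⟨x • w, hx w hw⟩) h1
  obtain ⟨n, hn⟩ := AddSubgroup.mem_zmultiples_iff.1 h2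
  have hn' : x • w = n • w := (congrArg Subtype.val hn).symm
  have hq0 : (q : ℤ) • w = 0 := by
    have h3 : Nat.card W • (⟨w, hw⟩ : W) = 0 := card_nsmul_eq_zero'
    have h4 := congrArg Subtype.val h3
    rw [hW] at h4
    rw [natCast_zsmul]
    exact h4
  have hpow : ∀ k : ℕ, x ^ k • w = n ^ k • w := by
    intro k
    induction k with
    | zero => rw [pow_zero, pow_zero, one_smul, one_smul]
    | succ k ih =>
      rw [pow_succ', mul_smul, ih]
      have h5 : x • (n ^ k • w) = n ^ k • (x • w) :=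
        (DistribSMul.toAddMonoidHom V x).map_zsmul _ _
      rw [h5, hn', smul_smul, pow_succ]
  have hnd : ¬ (q : ℤ) ∣ n := by
    rintro ⟨m, rfl⟩
    apply h0
    have h6 : x • w = 0 := by
      rw [hn', mul_comm, mul_smul, hq0, smul_zero]
    exact (smul_eq_zero_iff_eq x).1 h6
  have hmod : n ^ (q - 1) ≡ 1 [ZMOD q] :=
    Int.ModEq.pow_card_sub_one_eq_one hq ((Int.isCoprime_iff_gcd_eq_one.2 (by
      rw [Int.gcd_comm]
      exact (Nat.Coprime.symm (by
        rw [Nat.coprime_comm]
        exact (Nat.Prime.coprime_iff_not_dvd hq).2 (fun h => hnd (Int.natCast_dvd.2 h)))))))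
  obtain ⟨m, hm⟩ := (Int.modEq_iff_dvd.1 hmod.symm)
  rw [hpow, show n ^ (q - 1) = 1 + m * q by rw [mul_comm m]; omega, add_smul, one_smul, mul_smul, hq0,
    smul_zero, add_zero]

section
variable {p q : ℕ} {H : Type u} {V : Type v} {B : Type w} [Group H] [Finite H] [AddCommGroup V] [Finite V]
  [DistribMulAction H V] [Finite B] [MulAction H B] {W : B → AddSubgroup V} {K N Q : Subgroup H} {φ : N →* ℂˣ}

theorem ImpW.index_K (hB : Big8Stmt) (I : ImpW (V := V) p q W K N Q φ) (hn : Nat.card B = 8)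
    (hQ : Q.index = 1344) : K.index = 168 := by
  classical
  let e : B ≃ Fin 8 := Finite.equivFinOfCardEq hn
  let Φ : H →* Equiv.Perm (Fin 8) := (e.permCongrHom).toMonoidHom.comp (MulAction.toPermHom H B)
  have hΦ : ∀ (h : H) (b : B), Φ h (e b) = e (h • b) := by
    intro h b
    change e ((MulAction.toPermHom H B h) (e.symm (e b))) = _
    rw [e.symm_apply_apply]
    rfl
  have hker : Φ.ker = Q := by
    ext h
    rw [MonoidHom.mem_ker, I.memQ]
    constructor
    · intro h1 i
      have h2 := hΦ h i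
      rw [h1] at h2
      exact (e.injective h2).symm
    · intro h1
      ext i : 1
      obtain ⟨b, rfl⟩ := e.surjective i
      rw [hΦ, h1]
      rfl
  have hG : Nat.card Φ.range = 1344 := by
    rw [← Subgroup.index_ker, hker, hQ]
  have h2 : IsMultiplyPretransitive Φ.range (Fin 8) 2 := by
    rw [is_two_pretransitive_iff]
    intro a b a' b' hab hab'
    obtain ⟨i, rfl⟩ := e.surjective a
    obtain ⟨j, rfl⟩ := e.surjective b
    obtain ⟨i', rfl⟩ := e.surjective a'
    obtain ⟨j', rfl⟩ := e.surjective b'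
    have hij : i ≠ j := fun h => hab (by rw [h])
    have hij' : i' ≠ j' := fun h => hab' (by rw [h])
    have hthird : ∀ x y : B, ∃ z : B, x ≠ z ∧ y ≠ z := by
      intro x y
      by_contra hcon
      push Not at hcon
      have h3 : (Set.univ : Set B) ⊆ {x, y} := by
        intro z _
        by_cases hz : x = z
        · exact Or.inl hz.symm
        · exact Or.inr (hcon z hz).symm
      have h4 := Set.ncard_le_ncard h3 (Set.toFinite _)
      rw [Set.ncard_univ, hn] at h4
      have h5 := Set.ncard_insert_le x {y}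
      rw [Set.ncard_singleton] at h5
      omega
    obtain ⟨k, hk1, hk2⟩ := hthird i j
    obtain ⟨k', hk1', hk2'⟩ := hthird i' j'
    obtain ⟨h, h3, h4, -⟩ := I.t3 i j k i' j' k' hij hk1 hk2 hij' hk1' hk2'
    refine ⟨⟨Φ h, h, rfl⟩, ?_, ?_⟩
    · change Φ h (e i) = e i'
      rw [hΦ, h3]
    · change Φ h (e j) = e j'
      rw [hΦ, h4]
  have hprim : IsPreprimitive Φ.range (Fin 8) := isPreprimitive_of_is_two_pretransitive h2
  obtain ⟨V8, hVn, hV8⟩ := hB Φ.range hprim hG
  let R : Subgroup H := V8.comap Φ.rangeRestrict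
  haveI : R.Normal := Subgroup.Normal.comap hVn _
  have hR : R.index = 168 := by
    have h3 : R.index = V8.index := Subgroup.index_comap_of_surjective _ Φ.rangeRestrict_surjective
    have h4 := V8.card_mul_index
    rw [hV8, hG] at h4
    omega
  have hRK : R ≤ K := I.core.maxK R inferInstance (by
    intro h
    rw [h, Subgroup.index_top] at hR
    omega)
  have hd : K.index ∣ 168 := by
    rw [← hR]
    exact Subgroup.index_dvd_of_le hRK
  haveI := I.core.nK
  haveI := I.core.simp
  have h60 : Nat.card (H ⧸ K) ≤ 100 → Nat.card (H ⧸ K) = 60 := by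
    intro h
    refine Cfsg.Agent.S0493.result ?_ h
    intro hc
    exact I.core.na hc.isMulCommutative
  change K.index ≤ 100 → K.index = 60 at h60
  have h5 : K.index ≤ 168 := Nat.le_of_dvd (by norm_num) hd
  have h6 : 100 < K.index := by
    by_contra hcon
    have h7 := h60 (by omega)
    rw [h7] at hd
    omega
  obtain ⟨c, hc⟩ := hd
  have : c = 1 := by
    rcases Nat.lt_or_ge c 2 with h7 | h7
    · interval_cases c
      · omega
      · rfl
    · nlinarith
  rw [this] at hc
  omega

theorem ImpW.N_le_Q' (I : ImpW (V := V) p q W K N Q φ) (hW : ∀ i, W i ≠ ⊥) : N ≤ Q := by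
  intro n hn
  rw [I.memQ]
  intro i
  by_contra hcon
  -- `n` acts trivially on `V`
  have h1 := I.smulW n i
  have h2 : n • W i = W i := by
    ext w
    rw [AddSubgroup.mem_smul_pointwise_iff_exists]
    constructor
    · rintro ⟨s, hs, rfl⟩
      rw [(I.core.ker n).2 hn s]
      exact hs
    · intro hw
      exact ⟨w, hw, (I.core.ker n).2 hn w⟩
  rw [h2] at h1
  have h3 : Disjoint (W i) (W (n • i)) := I.ind.pairwiseDisjoint (Ne.symm hcon)
  rw [← h1, disjoint_self] at h3
  exact hW i h3

/-- `7` does not divide `|K : N|` if no element of `Q` has order `7` modulo the kernel on a block. -/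
theorem ImpW.not_dvd_relIndex (hB : Big8Stmt) (I : ImpW (V := V) p q W K N Q φ) (hW : ∀ i, W i ≠ ⊥)
    (h7 : ∀ x ∈ Q, ∀ i, (∀ w ∈ W i, x ^ 7 • w = w) → ∀ w ∈ W i, x • w = w)
    (hn : Nat.card B = 8) (hQ : Q.index = 1344) : ¬ 7 ∣ N.relIndex K := by
  have hK := ImpW.index_K hB I hn hQ
  have hQN : N ≤ Q := ImpW.N_le_Q' I hW
  have h1 : Q.relIndex K = 8 := by
    have h2 := Subgroup.relIndex_mul_index I.QK
    rw [hK, hQ] at h2
    omega
  have h2 : ¬ 7 ∣ N.relIndex Q := by
    intro hd
    haveI : N.Normal := center_normal N I.core.cen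
    haveI : Fact (Nat.Prime 7) := ⟨by norm_num⟩
    obtain ⟨x, hx⟩ := exists_prime_orderOf_dvd_card' (G := Q ⧸ N.subgroupOf Q) 7 hd
    obtain ⟨y, rfl⟩ := QuotientGroup.mk_surjective x
    have h3 : ((y : Q) : Q ⧸ N.subgroupOf Q) ^ 7 = 1 := by
      rw [← hx]; exact pow_orderOf_eq_one _
    rw [← QuotientGroup.mk_pow, QuotientGroup.eq_one_iff, Subgroup.mem_subgroupOf] at h3
    have h4 : (y : H) ∈ N := by
      rw [← I.core.ker]
      intro v
      have hv : v ∈ ⨆ i, W i := by rw [I.top]; trivial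
      refine AddSubgroup.iSup_induction W (C := fun v => (y : H) • v = v) hv ?_ ?_ ?_
      · intro i w hw
        exact h7 y y.2 i (fun w _ => (I.core.ker _).2 h3 w) w hw
      · exact smul_zero _
      · intro a b ha hb
        rw [smul_add, ha, hb]
    have h5 : ((y : Q) : Q ⧸ N.subgroupOf Q) = 1 := (QuotientGroup.eq_one_iff _).2 h4
    rw [h5, orderOf_one] at hx
    omega
  rw [← Subgroup.relIndex_mul_relIndex N Q K hQN I.QK, h1]
  intro h
  rcases (by norm_num : Nat.Prime 7).dvd_mul.1 h with h | h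
  · exact h2 h
  · omega

/-- (P2) at the zero vector. -/
theorem CoreW.rel_zero (C : CoreW (V := V) p q K N φ) : RelP p N.subtype (lf φ) := by
  intro χ hχ hov hd
  rw [charDegree_lf, mul_one] at hd
  have hcen : ∀ n : N, N.subtype n ∈ Subgroup.center H := fun n => C.cen n.2
  rw [over_lin_iff N.subtype hcen hχ] at hov
  have hsur : Function.Surjective (stabilizer H (0 : V)).subtype := by
    intro h
    exact ⟨⟨h, by rw [mem_stabilizer_iff, smul_zero]⟩, rfl⟩
  refine C.P2 0 (χ ∘ (stabilizer H (0 : V)).subtype) (isIrr_comp _ hsur hχ) ?_ ?_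
  · intro n hn hn'
    exact hov ⟨n, hn⟩
  · have h2 : charDegree (χ ∘ (stabilizer H (0 : V)).subtype) = charDegree χ := by
      rw [Blocks.Basic.charDegree_def, Blocks.Basic.charDegree_def, Function.comp, map_one]
    rwa [h2]

/-- (I6): `7` divides `|K : N|` over `AGL_3(2)`. -/
theorem ImpW.seven_false (hB : Big8Stmt) (I : ImpW (V := V) p q W K N Q φ) (hp3 : p = 3)
    (hn : Nat.card B = 8) (hQ : Q.index = 1344) (h7K : ¬ 7 ∣ N.relIndex K) : False := by
  classical
  subst hp3
  have hK := ImpW.index_K hB I hn hQ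
  have C := I.core
  haveI : Fact (Nat.Prime 3) := ⟨by norm_num⟩
  haveI : Fact (Nat.Prime 7) := ⟨by norm_num⟩
  haveI := C.nK
  haveI := C.simp
  haveI : N.Normal := center_normal N C.cen
  have hrel := CoreW.rel_zero C
  obtain ⟨S7⟩ : Nonempty (Sylow 7 H) := inferInstance
  obtain ⟨θ, hθ, hov, hS7⟩ := H676.DL.exists_inv_over (p := 7) N K C.NK (isIrr_lf φ)
    (inertia_central C.cen _) h7K (S7 : Subgroup H) S7.isPGroup'
  have hrelK := relP_up N hrel (isIrr_lf φ) K C.NK hθ hov
  set T := inertia K θ with hT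
  have hKT : K ≤ T := le_inertia (isIrr_isClassFunction hθ)
  have h3T : ¬ 3 ∣ T.index := hrelK.not_dvd_index K hθ
  have h7T : ¬ 7 ∣ T.index := fun h => S7.not_dvd_index (h.trans (Subgroup.index_dvd_of_le hS7))
  have hmul : K.relIndex T * T.index = 168 := by rw [Subgroup.relIndex_mul_index hKT, hK]
  have h21 : 21 ∣ K.relIndex T := by
    have h1 : 3 ∣ K.relIndex T * T.index := by rw [hmul]; norm_num
    have h2 : 7 ∣ K.relIndex T * T.index := by rw [hmul]; norm_num
    have h3 := ((by norm_num : Nat.Prime 3).dvd_mul.1 h1).resolve_right h3T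
    have h4 := ((by norm_num : Nat.Prime 7).dvd_mul.1 h2).resolve_right h7T
    exact Nat.Coprime.mul_dvd_of_dvd_of_dvd (by norm_num) h3 h4
  have hrT := relP_subgroupOf K T hKT (hrelK.inertia K hθ T hT hKT)
  obtain ⟨Δ, X, i1, i2, i3, π, m, Z, l, hπ, hm, hc, hZc, h1, -⟩ :=
    exists_triple' (p := 3) (K.subgroupOf T) (H676.DL.isIrr_sub K T hKT hθ)
      (H676.DL.inertia_sub K hKT (θ := θ) (T := T) le_rfl)
  have hrX := h1 hrT
  -- the map to `H / K`
  let g : Δ →* H ⧸ K := ((QuotientGroup.mk' K).comp T.subtype).comp π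
  have hg : g.ker = Z.comap m := by
    rw [← hc]
    ext x
    rw [MonoidHom.mem_ker, Subgroup.mem_comap, Subgroup.mem_subgroupOf]
    exact QuotientGroup.eq_one_iff _
  have hmg : m.ker ≤ g.ker := by
    rw [hg]
    intro x hx
    rw [Subgroup.mem_comap, MonoidHom.mem_ker.1 hx]
    exact one_mem _
  let τ : X →* H ⧸ K := m.liftOfSurjective hm ⟨g, hmg⟩
  have hτ : ∀ x, τ (m x) = g x := fun x =>
    MonoidHom.liftOfRightInverse_comp_apply m _ (Function.rightInverse_surjInv hm) ⟨g, hmg⟩ x
  have hτk : τ.ker = Z := by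
    ext x
    obtain ⟨y, rfl⟩ := hm x
    rw [MonoidHom.mem_ker, hτ, ← MonoidHom.mem_ker, hg, Subgroup.mem_comap]
  have hcard : Nat.card τ.range = K.relIndex T := by
    rw [← Subgroup.index_ker, hτk, ← Subgroup.index_comap_of_surjective Z hm, ← hc,
      Subgroup.index_comap_of_surjective _ hπ]
    rfl
  have hS : Nat.card (H ⧸ K) = 168 := hK
  refine no_triple (σ := τ.rangeRestrict) τ.rangeRestrict_surjective
    (Z := Z) ((MonoidHom.ker_rangeRestrict τ).trans hτk) hZc l ?_ ?_ ?_ ?_
  · intro χ hχ hov hd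
    have h2 := hrX χ hχ ((Cfsg.Agent.H692.Rel.ov_iff_over hZc l hχ).1 hov)
    rw [charDegree_lf, mul_one] at h2
    exact h2 hd
  · rw [hcard]; exact h21
  · rw [hcard, ← hmul]; exact dvd_mul_right _ _
  · intro y hy
    have h2 : orderOf (y : H ⧸ K) = 3 := by rw [Subgroup.orderOf_coe, hy]
    rw [← Cfsg.Agent.SmallSimple.Simple168.card_centralizer_three hS (y : H ⧸ K) h2]
    refine Nat.card_le_card_of_injective
      (fun x => ⟨((x : τ.range) : H ⧸ K), ?_⟩) ?_
    · rw [Subgroup.mem_centralizer_singleton_iff]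
      have := Subgroup.mem_centralizer_singleton_iff.1 x.2
      exact congrArg Subtype.val this
    · intro a b hab
      have h3 : ((a : τ.range) : H ⧸ K) = (b : τ.range) :=
        congrArg (fun z : Subgroup.centralizer ({(y : H ⧸ K)} : Set (H ⧸ K)) => (z : H ⧸ K)) hab
      exact Subtype.ext (Subtype.ext h3)

end

end Cfsg.Agent.H32.NY.A37
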