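import Mathlib
import Cfsg.Agent.H605.NX.HerDef
import Cfsg.Agent.H32.NY.RData
import Cfsg.Agent.H32.NY.BadAgl

/-!
# S4816, layer (I): the block stabilizer (helper605's file of S4979, copied by helper32)
-/

set_option autoImplicit false
set_option linter.style.haveILetI false
set_option linter.unusedSectionVars false
set_option linter.unusedFintypeInType false
set_option linter.unusedDecidableInType false

open scoped Pointwise

namespace Cfsg.Agent.H32.NY.A605

open MulAction Cfsg.Agent.H32.NX9 Cfsg.Agent.H32.NY.A32 Cfsg.Agent.H32.NY.A37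

universe u v w

variable {p q : ℕ} {H : Type u} {V : Type v} {B : Type w} [Group H] [Finite H] [AddCommGroup V] [Finite V]
  [DistribMulAction H V] [Finite B] [MulAction H B] {W : B → AddSubgroup V} {K N Q : Subgroup H} {φ : N →* ℂˣ}

/-- the action of the stabilizer of a block on the block -/
@[reducible] def blkAct (I : ImpW (V := V) p q W K N Q φ) (i : B) :
    DistribMulAction (stabilizer H i) (W i) where
  smul m w := ⟨(m : H) • (w : V), by
    have h := smul_mem_block I (m : H) w.2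
    have hm : (m : H) • i = i := m.2
    rwa [hm] at h⟩
  one_smul w := Subtype.ext (one_smul _ _)
  mul_smul a b w := Subtype.ext (mul_smul _ _ _)
  smul_zero a := Subtype.ext (smul_zero _)
  smul_add a v w := Subtype.ext (smul_add _ _ _)

theorem W_nontrivial (I : ImpW (V := V) p q W K N Q φ) (i : B) : Nontrivial (W i) := by
  haveI := I.core.nt
  rw [AddSubgroup.nontrivial_iff_ne_bot]
  intro h
  have h1 : ∀ j, W j = ⊥ := by
    intro j
    obtain ⟨g, hg⟩ := trans_blocks I i j
    rw [← hg, ← I.smulW, h]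
    rw [eq_bot_iff]
    rintro _ ⟨w, hw, rfl⟩
    have hw' : w = 0 := hw
    subst hw'
    exact smul_zero g
  have h2 := I.top
  simp only [h1, iSup_bot] at h2
  exact bot_ne_top h2

/-- two-transitivity on the blocks -/
theorem two_trans (I : ImpW (V := V) p q W K N Q φ) {i j i' j' : B} (h : i ≠ j) (h' : i' ≠ j') :
    ∃ g : H, g • i = i' ∧ g • j = j' := by
  obtain ⟨k, hk1, hk2⟩ := three_le I i j
  obtain ⟨k', hk1', hk2'⟩ := three_le I i' j'
  obtain ⟨g, h1, h2, -⟩ := I.t3 i j k i' j' k' h hk1.symm hk2.symm h' hk1'.symm hk2'.symm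
  exact ⟨g, h1, h2⟩

theorem index_stab (I : ImpW (V := V) p q W K N Q φ) (i : B) : (stabilizer H i).index = Nat.card B := by
  rw [index_stabilizer]
  have : orbit H i = Set.univ := by
    ext j
    simp only [Set.mem_univ, iff_true]
    obtain ⟨g, hg⟩ := trans_blocks I i j
    exact ⟨g, hg⟩
  rw [this, Set.ncard_univ]

theorem Q_le_stab (I : ImpW (V := V) p q W K N Q φ) (i : B) : Q ≤ stabilizer H i :=
  fun g hg => (I.memQ g).1 hg i

/-- the affine case: the block stabilizer induces `H / K` -/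
theorem agl_quot (hB : Big8Stmt) (I : ImpW (V := V) p q W K N Q φ) (hn : Nat.card B = 8)
    (hQ : Q.index = 1344) (i : B) [hn' : (Q.subgroupOf (stabilizer H i)).Normal] :
    haveI := I.core.nK
    Nonempty ((stabilizer H i) ⧸ (Q.subgroupOf (stabilizer H i)) ≃* H ⧸ K) := by
  haveI := I.core.nK
  have hK := ImpW.index_K hB I hn hQ
  have hM := index_stab I i
  rw [hn] at hM
  -- `K` moves a block
  obtain ⟨k, hk, b, hb⟩ : ∃ k ∈ K, ∃ b : B, k • b ≠ b := by
    by_contra hcon
    push Not at hcon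
    have h1 : K ≤ Q := fun k hk => (I.memQ k).2 (hcon k hk)
    have h2 : K = Q := le_antisymm h1 I.QK
    rw [h2, hQ] at hK
    omega
  have htrK : ∀ c : B, c ≠ i → ∃ k ∈ K, k • i = c := by
    intro c hc
    obtain ⟨g, h1, h2⟩ := two_trans I hb.symm hc.symm
    refine ⟨g * k * g⁻¹, I.core.nK.conj_mem k hk g, ?_⟩
    rw [mul_smul, mul_smul, ← h1, inv_smul_smul, h2]
  let f : stabilizer H i →* H ⧸ K := (QuotientGroup.mk' K).comp (stabilizer H i).subtype
  have hf : Function.Surjective f := by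
    intro x
    obtain ⟨g, rfl⟩ := QuotientGroup.mk'_surjective K x
    by_cases hg : g⁻¹ • i = i
    · refine ⟨⟨g, ?_⟩, rfl⟩
      rw [mem_stabilizer_iff]
      rw [inv_smul_eq_iff] at hg
      exact hg.symm
    · obtain ⟨k, hk, hki⟩ := htrK _ hg
      refine ⟨⟨g * k, ?_⟩, ?_⟩
      · rw [mem_stabilizer_iff, mul_smul, hki, smul_inv_smul]
      · show QuotientGroup.mk' K (g * k) = QuotientGroup.mk' K g
        have hk1 : QuotientGroup.mk' K k = 1 := (QuotientGroup.eq_one_iff k).2 hk
        rw [map_mul, hk1, mul_one]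
  have hker : f.ker = Q.subgroupOf (stabilizer H i) := by
    have h1 : f.ker = K.subgroupOf (stabilizer H i) := by
      ext m
      rw [MonoidHom.mem_ker, Subgroup.mem_subgroupOf]
      exact QuotientGroup.eq_one_iff _
    have h2 : f.ker.index = 168 := by
      have h3 := Nat.card_congr (QuotientGroup.quotientKerEquivOfSurjective f hf).toEquiv
      have h4 : Nat.card (H ⧸ K) = 168 := hK
      rw [h4] at h3
      exact h3
    have h5 : (Q.subgroupOf (stabilizer H i)).index = 168 := by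
      have h6 := Subgroup.relIndex_mul_index (Q_le_stab I i)
      rw [hM, hQ] at h6
      change Q.relIndex (stabilizer H i) = 168
      omega
    symm
    apply Subgroup.eq_of_le_of_card_ge
    · rw [h1]
      intro x hx
      exact I.QK hx
    · have h7 := Subgroup.card_mul_index f.ker
      have h8 := Subgroup.card_mul_index (Q.subgroupOf (stabilizer H i))
      rw [h2] at h7
      rw [h5] at h8
      omega
  exact ⟨(QuotientGroup.quotientMulEquivOfEq hker.symm).trans
    (QuotientGroup.quotientKerEquivOfSurjective f hf)⟩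

/-- the good alternative at one block -/
def GoodAt (Q : Subgroup H) (U : AddSubgroup V) (r : ℕ) : Prop :=
  ∃ t ∈ Q, (∃ k : ℕ, ∀ w ∈ U, t ^ r ^ k • w = w) ∧ (∃ w ∈ U, t • w ≠ w) ∧
    ∀ x ∈ Q, (∃ k : ℕ, ∀ w ∈ U, x ^ r ^ k • w = w) → ∃ j : ℕ, ∀ w ∈ U, x • w = t ^ j • w

/-- transport of the good alternative to all blocks -/
theorem goodPr_of (I : ImpW (V := V) p q W K N Q φ) {i : B} {r : ℕ} (hr : r.Prime) (hr2 : r ≠ 2) (hrp : r ≠ p)
    (h : GoodAt Q (W i) r) : GoodPr p r W Q := by
  refine ⟨hr, hr2, hrp, fun j => ?_⟩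
  obtain ⟨g, hg⟩ := trans_blocks I i j
  have hQn := Q_normal I
  obtain ⟨t, ht, ⟨k, hk⟩, ⟨w, hw, hwt⟩, hx⟩ := h
  have hback : ∀ u ∈ W j, g⁻¹ • u ∈ W i := by
    intro u hu
    have h1 := smul_mem_block I g⁻¹ hu
    rwa [← hg, inv_smul_smul] at h1
  have hpow : ∀ (x : H) (n : ℕ), (g * x * g⁻¹) ^ n = g * x ^ n * g⁻¹ := fun x n => by
    rw [← MulAut.conj_apply, ← map_pow, MulAut.conj_apply]
  refine ⟨g * t * g⁻¹, hQn.conj_mem t ht g, ⟨k, fun u hu => ?_⟩, ⟨g • w, ?_, ?_⟩, ?_⟩
  · rw [hpow, mul_smul, mul_smul, hk _ (hback u hu), smul_inv_smul]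
  · have h1 := smul_mem_block I g hw
    rwa [hg] at h1
  · rw [mul_smul, mul_smul, inv_smul_smul]
    intro h1
    exact hwt (MulAction.injective g h1)
  · rintro x hxQ ⟨l, hl⟩
    have h1 : ∀ w ∈ W i, (g⁻¹ * x * g) ^ r ^ l • w = w := by
      intro w hw
      have h2 : (g⁻¹ * x * g) ^ r ^ l = g⁻¹ * x ^ r ^ l * g := by
        have := Cfsg.Agent.H32.NY.A37.conj_pow g⁻¹ x (r ^ l)
        rwa [inv_inv] at this
      have h3 := smul_mem_block I g hw
      rw [hg] at h3
      rw [h2, mul_smul, mul_smul, hl _ h3, inv_smul_smul]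
    have hc : g⁻¹ * x * g ∈ Q := by
      have := hQn.conj_mem x hxQ g⁻¹
      rwa [inv_inv] at this
    obtain ⟨j', hj'⟩ := hx _ hc ⟨l, h1⟩
    refine ⟨j', fun u hu => ?_⟩
    have h4 := hj' _ (hback u hu)
    rw [mul_smul, mul_smul, smul_inv_smul, inv_smul_eq_iff] at h4
    rw [h4, hpow, mul_smul, mul_smul]


end Cfsg.Agent.H32.NY.A605
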