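import Mathlib
import Cfsg.Agent.H605.NX.HerC
import Cfsg.Agent.H605.NX.HerX
import Cfsg.Agent.S3695
import Cfsg.Agent.S0242
import Cfsg.Agent.S0245

/-!
# S4816, layer (I), `AGL_3(2)`: Hering's theorem over the field with three elements (helper32)
-/

set_option autoImplicit false
set_option linter.style.haveILetI false
set_option linter.unusedSectionVars false

namespace Cfsg.Agent.H32.NY.Her3

open MulAction Cfsg.Agent.H605.NX

universe v

/-- the order of `SL(a, F)`, `|F| = 3 ^ b` -/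
theorem card_SL (F : Type*) [Field F] [Fintype F] {b : ℕ} (hF : Fintype.card F = 3 ^ b) (hb : b ≠ 0) {a : ℕ} (ha : 2 ≤ a) :
    3 ∣ Nat.card (Matrix.SpecialLinearGroup (Fin a) F) ∧
      ¬ (168 ∣ Nat.card (Matrix.SpecialLinearGroup (Fin a) F) ∧
        ¬ 9 ∣ Nat.card (Matrix.SpecialLinearGroup (Fin a) F)) := by
  obtain ⟨k, rfl⟩ := Nat.exists_eq_add_of_le' ha
  obtain ⟨q, hq⟩ : ∃ q, Fintype.card F = q := ⟨_, rfl⟩
  have hq2 : 2 ≤ q := by rw [← hq]; exact Fintype.one_lt_card
  have h3q : 3 ∣ q := by rw [← hq, hF]; exact dvd_pow_self 3 hb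
  have h1 := Cfsg.Agent.S0242.result hq (k + 2) (by omega)
  rw [Fin.prod_univ_castSucc, Fin.prod_univ_castSucc] at h1
  simp only [Fin.val_last, Fin.val_castSucc] at h1
  have h2 : q ^ (k + 2) - q ^ (k + 1) = q ^ (k + 1) * (q - 1) := by
    rw [Nat.mul_sub, mul_one, ← pow_succ]
  rw [h2, mul_comm (q - 1), ← mul_assoc] at h1
  have h4 := Nat.eq_of_mul_eq_mul_right (by omega) h1
  rw [h4]
  refine ⟨Dvd.dvd.mul_left (h3q.trans (dvd_pow_self q (by omega))) _, ?_⟩
  rintro ⟨h5, h6⟩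
  rcases Nat.eq_zero_or_pos k with rfl | hk
  · -- `a = 2`
    rw [zero_add] at h5 h6
    simp only [Finset.univ_eq_empty, Finset.prod_empty, one_mul, pow_zero] at h5 h6
    have h7 : b = 1 := by
      by_contra hcon
      apply h6
      refine Dvd.dvd.mul_left ?_ _
      rw [← hq, hF]
      have : 3 ^ 2 ∣ 3 ^ b := pow_dvd_pow 3 (by omega)
      simpa using this
    have h8 : q = 3 := by rw [← hq, hF, h7]; rfl
    rw [h8] at h5
    revert h5
    decide
  · apply h6
    refine Dvd.dvd.mul_left ?_ _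
    have h7 : q ^ 2 ∣ q ^ (k + 1) := pow_dvd_pow q (by omega)
    have h8 : 3 ^ 2 ∣ q ^ 2 := pow_dvd_pow_of_dvd h3q 2
    exact (by simpa using h8.trans h7)

/-- the order of `Sp(2m, F)`, `|F| = 3 ^ b` -/
theorem card_Sp (F : Type*) [Field F] [Fintype F] {b : ℕ} (hF : Fintype.card F = 3 ^ b) (hb : b ≠ 0) {m : ℕ} (hm : 1 ≤ m) :
    3 ∣ Nat.card (Matrix.symplecticGroup (Fin m) F) ∧
      ¬ (168 ∣ Nat.card (Matrix.symplecticGroup (Fin m) F) ∧
        ¬ 9 ∣ Nat.card (Matrix.symplecticGroup (Fin m) F)) := by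
  obtain ⟨q, hq⟩ : ∃ q, Fintype.card F = q := ⟨_, rfl⟩
  have h3q : 3 ∣ q := by rw [← hq, hF]; exact dvd_pow_self 3 hb
  have h1 := Cfsg.Agent.S0245.result hq m
  rw [h1]
  refine ⟨Dvd.dvd.mul_right (h3q.trans (dvd_pow_self q (by positivity))) _, ?_⟩
  rintro ⟨h5, h6⟩
  rcases Nat.lt_or_ge m 2 with h | h
  · have hm1 : m = 1 := by omega
    subst hm1
    simp only [one_pow, pow_one, Finset.range_one, Finset.prod_singleton, zero_add, mul_one] at h5 h6
    have h7 : b = 1 := by
      by_contra hcon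
      apply h6
      refine Dvd.dvd.mul_right ?_ _
      rw [← hq, hF]
      have : 3 ^ 2 ∣ 3 ^ b := pow_dvd_pow 3 (by omega)
      simpa using this
    have h8 : q = 3 := by rw [← hq, hF, h7]; rfl
    rw [h8] at h5
    revert h5
    decide
  · apply h6
    refine Dvd.dvd.mul_right ?_ _
    have h7 : q ^ 2 ∣ q ^ (m ^ 2) := pow_dvd_pow q (by nlinarith)
    have h8 : 3 ^ 2 ∣ q ^ 2 := pow_dvd_pow_of_dvd h3q 2
    exact (by simpa using h8.trans h7)

theorem card_SL13 : Nat.card (Matrix.SpecialLinearGroup (Fin 2) (ZMod 13)) = 2184 := by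
  haveI : Fact (Nat.Prime 13) := ⟨by norm_num⟩
  rw [Cfsg.Agent.ClassicalGeometry.PSL2Basic.card_SL2, ZMod.card]
  norm_num

theorem exists_invol {G : Type*} [Group G] (e : G ≃* Matrix.SpecialLinearGroup (Fin 2) (ZMod 13)) :
    ∃ z : G, z ≠ 1 ∧ z ^ 2 = 1 ∧ ∀ g : G, g * z = z * g := by
  refine ⟨e.symm (-1), ?_, ?_, ?_⟩
  · intro h
    have h1 : (-1 : Matrix.SpecialLinearGroup (Fin 2) (ZMod 13)) = 1 := by
      have := congrArg e h
      rwa [e.apply_symm_apply, map_one] at this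
    have h2 := congrArg (fun m : Matrix.SpecialLinearGroup (Fin 2) (ZMod 13) => m.1 0 0) h1
    revert h2
    simp
    decide
  · rw [← map_pow, neg_one_sq, map_one]
  · intro g
    obtain ⟨x, rfl⟩ := e.symm.surjective g
    rw [← map_mul, ← map_mul, mul_neg, neg_mul, mul_one, one_mul]

/-- Hering's list over the field with three elements. -/
theorem list {V : Type v} [AddCommGroup V] [Finite V] [Nontrivial V] (hexp : ∀ v : V, 3 • v = 0)
    (G : Subgroup (Equiv.Perm V)) (hadd : ∀ h ∈ G, ∀ v w : V, h (v + w) = h v + h w)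
    (htr : ∀ v w : V, v ≠ 0 → w ≠ 0 → ∃ h ∈ G, h v = w) :
    (∃ A : Subgroup G, A.Normal ∧ 3 ∣ Nat.card A ∧ ¬ (168 ∣ Nat.card A ∧ ¬ 9 ∣ Nat.card A)) ∨
    (∃ (F : Type) (_ : Field F) (_ : Fintype F) (e : V ≃+ F),
      ∀ h ∈ G, ∃ (c : F) (σ : F ≃+* F), ∀ v : V, e (h v) = c * σ (e v)) ∨
    (Nat.card V = 3 ^ 4 ∧ Nat.card G ∣ 3840) ∨
    (Nat.card G = 2184 ∧ ∃ z : G, z ≠ 1 ∧ z ^ 2 = 1 ∧ ∀ g : G, g * z = z * g) := by
  haveI : Fact (Nat.Prime 3) := ⟨Nat.prime_three⟩
  letI : Module (ZMod 3) V := AddCommGroup.zmodModule hexp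
  obtain ⟨d, hd⟩ : ∃ d, Module.finrank (ZMod 3) V = d := ⟨_, rfl⟩
  have hcard : Nat.card V = 3 ^ d := by
    rw [← hd]
    exact Cfsg.Agent.H50.Her.card_space (p := 3) (V := V)
  have hd1 : 1 ≤ d := by
    by_contra hcon
    have h1 : d = 0 := by omega
    rw [h1, pow_zero] at hcard
    exact absurd hcard (Finite.one_lt_card (α := V)).ne'
  have hlin : ∀ h ∈ G, ∀ (c : ZMod 3) (v : V), h (c • v) = c • h v := by
    intro h hh c v
    have h0 : h 0 = 0 := by
      have h1 := hadd h hh 0 0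
      rw [add_zero] at h1
      exact left_eq_add.1 h1
    let f : V →+ V :=
      { toFun := h
        map_zero' := h0
        map_add' := hadd h hh }
    exact (f.toZModLinearMap 3).map_smul c v
  rcases Cfsg.Agent.S3695.result (K := ZMod 3) (V := V) 3 d (ZMod.card 3) hd hd1 G hadd
    (fun h hh => ⟨RingEquiv.refl _, fun c v => hlin h hh c v⟩)
    (fun v w hv hw => by
      obtain ⟨h, hh, hv⟩ := htr v w hv hw
      exact ⟨h, hh, 1, by rw [one_smul]; exact hv⟩) with
    ⟨a, b, F, _, _, hab, hF, N, hN, h⟩ | ⟨F, i1, i2, e, -, h⟩ | ⟨hn, hq4, h⟩ | ⟨hn, hq4, h⟩ | ⟨hn, hq4, -⟩ |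
    ⟨hn, -, h⟩ | ⟨hn, -, ⟨e⟩⟩
  · have hb : b ≠ 0 := by
      rintro rfl
      rw [mul_zero] at hab
      omega
    rcases h with ⟨ha, ⟨e⟩⟩ | ⟨m, rfl, hm, ⟨e⟩⟩ | ⟨rfl, hq2, -⟩ | ⟨rfl, hF2, -⟩
    · left
      have h1 := card_SL F hF hb ha
      rw [← Nat.card_congr e.toEquiv] at h1
      exact ⟨N, hN, h1.1, h1.2⟩
    · left
      have h1 := card_Sp F hF hb hm
      rw [← Nat.card_congr e.toEquiv] at h1
      exact ⟨N, hN, h1.1, h1.2⟩
    · omega
    · exfalso
      have h3 : 3 ∣ Fintype.card F := by rw [hF]; exact dvd_pow_self 3 hb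
      omega
  · exact Or.inr (Or.inl ⟨F, i1, i2, e, h⟩)
  · omega
  · omega
  · omega
  · rcases h with ⟨N, -, -, h1⟩ | ⟨N, hN, ⟨e⟩⟩
    · right; right; left
      exact ⟨by rw [hcard, hn], h1⟩
    · left
      refine ⟨N, hN, ?_, ?_⟩
      · rw [Nat.card_congr e.toEquiv, card_SL25]; norm_num
      · rw [Nat.card_congr e.toEquiv, card_SL25]; norm_num
  · right; right; right
    refine ⟨?_, exists_invol e⟩
    rw [Nat.card_congr e.toEquiv, card_SL13]

/-- The Hering step for `AGL_3(2)`. -/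
theorem step {M : Type*} {W : Type v} [Group M] [Finite M] [AddCommGroup W] [Finite W] [Nontrivial W]
    [DistribMulAction M W] (hexp : ∀ w : W, 3 • w = 0)
    (htr : ∀ v w : W, v ≠ 0 → w ≠ 0 → ∃ g : M, g • v = w)
    (Q : Subgroup M) [hQ : Q.Normal] [hs : IsSimpleGroup (M ⧸ Q)] (hna : ¬ IsMulCommutative (M ⧸ Q))
    (h168 : Q.index = 168) (h3Q : ¬ 3 ∣ Nat.card Q) :
    (∀ g : M, ∃ h ∈ Q, ∀ w : W, g • w = h • w) ∧
    ((∃ (F : Type) (_ : Field F) (_ : Fintype F) (e : W ≃+ F),
      ∀ g : M, ∃ (c : F) (σ : F ≃+* F), ∀ w : W, e (g • w) = c * σ (e w)) ∨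
    (Nat.card W = 3 ^ 4 ∧ ∀ g : M, (∀ w : W, g ^ 7 • w = w) → ∀ w : W, g • w = w)) := by
  classical
  set ρ := toPermHom M W with hρ
  have hL := list hexp ρ.range (by
      rintro _ ⟨g, rfl⟩ v w
      exact smul_add g v w) (by
      intro v w hv hw
      obtain ⟨g, hg⟩ := htr v w hv hw
      exact ⟨_, ⟨g, rfl⟩, hg⟩)
  have hsame : ∀ g : M, ∃ h ∈ Q, ∀ w : W, g • w = h • w := by
    refine same_of_simple Q ?_
    intro hker
    have hkQ : ρ.ker ≤ Q := by
      intro g hg
      apply hker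
      intro w
      exact congrArg (fun f : Equiv.Perm W => f w) (MonoidHom.mem_ker.1 hg)
    -- the map from the image to `M / Q`
    let f : ρ.range →* M ⧸ Q :=
      ρ.rangeRestrict.liftOfSurjective ρ.rangeRestrict_surjective ⟨QuotientGroup.mk' Q, by
        rw [MonoidHom.ker_rangeRestrict, QuotientGroup.ker_mk']
        exact hkQ⟩
    have hf : ∀ g : M, f (ρ.rangeRestrict g) = QuotientGroup.mk' Q g := fun g =>
      MonoidHom.liftOfRightInverse_comp_apply ρ.rangeRestrict _
        (Function.rightInverse_surjInv ρ.rangeRestrict_surjective) ⟨QuotientGroup.mk' Q, _⟩ g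
    have hfs : Function.Surjective f := by
      intro x
      obtain ⟨g, rfl⟩ := QuotientGroup.mk'_surjective Q x
      exact ⟨_, hf g⟩
    have hfk : Nat.card f.ker ∣ Nat.card Q := by
      have h1 : f.ker = Q.map ρ.rangeRestrict := by
        ext x
        obtain ⟨g, rfl⟩ := ρ.rangeRestrict_surjective x
        rw [MonoidHom.mem_ker, hf]
        constructor
        · intro h
          exact ⟨g, (QuotientGroup.eq_one_iff g).1 h, rfl⟩
        · rintro ⟨g', hg', h⟩
          rw [← hf, ← h, hf]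
          exact (QuotientGroup.eq_one_iff g').2 hg'
      rw [h1]
      exact Subgroup.card_map_dvd Q ρ.rangeRestrict
    have h3k : ¬ 3 ∣ Nat.card f.ker := fun h => h3Q (h.trans hfk)
    -- normal subgroups
    have hnorm : ∀ A : Subgroup ρ.range, A.Normal → 3 ∣ Nat.card A →
        Nat.card A = 168 * Nat.card (A ⊓ f.ker : Subgroup ρ.range) := by
      intro A hA h3
      have h1 : (A.map f).Normal := hA.map f hfs
      rcases h1.eq_bot_or_eq_top with h2 | h2
      · exfalso
        rw [Subgroup.map_eq_bot_iff] at h2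
        exact h3k (h3.trans (Subgroup.card_dvd_of_le h2))
      · have h4 := Subgroup.card_mul_index ((f.ker).subgroupOf A)
        have h5 : Nat.card ((f.ker).subgroupOf A) = Nat.card (A ⊓ f.ker : Subgroup ρ.range) := by
          rw [← Subgroup.inf_subgroupOf_right f.ker A, inf_comm A f.ker]
          exact Nat.card_congr (Subgroup.subgroupOfEquivOfLe (inf_le_right : f.ker ⊓ A ≤ A)).toEquiv
        have h6 : ((f.ker).subgroupOf A).index = 168 := by
          rw [← h168]
          have h7 : (f.ker).subgroupOf A = (f.comp A.subtype).ker := by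
            ext x
            rfl
          rw [h7, Subgroup.index_ker]
          have h8 : (f.comp A.subtype).range = ⊤ := by
            rw [MonoidHom.range_comp, Subgroup.range_subtype, h2]
          rw [h8, Subgroup.card_top]
          rfl
        rw [h5, h6] at h4
        rw [← h4, mul_comm]
    rcases hL with ⟨A, hA, h3, h4⟩ | ⟨F, i1, i2, e, h⟩ | ⟨-, h⟩ | ⟨h, z, hz1, hz2, hz⟩
    · apply h4
      have h5 := hnorm A hA h3
      refine ⟨⟨_, h5⟩, fun h9 => ?_⟩
      rw [h5] at h9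
      have h6 : 3 ∣ 56 * Nat.card (A ⊓ f.ker : Subgroup ρ.range) := by omega
      rcases Nat.prime_three.dvd_mul.1 h6 with h7 | h7
      · omega
      · exact h3k (h7.trans (Subgroup.card_dvd_of_le inf_le_right))
    · exact metab e (M := M) (fun g => h _ ⟨g, rfl⟩) Q hna hker
    · have h5 : 168 ∣ Nat.card ρ.range := by
        rw [← h168]
        have h6 := Subgroup.card_range_dvd f
        rw [MonoidHom.range_eq_top.2 hfs, Subgroup.card_top] at h6
        exact h6
      have h6 := h5.trans h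
      omega
    · have h5 := hnorm ⊤ inferInstance (by rw [Subgroup.card_top, h]; norm_num)
      rw [Subgroup.card_top, h, top_inf_eq] at h5
      -- `z ∈ ker f`
      have h6 : f z ∈ Subgroup.center (M ⧸ Q) := by
        rw [Subgroup.mem_center_iff]
        intro g
        obtain ⟨x, rfl⟩ := hfs g
        rw [← map_mul, ← map_mul, hz]
      have h7 : Subgroup.center (M ⧸ Q) = ⊥ := by
        have h8 : (Subgroup.center (M ⧸ Q)).Normal := inferInstance
        rcases h8.eq_bot_or_eq_top with h9 | h9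
        · exact h9
        · exfalso
          apply hna
          refine ⟨⟨fun a b => ?_⟩⟩
          have : b ∈ Subgroup.center (M ⧸ Q) := by rw [h9]; trivial
          exact Subgroup.mem_center_iff.1 this a
      rw [h7, Subgroup.mem_bot] at h6
      have h8 : orderOf (⟨z, h6⟩ : f.ker) = 2 := by
        apply orderOf_eq_prime
        · exact Subtype.ext hz2
        · intro h
          exact hz1 (congrArg Subtype.val h)
      have h9 : 2 ∣ Nat.card f.ker := by
        rw [← h8]; exact orderOf_dvd_natCard _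
      omega
  refine ⟨hsame, ?_⟩
  -- the image is a `3'`-group
  have h3G : ¬ 3 ∣ Nat.card ρ.range := by
    have h1 : Q.map ρ = ρ.range := by
      apply le_antisymm (Subgroup.map_le_range ρ Q)
      rintro _ ⟨g, rfl⟩
      obtain ⟨h, hh, hw⟩ := hsame g
      refine ⟨h, hh, ?_⟩
      ext w
      exact (hw w).symm
    intro h
    rw [← h1] at h
    exact h3Q (h.trans (Subgroup.card_map_dvd Q ρ))
  rcases hL with ⟨A, hA, h3, h4⟩ | ⟨F, i1, i2, e, h⟩ | ⟨h1, h⟩ | ⟨h, -⟩
  · exact absurd (h3.trans (Subgroup.card_subgroup_dvd_card A)) h3G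
  · exact Or.inl ⟨F, i1, i2, e, fun g => h _ ⟨g, rfl⟩⟩
  · right
    refine ⟨h1, fun g hg => ?_⟩
    have h2 : (ρ.rangeRestrict g) ^ 7 = 1 := by
      rw [← map_pow]
      apply Subtype.ext
      ext w
      exact hg w
    have h3 : orderOf (ρ.rangeRestrict g) ∣ 7 := orderOf_dvd_of_pow_eq_one h2
    have h4 : orderOf (ρ.rangeRestrict g) ∣ 3840 := (orderOf_dvd_natCard _).trans h
    have h5 : orderOf (ρ.rangeRestrict g) = 1 := Nat.eq_one_of_dvd_coprimes (a := 7) (b := 3840) (by norm_num) h3 h4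
    have h6 := orderOf_eq_one_iff.1 h5
    intro w
    exact congrArg (fun f : ρ.range => (f : Equiv.Perm W) w) h6
  · exfalso
    apply h3G
    rw [h]; norm_num

end Cfsg.Agent.H32.NY.Her3
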