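import Mathlib
import Cfsg.Agent.H32.NY.Blk3
import Cfsg.Agent.H32.NY.Her3
import Cfsg.Agent.H32.NY.AglC
import Cfsg.Agent.H32.NY.NoInv
import Cfsg.Agent.H386.S3513B8

/-!
# S4816, layer (I): `AGL_3(2)` is impossible (helper32)
-/

set_option autoImplicit false
set_option linter.style.haveILetI false
set_option linter.unusedSectionVars false

open scoped Pointwise

namespace Cfsg.Agent.H32.NY.AglEnd

open MulAction Cfsg.Agent.H32.NX9 Cfsg.Agent.H32.NY.A32 Cfsg.Agent.H32.NY.A37 Cfsg.Agent.H32.NY.A605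
open Cfsg.Agent.H605.NX (Good sfHom lamHom lamHom_eq_one mem_ker_of_trivial good_of)

universe u v w

/-- `7` does not divide `3 ^ 2 ^ k - 1` -/
theorem seven_pow (k : ℕ) : ¬ 7 ∣ 3 ^ 2 ^ k - 1 := by
  have h1 : 3 ^ 2 ^ k % 7 = 3 ∨ 3 ^ 2 ^ k % 7 = 2 ∨ 3 ^ 2 ^ k % 7 = 4 := by
    induction k with
    | zero => left; norm_num
    | succ k ih =>
      have h2 : 3 ^ 2 ^ (k + 1) % 7 = ((3 ^ 2 ^ k % 7) * (3 ^ 2 ^ k % 7)) % 7 := by
        rw [pow_succ, pow_mul, pow_two, Nat.mul_mod]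
      rw [h2]
      rcases ih with h | h | h <;> rw [h] <;> norm_num
  have h3 : 1 ≤ 3 ^ 2 ^ k := Nat.one_le_pow _ _ (by norm_num)
  omega

section semi
variable {M W : Type*} [Group M] [Finite M] [AddCommGroup W] [Finite W] [DistribMulAction M W]
  {F : Type*} [Field F] [Finite F] (e : W ≃+ F)
  (hsem : ∀ g : M, ∃ (c : F) (σ : F ≃+* F), ∀ w : W, e (g • w) = c * σ (e w))

include hsem in
/-- no elements of order `7` in `ΓL(1, 3 ^ 2 ^ k)` -/
theorem no_seven {k : ℕ} (hF : Nat.card F = 3 ^ 2 ^ k) (x : M) (hx : ∀ w : W, x ^ 7 • w = w) (w : W) :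
    x • w = w := by
  classical
  haveI : Fact (Nat.Prime 3) := ⟨Nat.prime_three⟩
  haveI := Fintype.ofFinite F
  have hA : Nat.card (F ≃+* F) = 2 ^ k :=
    Cfsg.Agent.Lib.FieldAutCard.card_ringAut (p := 3) (Nat.one_le_two_pow) (by
      rw [← Nat.card_eq_fintype_card, hF])
  have h1 : x ^ 2 ^ k ∈ (sfHom e hsem).ker := by
    rw [MonoidHom.mem_ker, map_pow, ← hA]
    exact pow_card_eq_one'
  have h2 : (lamHom e hsem ⟨x ^ 2 ^ k, h1⟩) ^ 7 = 1 := by
    rw [← map_pow, lamHom_eq_one]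
    intro w
    change (x ^ 2 ^ k) ^ 7 • w = w
    rw [← pow_mul, mul_comm, pow_mul]
    have h3 : ∀ j : ℕ, (x ^ 7) ^ j • w = w := by
      intro j
      induction j with
      | zero => rw [pow_zero, one_smul]
      | succ j ih => rw [pow_succ, mul_smul, hx, ih]
    exact h3 _
  have h3 : orderOf (lamHom e hsem ⟨x ^ 2 ^ k, h1⟩) ∣ 7 := orderOf_dvd_of_pow_eq_one h2
  have h4 : orderOf (lamHom e hsem ⟨x ^ 2 ^ k, h1⟩) ∣ 3 ^ 2 ^ k - 1 := by
    have h5 := orderOf_dvd_natCard (lamHom e hsem ⟨x ^ 2 ^ k, h1⟩)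
    rwa [Nat.card_units, hF] at h5
  have h5 : orderOf (lamHom e hsem ⟨x ^ 2 ^ k, h1⟩) = 1 := by
    rcases (Nat.dvd_prime (by norm_num : Nat.Prime 7)).1 h3 with h | h
    · exact h
    · rw [h] at h4
      exact absurd h4 (seven_pow k)
  have h6 : ∀ w : W, x ^ 2 ^ k • w = w := (lamHom_eq_one e hsem _).1 (orderOf_eq_one_iff.1 h5)
  -- `gcd (2 ^ k, 7) = 1`
  have h7 : (toPermHom M W x) ^ 7 = 1 := by
    rw [← map_pow]; ext w; exact hx w
  have h8 : (toPermHom M W x) ^ 2 ^ k = 1 := by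
    rw [← map_pow]; ext w; exact h6 w
  have h9 : toPermHom M W x = 1 := by
    rw [← orderOf_eq_one_iff]
    refine Nat.eq_one_of_dvd_coprimes (a := 7) (b := 2 ^ k) ?_ (orderOf_dvd_of_pow_eq_one h7)
      (orderOf_dvd_of_pow_eq_one h8)
    exact Nat.Coprime.pow_right k (by norm_num)
  exact congrArg (fun f : Equiv.Perm W => f w) h9

end semi

/-- numbers: a power of two, or a good prime with odd exponent -/
theorem exists_good {d : ℕ} (hd : 1 ≤ d) : (∃ k, d = 2 ^ k) ∨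
    ∃ r m : ℕ, r.Prime ∧ r ≠ 2 ∧ r ≠ 3 ∧ Odd m ∧ r ∣ 3 ^ m - 1 ∧ r ∣ 3 ^ d - 1 ∧ ¬ r ∣ d := by
  obtain ⟨k, m, hm, hdm⟩ := Nat.exists_eq_two_pow_mul_odd (n := d) (by omega)
  by_cases h1 : m = 1
  · left
    exact ⟨k, by rw [hdm, h1, mul_one]⟩
  right
  have hm3 : 3 ≤ m := by
    obtain ⟨c, hc⟩ := hm
    omega
  obtain ⟨r, hr, h2, h3, h4⟩ := Cfsg.Agent.Lib.Zsigmondy.exists_primitive (a := 3) (n := m) (by norm_num) (by omega)
    (by omega) (by omega)
  have hr2 : r ≠ 2 := by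
    rintro rfl
    have h5 := (h2 1).1 (by norm_num)
    have := Nat.le_of_dvd (by norm_num) h5
    omega
  have hr1 := hr.two_le
  have h5 : m ≤ r - 1 := Nat.le_of_dvd (by omega) h3
  refine ⟨r, m, hr, hr2, ?_, hm, (h2 m).2 dvd_rfl, (h2 d).2 ⟨2 ^ k, by rw [hdm, mul_comm]⟩, ?_⟩
  · rintro rfl
    exact h4 dvd_rfl
  · intro h
    rw [hdm] at h
    rcases hr.dvd_mul.1 h with h6 | h6
    · exact hr2 ((Nat.prime_dvd_prime_iff_eq hr Nat.prime_two).1 (hr.dvd_of_dvd_pow h6))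
    · have := Nat.le_of_dvd (by omega) h6
      omega

variable {p q : ℕ} {H : Type u} {V : Type v} {B : Type w} [Group H] [Finite H] [AddCommGroup V] [Finite V]
  [DistribMulAction H V] [Finite B] [MulAction H B] {W : B → AddSubgroup V} {K N Q : Subgroup H} {φ : N →* ℂˣ}

/-- The alternatives at one block. -/
theorem blk_step3 (hB : Big8Stmt) (I : ImpW (V := V) 3 3 W K N Q φ) (hn : Nat.card B = 8)
    (hQ : Q.index = 1344) (i : B) :
    (∀ x ∈ Q, (∀ w ∈ W i, x ^ 7 • w = w) → ∀ w ∈ W i, x • w = w) ∨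
      (∃ r m : ℕ, r.Prime ∧ r ≠ 2 ∧ r ≠ 3 ∧ Odd m ∧ r ∣ 3 ^ m - 1 ∧ GoodAt Q (W i) r) := by
  classical
  haveI := Q_normal I
  haveI := W_nontrivial I i
  letI := blkAct I i
  haveI := I.core.nK
  haveI := I.core.simp
  obtain ⟨eq⟩ := agl_quot hB I hn hQ i
  haveI hsim : IsSimpleGroup ((stabilizer H i) ⧸ (Q.subgroupOf (stabilizer H i))) := eq.isSimpleGroup
  have hna : ¬ IsMulCommutative ((stabilizer H i) ⧸ (Q.subgroupOf (stabilizer H i))) := by
    intro hcomm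
    apply I.core.na
    refine ⟨⟨fun a b => ?_⟩⟩
    apply eq.symm.injective
    rw [map_mul, map_mul]
    exact hcomm.is_comm.comm _ _
  have h168 : (Q.subgroupOf (stabilizer H i)).index = 168 := by
    have hM := index_stab I i
    rw [hn] at hM
    have h6 := Subgroup.relIndex_mul_index (Q_le_stab I i)
    rw [hM, hQ] at h6
    change Q.relIndex (stabilizer H i) = 168
    omega
  have h3Q : ¬ 3 ∣ Nat.card (Q.subgroupOf (stabilizer H i)) := by
    intro h
    apply I.core.pK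
    have h1 : Nat.card (Q.subgroupOf (stabilizer H i)) = Nat.card Q :=
      Nat.card_congr (Subgroup.subgroupOfEquivOfLe (Q_le_stab I i)).toEquiv
    rw [h1] at h
    exact h.trans (Subgroup.card_dvd_of_le I.QK)
  have htr : ∀ v w : W i, v ≠ 0 → w ≠ 0 → ∃ g : stabilizer H i, g • v = w := by
    intro v w hv hw
    obtain ⟨m, hm, hmv⟩ := I.trans i v v.2 w w.2 (fun h => hv (Subtype.ext h)) (fun h => hw (Subtype.ext h))
    exact ⟨⟨m, hm⟩, Subtype.ext hmv⟩
  obtain ⟨hsame, hcase⟩ := Her3.step (M := stabilizer H i) (W := W i)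
    (fun w => Subtype.ext (I.core.exp (w : V))) htr (Q.subgroupOf (stabilizer H i)) hna h168 h3Q
  have htrQ : ∀ v w : W i, v ≠ 0 → w ≠ 0 → ∃ g ∈ Q.subgroupOf (stabilizer H i), g • v = w := by
    intro v w hv hw
    obtain ⟨g, hg⟩ := htr v w hv hw
    obtain ⟨h, hh, hgh⟩ := hsame g
    exact ⟨h, hh, by rw [← hgh, hg]⟩
  have hback : (∀ g : stabilizer H i, (∀ w : W i, g ^ 7 • w = w) → ∀ w : W i, g • w = w) →
      ∀ x ∈ Q, (∀ w ∈ W i, x ^ 7 • w = w) → ∀ w ∈ W i, x • w = w := by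
    intro h x hx h7 w hw
    exact congrArg Subtype.val (h ⟨x, Q_le_stab I i hx⟩ (fun w => Subtype.ext (h7 w w.2)) ⟨w, hw⟩)
  rcases hcase with ⟨F, _, _, e, hsem⟩ | ⟨-, h7⟩
  swap
  · exact Or.inl (hback h7)
  -- the semilinear case
  haveI : Fact (Nat.Prime 3) := ⟨Nat.prime_three⟩
  obtain ⟨d, hd⟩ : ∃ d, Nat.card (W i) = 3 ^ d := by
    letI : Module (ZMod 3) (W i) := AddCommGroup.zmodModule fun w : W i => Subtype.ext (I.core.exp (w : V))
    exact ⟨_, Cfsg.Agent.H50.Her.card_space (p := 3) (V := W i)⟩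
  have hFc : Nat.card F = 3 ^ d := by rw [← hd, Nat.card_congr e.toEquiv]
  have hd1 : 1 ≤ d := by
    by_contra hcon
    have h0 : d = 0 := by omega
    rw [h0, pow_zero] at hFc
    exact (Finite.one_lt_card (α := F)).ne' hFc
  rcases exists_good hd1 with ⟨k, hk⟩ | ⟨r, m, hr, hr2, hr3, hm, hrm, hrd, hrnd⟩
  · left
    apply hback
    intro g hg w
    exact no_seven e hsem (k := k) (by rw [hFc, hk]) g hg w
  · right
    have hidx : ¬ r ∣ (sfHom e hsem).ker.index := by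
      intro h
      apply hrnd
      rw [Subgroup.index_ker] at h
      have h1 := h.trans (Subgroup.card_subgroup_dvd_card (sfHom e hsem).range)
      rwa [Cfsg.Agent.Lib.FieldAutCard.card_ringAut (p := 3) hd1 (by rw [← Nat.card_eq_fintype_card, hFc])] at h1
    obtain ⟨a, C, c, G⟩ := good_of hr hr2 (Q.subgroupOf (stabilizer H i)) (sfHom e hsem).ker (lamHom e hsem)
      (fun b => lamHom_eq_one e hsem b)
      (fun g hg => mem_ker_of_trivial e hsem hg) hidx htrQ (by rw [hd]; exact hrd)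
    refine ⟨r, m, hr, hr2, hr3, hm, hrm, ?_⟩
    have hcQ : (c : H) ∈ Q := G.CQ G.cC
    refine ⟨(c : H), hcQ, ?_, ?_, ?_⟩
    · refine ⟨a, fun w hw => ?_⟩
      exact congrArg Subtype.val ((G.ord (r ^ a)).2 dvd_rfl ⟨w, hw⟩)
    · by_contra hcon
      push Not at hcon
      have h7 := (G.ord 1).1 (fun w => Subtype.ext (by
        rw [pow_one]
        exact hcon w w.2))
      have h8 := Nat.dvd_one.1 h7
      have h9 := G.pr.one_lt
      have h10 : 1 < r ^ a := Nat.one_lt_pow (by have := G.a1; omega) h9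
      omega
    · rintro x hx ⟨k, hk⟩
      have hxM : x ∈ stabilizer H i := Q_le_stab I i hx
      have h7 : (⟨x, hxM⟩ : stabilizer H i) ∈ C :=
        G.mem ⟨x, hxM⟩ hx ⟨k, fun w => Subtype.ext (hk w w.2)⟩
      obtain ⟨j, hj⟩ := G.gen _ h7
      exact ⟨j, fun w hw => congrArg Subtype.val (hj ⟨w, hw⟩)⟩

theorem big8Stmt : Big8Stmt := by
  intro G hG hc
  obtain ⟨V, h1, h2, -⟩ := Cfsg.Agent.H386.S3513B8.big8 G hG hc
  exact ⟨V, h1, h2⟩

/-- **`AGL_3(2)` is impossible for `q = p = 3`.** -/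
theorem agl_false_of {H V : Type u} {B : Type v} [Group H] [Finite H] [AddCommGroup V] [Finite V]
    [DistribMulAction H V] [Finite B] [MulAction H B] {W : B → AddSubgroup V} {K N Q : Subgroup H} {φ : N →* ℂˣ}
    (hB : Big8Stmt) (I : ImpW (V := V) 3 3 W K N Q φ) (hn : Nat.card B = 8) (hQ : Q.index = 1344) : False := by
  classical
  by_cases hgood : ∃ i, ∃ r m : ℕ, r.Prime ∧ r ≠ 2 ∧ r ≠ 3 ∧ Odd m ∧ r ∣ 3 ^ m - 1 ∧ GoodAt Q (W i) r
  · obtain ⟨i, r, m, hr, hr2, hr3, hm, hrm, h⟩ := hgood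
    exact good_false_agl I (goodPr_of I hr hr2 hr3 h) hn hQ
      (fun a P t R => ImpW.noinv I rfl hm hrm R)
  · have h7 : ∀ x ∈ Q, ∀ i, (∀ w ∈ W i, x ^ 7 • w = w) → ∀ w ∈ W i, x • w = w := by
      intro x hx i
      rcases blk_step3 hB I hn hQ i with h | h
      · exact h x hx
      · exact absurd ⟨i, h⟩ hgood
    exact ImpW.seven_false hB I rfl hn hQ
      (ImpW.not_dvd_relIndex hB I (fun i h => (AddSubgroup.nontrivial_iff_ne_bot _).1 (W_nontrivial I i) h) h7 hn hQ)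

/-- **`AGL_3(2)` is impossible for `q = p = 3`.** -/
theorem agl_false {H V : Type u} {B : Type v} [Group H] [Finite H] [AddCommGroup V] [Finite V]
    [DistribMulAction H V] [Finite B] [MulAction H B] {W : B → AddSubgroup V} {K N Q : Subgroup H} {φ : N →* ℂˣ}
    (I : ImpW (V := V) 3 3 W K N Q φ) (hn : Nat.card B = 8) (hQ : Q.index = 1344) : False :=
  agl_false_of big8Stmt I hn hQ

end Cfsg.Agent.H32.NY.AglEnd
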