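import Mathlib
import Cfsg.Agent.H239.NX.PM
import Cfsg.Agent.H32.NY.Defs

/-!
# S4979, layer (I): the averaging patterns and the homomorphisms into abelian `r`-groups (helper239)
-/

set_option autoImplicit false
set_option linter.unusedSectionVars false

open scoped commutatorElement

namespace Cfsg.Agent.H32.NY.A239

open Cfsg.Agent.H239.NX Cfsg.Agent.H32.NX9 Cfsg.Agent.H32.NY.A32

section
variable {H B : Type*} [Group H] [MulAction H B] {m : ℕ} {N R : Subgroup H} {x : H → B → ZMod m}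

/-- the pattern `(i j)(k l)`, `(i j)(u v)`: factor `2` -/
theorem pat_two (P : PM m N R x) (hN : N ≤ Subgroup.center H)
    (hp : ∀ i j : B, i ≠ j → ∃ k l u v : B, k ≠ l ∧ k ≠ i ∧ k ≠ j ∧ l ≠ i ∧ l ≠ j ∧ u ≠ i ∧ u ≠ j ∧ u ≠ k ∧
      u ≠ l ∧ v ≠ i ∧ v ≠ j ∧ v ≠ k ∧ v ≠ l ∧ (∃ h : H, Sw h i j k l) ∧ ∃ h : H, Sw h i j u v) :
    Pat 2 R x := by
  constructor
  · intro ρ hρ i j hij
    obtain ⟨k, l, u, v, hkl, hki, hkj, hli, hlj, hui, huj, huk, hul, hvi, hvj, hvk, hvl, ⟨h, S⟩, ⟨h', S'⟩⟩ :=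
      hp i j hij
    obtain ⟨y1, y2, y3, y4, y5⟩ := P.exists_y S hρ
    have hyR : ρ * (h * ρ * h⁻¹)⁻¹ ∈ R := mul_mem hρ (inv_mem (P.cmem h hρ))
    obtain ⟨w1, w2, -, -, -⟩ := P.exists_y S' hyR
    have w0 : ∀ b, x (ρ * (h * ρ * h⁻¹)⁻¹ * (h' * (ρ * (h * ρ * h⁻¹)⁻¹) * h'⁻¹)⁻¹) b =
        x (ρ * (h * ρ * h⁻¹)⁻¹) b - x (ρ * (h * ρ * h⁻¹)⁻¹) (h'⁻¹ • b) := by
      intro b
      rw [P.mul _ hyR _ (inv_mem (P.cmem h' hyR)), P.inv (P.cmem h' hyR), P.conj' h' hyR, sub_eq_add_neg]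
    obtain ⟨s1, s2, s3, s4, s5⟩ := S'.inv
    set y := ρ * (h * ρ * h⁻¹)⁻¹ with hy
    refine ⟨y * (h' * y * h'⁻¹)⁻¹, mul_mem hyR (inv_mem (P.cmem h' hyR)), ?_, ?_, fun b b1 b2 => ?_⟩
    · rw [w1, y1, y2]; push_cast; ring
    · rw [w2, y1, y2]; push_cast; ring
    · rw [w0]
      by_cases b3 : b = u
      · rw [b3, s3, y5 u hui huj huk hul, y5 v hvi hvj hvk hvl, sub_self]
      · by_cases b4 : b = v
        · rw [b4, s4, y5 u hui huj huk hul, y5 v hvi hvj hvk hvl, sub_self]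
        · rw [s5 b b1 b2 b3 b4, sub_self]
  · intro i j hij
    obtain ⟨k, l, u, v, hkl, hki, hkj, hli, hlj, hui, huj, huk, hul, hvi, hvj, hvk, hvl, ⟨h, S⟩, ⟨h', S'⟩⟩ :=
      hp i j hij
    refine ⟨k, l, hkl, hki, hkj, hli, hlj, ⟨h, S⟩, fun z hz z' hz' s t hs ht => ?_⟩
    have hc : ∀ a ∈ R, ∀ b ∈ R, ⁅a, b⁆ ∈ Subgroup.center H := fun a ha b hb => hN (P.br_mem ha hb)
    have e1 := P.isZ_conj hz hs h'
    rw [S'.1, S'.2.1] at e1
    have e2 := P.isZ_conj hz' ht h'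
    rw [S'.2.2.2.2 k hki hkj huk.symm hvk.symm, S'.2.2.2.2 l hli hlj hul.symm hvl.symm] at e2
    have e3 : ⁅z, z'⁆ = ⁅z⁻¹, z'⁆ := by
      rw [← br_conj (hc z hz z' hz') h',
        P.br_congr_left hN (P.cmem h' hz) (inv_mem hz) (PM.isZ_eq e1 (P.isZ_inv hz hs)),
        P.br_congr_right hN (P.cmem h' hz') hz' (PM.isZ_eq e2 ht)]
    rw [br_inv_left (hc z hz z' hz')] at e3
    rw [pow_two]
    nth_rewrite 1 [e3]
    exact inv_mul_cancel _

/-- the pattern `(i j)(k l)`, `(k l u)`: factor `3` -/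
theorem pat_three (P : PM m N R x) (hN : N ≤ Subgroup.center H)
    (hp : ∀ i j : B, i ≠ j → ∃ k l u : B, k ≠ l ∧ k ≠ i ∧ k ≠ j ∧ l ≠ i ∧ l ≠ j ∧ u ≠ i ∧ u ≠ j ∧ u ≠ k ∧
      u ≠ l ∧ (∃ h : H, Sw h i j k l) ∧
      ∃ g : H, g • k = l ∧ g • l = u ∧ g • u = k ∧ ∀ b, b ≠ k → b ≠ l → b ≠ u → g • b = b) :
    Pat 3 R x := by
  constructor
  · intro ρ hρ i j hij
    obtain ⟨k, l, u, hkl, hki, hkj, hli, hlj, hui, huj, huk, hul, ⟨h, S⟩, ⟨g, g1, g2, g3, g4⟩⟩ := hp i j hij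
    obtain ⟨y1, y2, y3, y4, y5⟩ := P.exists_y S hρ
    have hyR : ρ * (h * ρ * h⁻¹)⁻¹ ∈ R := mul_mem hρ (inv_mem (P.cmem h hρ))
    set y := ρ * (h * ρ * h⁻¹)⁻¹ with hy
    have hyg := P.cmem g hyR
    have hygg := P.cmem g hyg
    have w0 : ∀ b, x (y * (g * y * g⁻¹) * (g * (g * y * g⁻¹) * g⁻¹)) b =
        x y b + x y (g⁻¹ • b) + x y (g⁻¹ • g⁻¹ • b) := by
      intro b
      rw [P.mul _ (mul_mem hyR hyg) _ hygg, P.mul _ hyR _ hyg, P.conj' g hyg, P.conj' g hyR, P.conj' g hyR]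
    have i1 : g⁻¹ • l = k := by rw [inv_smul_eq_iff, g1]
    have i2 : g⁻¹ • u = l := by rw [inv_smul_eq_iff, g2]
    have i3 : g⁻¹ • k = u := by rw [inv_smul_eq_iff, g3]
    have i4 : ∀ b, b ≠ k → b ≠ l → b ≠ u → g⁻¹ • b = b := fun b b1 b2 b3 => by
      rw [inv_smul_eq_iff, g4 b b1 b2 b3]
    have yu : x y u = 0 := y5 u hui huj huk hul
    refine ⟨_, mul_mem (mul_mem hyR hyg) hygg, ?_, ?_, fun b b1 b2 => ?_⟩
    · rw [w0, i4 i hki.symm hli.symm hui.symm, i4 i hki.symm hli.symm hui.symm, y1]; push_cast; ring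
    · rw [w0, i4 j hkj.symm hlj.symm huj.symm, i4 j hkj.symm hlj.symm huj.symm, y2]; push_cast; ring
    · rw [w0]
      by_cases b3 : b = k
      · rw [b3, i3, i2, y3, y4, yu]; ring
      · by_cases b4 : b = l
        · rw [b4, i1, i3, y3, y4, yu]; ring
        · by_cases b5 : b = u
          · rw [b5, i2, i1, y3, y4, yu]; ring
          · rw [i4 b b3 b4 b5, i4 b b3 b4 b5, y5 b b1 b2 b3 b4]; ring
  · intro i j hij
    obtain ⟨k, l, u, hkl, hki, hkj, hli, hlj, hui, huj, huk, hul, ⟨h, S⟩, ⟨g, g1, g2, g3, g4⟩⟩ := hp i j hij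
    refine ⟨k, l, hkl, hki, hkj, hli, hlj, ⟨h, S⟩, fun z hz z' hz' s t hs ht => ?_⟩
    have hc : ∀ a ∈ R, ∀ b ∈ R, ⁅a, b⁆ ∈ Subgroup.center H := fun a ha b hb => hN (P.br_mem ha hb)
    have e0 := P.isZ_conj hz hs g
    rw [g4 i hki.symm hli.symm hui.symm, g4 j hkj.symm hlj.symm huj.symm] at e0
    have hzg := P.cmem g hz'
    have hzgg := P.cmem g hzg
    have c1 := P.isZ_conj hz' ht g
    rw [g1, g2] at c1
    have c2 := P.isZ_conj hzg c1 g
    rw [g2, g3] at c2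
    have e1 : ∀ w ∈ R, ⁅z, g * w * g⁻¹⁆ = ⁅z, w⁆ := by
      intro w hw
      rw [← br_conj (hc z hz w hw) g]
      exact P.br_congr_left hN hz (P.cmem g hz) (PM.isZ_eq hs e0)
    have e2 : ⁅z, z' * (g * z' * g⁻¹) * (g * (g * z' * g⁻¹) * g⁻¹)⁆ = ⁅z, z'⁆ ^ 3 := by
      rw [br_mul_right (hc z hz _ hzgg), br_mul_right (hc z hz _ hzg), e1 _ hzg, e1 _ hz', pow_succ, pow_two]
    rw [← e2, P.br_congr_right hN (mul_mem (mul_mem hz' hzg) hzgg) (one_mem R) (c := z), br_one_right]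
    intro b
    rw [P.mul _ (mul_mem hz' hzg) _ hzgg, P.mul _ hz' _ hzg, P.one]
    by_cases b3 : b = k
    · rw [b3, ht.1, c1.2.2 k hkl huk.symm, c2.2.1]; ring
    · by_cases b4 : b = l
      · rw [b4, ht.2.1, c1.1, c2.2.2 l hul.symm hkl.symm]; ring
      · by_cases b5 : b = u
        · rw [b5, ht.2.2 u huk hul, c1.2.1, c2.1]; ring
        · rw [ht.2.2 b b3 b4, c1.2.2 b b4 b5, c2.2.2 b b5 b3]; ring

end

/-! ### Alternating action -/

section alt
variable {H B : Type*} [Group H] [MulAction H B]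

open Cfsg.Agent.H32.NX9 Cfsg.Agent.H32.NY.A32

theorem exists_not_mem [Finite B] (L : List B) (hL : L.length < Nat.card B) : ∃ b, b ∉ L := by
  classical
  have := Fintype.ofFinite B
  by_contra hcon
  push Not at hcon
  have h1 : Fintype.card B ≤ L.length := by
    calc Fintype.card B = (Finset.univ : Finset B).card := rfl
      _ ≤ L.toFinset.card := Finset.card_le_card fun b _ => List.mem_toFinset.2 (hcon b)
      _ ≤ L.length := L.toFinset_card_le
  rw [Nat.card_eq_fintype_card] at hL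
  omega

theorem alt_sw (hA : IsAlt H B) {i j k l : B} (hij : i ≠ j) (hkl : k ≠ l) (hki : k ≠ i) (hkj : k ≠ j)
    (hli : l ≠ i) (hlj : l ≠ j) : ∃ h : H, Sw h i j k l := by
  obtain ⟨_, _, hA⟩ := hA
  obtain ⟨h, hh⟩ := (hA (Equiv.swap i j * Equiv.swap k l)).1 (by
    rw [Equiv.Perm.sign_mul, Equiv.Perm.sign_swap hij, Equiv.Perm.sign_swap hkl]; rfl)
  refine ⟨h, ?_, ?_, ?_, ?_, fun b b1 b2 b3 b4 => ?_⟩
  · rw [hh, Equiv.Perm.mul_apply, Equiv.swap_apply_of_ne_of_ne hki.symm hli.symm, Equiv.swap_apply_left]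
  · rw [hh, Equiv.Perm.mul_apply, Equiv.swap_apply_of_ne_of_ne hkj.symm hlj.symm, Equiv.swap_apply_right]
  · rw [hh, Equiv.Perm.mul_apply, Equiv.swap_apply_left, Equiv.swap_apply_of_ne_of_ne hli hlj]
  · rw [hh, Equiv.Perm.mul_apply, Equiv.swap_apply_right, Equiv.swap_apply_of_ne_of_ne hki hkj]
  · rw [hh, Equiv.Perm.mul_apply, Equiv.swap_apply_of_ne_of_ne b3 b4, Equiv.swap_apply_of_ne_of_ne b1 b2]

theorem alt_three (hA : IsAlt H B) {k l u : B} (hkl : k ≠ l) (huk : u ≠ k) (hul : u ≠ l) :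
    ∃ g : H, g • k = l ∧ g • l = u ∧ g • u = k ∧ ∀ b, b ≠ k → b ≠ l → b ≠ u → g • b = b := by
  obtain ⟨_, _, hA⟩ := hA
  obtain ⟨h, hh⟩ := (hA (Equiv.swap k l * Equiv.swap l u)).1 (by
    rw [Equiv.Perm.sign_mul, Equiv.Perm.sign_swap hkl, Equiv.Perm.sign_swap hul.symm]; rfl)
  refine ⟨h, ?_, ?_, ?_, fun b b1 b2 b3 => ?_⟩
  · rw [hh, Equiv.Perm.mul_apply, Equiv.swap_apply_of_ne_of_ne hkl huk.symm, Equiv.swap_apply_left]
  · rw [hh, Equiv.Perm.mul_apply, Equiv.swap_apply_left, Equiv.swap_apply_of_ne_of_ne huk hul]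
  · rw [hh, Equiv.Perm.mul_apply, Equiv.swap_apply_right, Equiv.swap_apply_right]
  · rw [hh, Equiv.Perm.mul_apply, Equiv.swap_apply_of_ne_of_ne b2 b3, Equiv.swap_apply_of_ne_of_ne b1 b2]

theorem alt_pat_two [Finite B] (hA : IsAlt H B) (hn : 6 ≤ Nat.card B) {m : ℕ} {N R : Subgroup H}
    {x : H → B → ZMod m} (P : PM m N R x) (hN : N ≤ Subgroup.center H) : Pat 2 R x := by
  refine pat_two P hN fun i j hij => ?_
  obtain ⟨k, hk⟩ := exists_not_mem [i, j] (by simp; omega)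
  obtain ⟨l, hl⟩ := exists_not_mem [i, j, k] (by simp; omega)
  obtain ⟨u, hu⟩ := exists_not_mem [i, j, k, l] (by simp; omega)
  obtain ⟨v, hv⟩ := exists_not_mem [i, j, k, l, u] (by simp; omega)
  simp only [List.mem_cons, List.not_mem_nil, or_false, not_or] at hk hl hu hv
  obtain ⟨hki, hkj⟩ := hk
  obtain ⟨hli, hlj, hlk⟩ := hl
  obtain ⟨hui, huj, huk, hul⟩ := hu
  obtain ⟨hvi, hvj, hvk, hvl, hvu⟩ := hv
  exact ⟨k, l, u, v, Ne.symm hlk, hki, hkj, hli, hlj, hui, huj, huk, hul, hvi, hvj, hvk, hvl,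
    alt_sw hA hij (Ne.symm hlk) hki hkj hli hlj, alt_sw hA hij (Ne.symm hvu) hui huj hvi hvj⟩

theorem alt_pat_three [Finite B] (hA : IsAlt H B) (hn : 5 ≤ Nat.card B) {m : ℕ} {N R : Subgroup H}
    {x : H → B → ZMod m} (P : PM m N R x) (hN : N ≤ Subgroup.center H) : Pat 3 R x := by
  refine pat_three P hN fun i j hij => ?_
  obtain ⟨k, hk⟩ := exists_not_mem [i, j] (by simp; omega)
  obtain ⟨l, hl⟩ := exists_not_mem [i, j, k] (by simp; omega)
  obtain ⟨u, hu⟩ := exists_not_mem [i, j, k, l] (by simp; omega)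
  simp only [List.mem_cons, List.not_mem_nil, or_false, not_or] at hk hl hu
  obtain ⟨hki, hkj⟩ := hk
  obtain ⟨hli, hlj, hlk⟩ := hl
  obtain ⟨hui, huj, huk, hul⟩ := hu
  exact ⟨k, l, u, Ne.symm hlk, hki, hkj, hli, hlj, hui, huj, huk, hul,
    alt_sw hA hij (Ne.symm hlk) hki hkj hli hlj, alt_three hA (Ne.symm hlk) huk hul⟩

/-- A homomorphism to an abelian `r`-group from the pointwise stabilizer `M` of a set `F` of points, trivial on the
kernel `Q`, is trivial, if `r ≠ 3` or there are at least five points outside `F`. -/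
theorem alt_hom [Finite B] (hA : IsAlt H B) {r : ℕ} (hr : r.Prime) {M : Subgroup H} {F : B → Prop}
    (hM : ∀ h : H, h ∈ M ↔ ∀ b, F b → h • b = b)
    (hn : r ≠ 3 ∨ 5 ≤ Nat.card {b : B // ¬ F b}) {A : Type*} [Group A]
    (hcA : ∀ a b : A, a * b = b * a) (f : M →* A)
    (hfQ : ∀ q : M, (∀ i : B, (q : H) • i = i) → f q = 1) (hrA : ∀ g : M, ∃ k : ℕ, f g ^ r ^ k = 1) (h : M) :
    f h = 1 := by
  classical
  obtain ⟨_, _, hA⟩ := hA
  -- lifts
  have hlift : ∀ σ : Equiv.Perm {b : B // ¬ F b}, Equiv.Perm.sign σ = 1 →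
      ∃ h : M, ∀ b, (h : H) • b = Equiv.Perm.ofSubtype σ b := by
    intro σ hσ
    obtain ⟨h, hh⟩ := (hA (Equiv.Perm.ofSubtype σ)).1 (by rw [Equiv.Perm.sign_ofSubtype, hσ])
    refine ⟨⟨h, (hM h).2 fun b hb => ?_⟩, hh⟩
    rw [hh, Equiv.Perm.ofSubtype_apply_of_not_mem]
    simpa using hb
  have huniq : ∀ h h' : M, (∀ b : B, (h : H) • b = (h' : H) • b) → f h = f h' := by
    intro h h' hh
    have h1 : f (h⁻¹ * h') = 1 := by
      apply hfQ
      intro i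
      rw [Subgroup.coe_mul, Subgroup.coe_inv, mul_smul, ← hh, inv_smul_smul]
    rw [map_mul, map_inv] at h1
    exact inv_mul_eq_one.1 h1
  have key : ∀ σ ∈ alternatingGroup {b : B // ¬ F b}, ∀ h : M, (∀ b, (h : H) • b = Equiv.Perm.ofSubtype σ b) →
      f h = 1 := by
    intro σ hσ
    rw [← Equiv.Perm.closure_three_cycles_eq_alternating] at hσ
    induction hσ using Subgroup.closure_induction with
    | mem σ hσ3 =>
      intro h hh
      have hσ3' : Equiv.Perm.IsThreeCycle σ := hσ3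
      rcases hn with hn | hn
      · have e1 : f (h ^ 3) = 1 := by
          apply hfQ
          intro i
          have e2 : ∀ b, (h : H) • (h : H) • (h : H) • b = Equiv.Perm.ofSubtype (σ ^ 3) b := by
            intro b
            rw [hh, hh, hh, map_pow, pow_succ, pow_two]
            rfl
          rw [Subgroup.coe_pow, pow_succ, pow_two, mul_smul, mul_smul, e2, ← hσ3'.orderOf, pow_orderOf_eq_one,
            map_one, Equiv.Perm.one_apply]
        rw [map_pow] at e1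
        obtain ⟨k, hk⟩ := hrA h
        have h3 : Nat.Coprime 3 (r ^ k) :=
          Nat.Coprime.pow_right k ((Nat.coprime_primes Nat.prime_three hr).2 (Ne.symm hn))
        have h4 := Nat.dvd_gcd (orderOf_dvd_of_pow_eq_one e1) (orderOf_dvd_of_pow_eq_one hk)
        rw [h3.gcd_eq_one] at h4
        exact orderOf_eq_one_iff.1 (Nat.dvd_one.1 h4)
      · have h1 := Equiv.Perm.IsThreeCycle.mem_commutatorSet_alternatingGroup hn
          (g := ⟨σ, hσ3'.mem_alternatingGroup⟩) hσ3'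
        obtain ⟨a, b, hab⟩ := h1
        have hab' : ⁅(a : Equiv.Perm {b : B // ¬ F b}), (b : Equiv.Perm {b : B // ¬ F b})⁆ = σ :=
          congrArg Subtype.val hab
        obtain ⟨ha, hha⟩ := hlift a (Equiv.Perm.mem_alternatingGroup.1 a.2)
        obtain ⟨hb, hhb⟩ := hlift b (Equiv.Perm.mem_alternatingGroup.1 b.2)
        have hinv : ∀ (g : M) (τ : Equiv.Perm {b : B // ¬ F b}),
            (∀ b, (g : H) • b = Equiv.Perm.ofSubtype τ b) →
            ∀ b, (g⁻¹ : H) • b = Equiv.Perm.ofSubtype τ⁻¹ b := by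
          intro g τ hg b
          rw [inv_smul_eq_iff, hg, map_inv, ← Equiv.Perm.mul_apply, mul_inv_cancel, Equiv.Perm.one_apply]
        rw [huniq h ⁅ha, hb⁆]
        · rw [map_commutatorElement, commutatorElement_eq_one_iff_mul_comm]
          exact hcA _ _
        · intro c
          rw [hh, ← hab', commutatorElement_def, commutatorElement_def, map_mul, map_mul, map_mul]
          rw [Subgroup.coe_mul, Subgroup.coe_mul, Subgroup.coe_mul, Subgroup.coe_inv, Subgroup.coe_inv,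
            mul_smul, mul_smul, mul_smul, hinv hb _ hhb, hinv ha _ hha, hhb, hha]
          rfl
    | one =>
      intro h hh
      apply hfQ
      intro i
      rw [hh, map_one, Equiv.Perm.one_apply]
    | mul σ τ hσ hτ ihσ ihτ =>
      intro h hh
      rw [Equiv.Perm.closure_three_cycles_eq_alternating] at hσ hτ
      obtain ⟨a, ha⟩ := hlift σ (Equiv.Perm.mem_alternatingGroup.1 hσ)
      obtain ⟨b, hb⟩ := hlift τ (Equiv.Perm.mem_alternatingGroup.1 hτ)
      rw [huniq h (a * b), map_mul, ihσ a ha, ihτ b hb, mul_one]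
      intro c
      rw [hh, Subgroup.coe_mul, mul_smul, hb, ha, map_mul, Equiv.Perm.mul_apply]
    | inv σ hσ ihσ =>
      intro h hh
      have h1 : f h⁻¹ = 1 := by
        apply ihσ
        intro b
        rw [Subgroup.coe_inv, inv_smul_eq_iff, hh, map_inv, ← Equiv.Perm.mul_apply, inv_mul_cancel,
          Equiv.Perm.one_apply]
      rw [map_inv, inv_eq_one] at h1
      exact h1
  -- the permutation induced by `h`
  set τ : Equiv.Perm B := MulAction.toPerm (h : H) with hτ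
  have hτb : ∀ b, τ b = (h : H) • b := fun b => rfl
  have hfix : ∀ b, F b → τ b = b := fun b hb => (hM h).1 h.2 b hb
  have h1 : ∀ b, ¬ F b ↔ ¬ F (τ b) := by
    intro b
    constructor
    · intro hb hb'
      have h2 := hfix _ hb'
      rw [τ.injective h2] at hb'
      exact hb hb'
    · intro hb hb'
      rw [hfix b hb'] at hb
      exact hb hb'
  let σ : Equiv.Perm {b : B // ¬ F b} := τ.subtypePerm (p := fun b => ¬ F b) fun b => (h1 b).symm
  have h2 : Equiv.Perm.ofSubtype σ = τ :=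
    Equiv.Perm.ofSubtype_subtypePerm _ fun b hb hFb => hb (hfix b hFb)
  have hs : Equiv.Perm.sign τ = 1 := (hA τ).2 ⟨h, fun b => rfl⟩
  refine key σ ?_ h fun b => ?_
  · rw [Equiv.Perm.mem_alternatingGroup, ← Equiv.Perm.sign_ofSubtype, h2, hs]
  · rw [h2, hτb]

end alt

end Cfsg.Agent.H32.NY.A239
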