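import Mathlib
import Cfsg.Agent.H32.NY.Pat
import Cfsg.Agent.H20.NX.Edge
import Cfsg.Agent.H32.NY.Basic

/-!
# S4979, layer (I): the EDGE lemma for cocycles and the CENT case (helper239)
-/

set_option autoImplicit false
set_option linter.unusedSectionVars false

open scoped commutatorElement Pointwise

namespace Cfsg.Agent.H32.NY.A239

open Cfsg.Agent.H239.NX Cfsg.Agent.H32.NX9 Cfsg.Agent.H32.NY.A32

open Cfsg.Agent.H32.NX9 Cfsg.Agent.H32.NY.A32 MulAction

/-- the points and the values -/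
structure Om (B A : Type*) where
  b : B
  e : A

/-- EDGE lemma for a cocycle. -/
theorem edge_cocycle {H B A : Type*} [Group H] [MulAction H B] [CommGroup A] (σ : H → B → A)
    (hσ : ∀ g h i, σ (g * h) i = σ g (h • i) * σ h i)
    (rel : ∀ h i j, i ≠ j → h • i = i → h • j = j → σ h i = σ h j)
    (hperf : commutator H = ⊤)
    (h3c : ∃ i j k : B, i ≠ j ∧ i ≠ k ∧ j ≠ k)
    (t3 : ∀ i j k i' j' k' : B, i ≠ j → i ≠ k → j ≠ k → i' ≠ j' → i' ≠ k' → j' ≠ k' →
      ∃ h : H, h • i = i' ∧ h • j = j' ∧ h • k = k')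
    {g : H} (hg : ∀ i : B, g • i = i) (i : B) : σ g i = 1 := by
  have h1 : ∀ i, σ 1 i = 1 := by
    intro i
    have h2 := hσ 1 1 i
    rw [one_smul, one_mul] at h2
    exact mul_eq_left.1 h2.symm
  let i1 : MulAction H (Om B A) :=
    { smul := fun h x => ⟨h • x.b, σ h x.b * x.e⟩
      one_smul := fun x => by
        change Om.mk ((1 : H) • x.b) (σ 1 x.b * x.e) = x
        rw [one_smul, h1, one_mul]
      mul_smul := fun g h x => by
        change Om.mk ((g * h) • x.b) (σ (g * h) x.b * x.e) = Om.mk (g • h • x.b) (σ g (h • x.b) * (σ h x.b * x.e))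
        rw [mul_smul, hσ, mul_assoc] }
  let i2 : MulAction A (Om B A) :=
    { smul := fun a x => ⟨x.b, a * x.e⟩
      one_smul := fun x => by
        change Om.mk x.b (1 * x.e) = x
        rw [one_mul]
      mul_smul := fun a c x => by
        change Om.mk x.b (a * c * x.e) = Om.mk x.b (a * (c * x.e))
        rw [mul_assoc] }
  have dH : ∀ (h : H) (x : Om B A), h • x = ⟨h • x.b, σ h x.b * x.e⟩ := fun h x => rfl
  have dA : ∀ (a : A) (x : Om B A), a • x = ⟨x.b, a * x.e⟩ := fun h x => rfl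
  have D : H20.NX.Edge.Data H A (Om.b : Om B A → B) :=
    { surj := fun i => ⟨⟨i, 1⟩, rfl⟩
      equiv := fun h x => rfl
      bA := fun a x => rfl
      comm := fun h a x => by
        rw [dH, dA, dA, dH]
        congr 1
        exact mul_left_comm _ _ _
      trans := fun x y hxy => ⟨y.e * x.e⁻¹, by
        rw [dA, hxy, inv_mul_cancel_right]⟩
      free := fun a x hx => by
        rw [dA] at hx
        have h2 : a * x.e = x.e := congrArg Om.e hx
        exact mul_eq_right.1 h2
      rel := fun h x y s t hxy hx hy => by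
        rw [dA, dH] at hx hy
        have e1 : h • x.b = x.b := congrArg Om.b hx
        have e2 : h • y.b = y.b := congrArg Om.b hy
        have e3 : σ h x.b * x.e = s * x.e := congrArg Om.e hx
        have e4 : σ h y.b * y.e = t * y.e := congrArg Om.e hy
        rw [← mul_right_cancel e3, ← mul_right_cancel e4]
        exact rel h _ _ hxy e1 e2
      three := t3
      pts := h3c }
  have hA : ∀ f : H →* A, f = 1 := by
    intro f
    have h2 : commutator H ≤ f.ker := by
      rw [commutator_def, Subgroup.commutator_le]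
      intro x _ y _
      rw [MonoidHom.mem_ker, map_commutatorElement, commutatorElement_eq_one_iff_mul_comm, mul_comm]
    rw [hperf] at h2
    ext x
    exact h2 (Subgroup.mem_top x)
  have h2 := D.ker_trivial hA hg ⟨i, 1⟩
  have h3 : σ g i * 1 = 1 := congrArg Om.e h2
  rwa [mul_one] at h3

section
variable {p q : ℕ} {H V B : Type*} [Group H] [Finite H] [AddCommGroup V] [Finite V] [DistribMulAction H V]
  [Finite B] [MulAction H B] {W : B → AddSubgroup V} {K N Q : Subgroup H} {φ : N →* ℂˣ}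

/-- a central element fixing a nonzero vector is in `N` -/
theorem mem_N_of_fix (I : ImpW (V := V) p q W K N Q φ) {a : H} (ha : a ∈ Subgroup.center H) {w : V}
    (hw : w ≠ 0) (h : a • w = w) : a ∈ N := by
  let U : AddSubgroup V :=
    { carrier := {v | a • v = v}
      zero_mem' := smul_zero a
      add_mem' := by
        intro u v hu hv
        change a • (u + v) = u + v
        rw [smul_add, hu, hv]
      neg_mem' := by
        intro u hu
        change a • (-u) = -u
        rw [smul_neg, hu] }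
  have h1 := I.core.irr U (by
    intro g v hv
    change a • g • v = g • v
    rw [smul_smul, ← Subgroup.mem_center_iff.1 ha g, mul_smul, hv])
  rcases h1 with h1 | h1
  · exfalso
    apply hw
    have h2 : w ∈ U := h
    rw [h1] at h2
    exact h2
  · refine (I.core.ker a).1 fun v => ?_
    have h2 : v ∈ U := by rw [h1]; trivial
    exact h2

theorem ImpW_three (I : ImpW (V := V) p q W K N Q φ) : ∃ i j k : B, i ≠ j ∧ i ≠ k ∧ j ≠ k := by
  have h1 := I.card
  have h2 := I.hp.two_le
  obtain ⟨k, -⟩ := exists_not_mem (B := B) [] (by simp; omega)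
  obtain ⟨l, hl⟩ := exists_not_mem [k] (by simp; omega)
  obtain ⟨u, hu⟩ := exists_not_mem [k, l] (by simp; omega)
  simp only [List.mem_cons, List.not_mem_nil, or_false, not_or] at hl hu
  exact ⟨k, l, u, Ne.symm hl, Ne.symm hu.1, Ne.symm hu.2⟩

theorem exists_ne_zero (I : ImpW (V := V) p q W K N Q φ) (i : B) : ∃ w ∈ W i, w ≠ 0 := by
  by_contra hcon
  push Not at hcon
  have h1 : ∀ j, ∀ w ∈ W j, w = 0 := by
    intro j w hw
    obtain ⟨k1, k2, k3, h12, h13, h23⟩ := ImpW_three I
    obtain ⟨h, hh⟩ : ∃ h : H, h • j = i := by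
      obtain ⟨j', hj⟩ : ∃ j' : B, j ≠ j' := by
        by_cases h : j = k1
        · exact ⟨k2, by rw [h]; exact h12⟩
        · exact ⟨k1, h⟩
      obtain ⟨i', hi⟩ : ∃ i' : B, i ≠ i' := by
        by_cases h : i = k1
        · exact ⟨k2, by rw [h]; exact h12⟩
        · exact ⟨k1, h⟩
      obtain ⟨j'', hj1, hj2⟩ : ∃ j'' : B, j ≠ j'' ∧ j' ≠ j'' := by
        obtain ⟨u, hu⟩ := exists_not_mem (B := B) [j, j'] (by
          have h1 := I.card
          have h2 := I.hp.two_le
          simp; omega)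
        simp only [List.mem_cons, List.not_mem_nil, or_false, not_or] at hu
        exact ⟨u, Ne.symm hu.1, Ne.symm hu.2⟩
      obtain ⟨i'', hi1, hi2⟩ : ∃ i'' : B, i ≠ i'' ∧ i' ≠ i'' := by
        obtain ⟨u, hu⟩ := exists_not_mem (B := B) [i, i'] (by
          have h1 := I.card
          have h2 := I.hp.two_le
          simp; omega)
        simp only [List.mem_cons, List.not_mem_nil, or_false, not_or] at hu
        exact ⟨u, Ne.symm hu.1, Ne.symm hu.2⟩
      obtain ⟨h, h1, -, -⟩ := I.t3 j j' j'' i i' i'' hj hj1 hj2 hi hi1 hi2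
      exact ⟨h, h1⟩
    have h2 : h • w ∈ W i := by
      rw [← hh, ← I.smulW]
      exact AddSubgroup.smul_mem_pointwise_smul w h (W j) hw
    have h3 := hcon _ h2
    exact (smul_eq_zero_iff_eq h).1 h3
  have h2 : (⊤ : AddSubgroup V) = ⊥ := by
    rw [← I.top, eq_bot_iff]
    exact iSup_le fun j w hw => by rw [AddSubgroup.mem_bot]; exact h1 j w hw
  have h3 := I.core.nt
  exact top_ne_bot h2

/-- card of the complement of two points -/
theorem card_compl_two [DecidableEq B] (i j : B) {n : ℕ} (hn : n + 2 ≤ Nat.card B) :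
    n ≤ Nat.card {b : B // ¬ (b = i ∨ b = j)} := by
  have := Fintype.ofFinite B
  rw [Nat.card_eq_fintype_card] at hn ⊢
  rw [Fintype.card_subtype_compl]
  have h1 : Fintype.card {b : B // b = i ∨ b = j} ≤ 2 := by
    rw [Fintype.card_subtype]
    calc _ ≤ ({i, j} : Finset B).card := Finset.card_le_card fun b hb => by
            simpa using hb
      _ ≤ 2 := Finset.card_le_two
  omega

/-- The CENT case. -/
theorem cent_false (I : ImpW (V := V) p q W K N Q φ) (hA : IsAlt H B)
    (hn : (p = 3 ∧ Nat.card B = 5) ∨ 8 ≤ Nat.card B) {r a : ℕ} (hr : r.Prime) (hrp : r ≠ p)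
    (trQ : ∀ i, ∀ u ∈ W i, ∀ w ∈ W i, u ≠ 0 → w ≠ 0 → ∃ g ∈ Q, g • u = w)
    {R : Subgroup H} {x : H → B → ZMod (r ^ a)} (P : PM (r ^ a) N R x) (hRQ : R ≤ Q)
    (hidx : ¬ r ∣ R.relIndex Q) (hne : ∃ ρ ∈ R, ∃ i, x ρ i ≠ 0)
    (hconst : ∀ ρ ∈ R, ∀ i j, x ρ i = x ρ j) : False := by
  classical
  -- `R` is central
  have hcen : R ≤ Subgroup.center H := by
    intro ρ hρ
    refine Cfsg.Agent.H32.NY.A20.mem_center_of_perfect I.core.perf I.core.cen fun h => ?_
    have h1 : ⁅h, ρ⁆ ∈ N := P.br_mem' hρ fun i => hconst ρ hρ _ _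
    rw [← commutatorElement_inv]
    exact inv_mem h1
  obtain ⟨ρ0, hρ0, i0, hx0⟩ := hne
  -- the homomorphism
  let R' : Subgroup Q := R.subgroupOf Q
  let ϕ : R' →* Multiplicative (ZMod (r ^ a)) :=
    MonoidHom.mk' (fun ρ => Multiplicative.ofAdd (x ((ρ : Q) : H) i0)) fun u v => by
      change Multiplicative.ofAdd (x (((u : Q) : H) * ((v : Q) : H)) i0) = _
      rw [P.mul ((u : Q) : H) u.2 ((v : Q) : H) v.2, ofAdd_add]
  have key : ∀ g : Q, ∀ (k : ℕ) (g₀ : Q), g₀⁻¹ * g ^ k * g₀ ∈ R' → g₀⁻¹ * g ^ k * g₀ = g ^ k := by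
    intro g k g₀ hg
    have h1 : ((g₀⁻¹ * g ^ k * g₀ : Q) : H) ∈ Subgroup.center H := hcen hg
    have h2 : g₀ * (g₀⁻¹ * g ^ k * g₀) = (g₀⁻¹ * g ^ k * g₀) * g₀ :=
      Subtype.ext (Subgroup.mem_center_iff.1 h1 g₀)
    have h3 : g ^ k * g₀ = g₀⁻¹ * g ^ k * g₀ * g₀ := by
      rw [← h2]; group
    exact (mul_right_cancel h3).symm
  let π : Q →* Multiplicative (ZMod (r ^ a)) := ϕ.transfer
  have hπ : ∀ g : Q, ∃ hg : (g : H) ^ R.relIndex Q ∈ R, π g = Multiplicative.ofAdd (x ((g : H) ^ R.relIndex Q) i0) := by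
    intro g
    have h1 := MonoidHom.transfer_eq_pow ϕ g (key g)
    have h2 : g ^ R'.index ∈ R' := MonoidHom.transfer_eq_pow_aux g (key g)
    exact ⟨h2, h1⟩
  -- elements with a fixed vector are in the kernel of `π`
  have hfix : ∀ (g : Q) (w : V), w ≠ 0 → (g : H) • w = w → π g = 1 := by
    intro g w hw h
    obtain ⟨h1, h2⟩ := hπ g
    have h3 : (g : H) ^ R.relIndex Q ∈ N := by
      refine mem_N_of_fix I (hcen h1) hw ?_
      have h4 : ∀ n : ℕ, (g : H) ^ n • w = w := by
        intro n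
        induction n with
        | zero => rw [pow_zero, one_smul]
        | succ n ih => rw [pow_succ, mul_smul, h, ih]
      exact h4 _
    rw [h2, P.kerN _ h3]
    rfl
  have hQn : ∀ (h : H) (g : H), g ∈ Q → h * g * h⁻¹ ∈ Q := by
    intro h g hg
    rw [I.memQ]
    intro i
    rw [mul_smul, mul_smul, (I.memQ g).1 hg, smul_inv_smul]
  have hinv : ∀ (h : H) (g : Q), π ⟨h * g * h⁻¹, hQn h g g.2⟩ = π g := by
    intro h g
    obtain ⟨h1, h2⟩ := hπ g
    obtain ⟨h3, h4⟩ := hπ ⟨h * g * h⁻¹, hQn h g g.2⟩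
    rw [h2, h4]
    congr 2
    change (h * (g : H) * h⁻¹) ^ R.relIndex Q = _
    rw [conj_pow, Subgroup.mem_center_iff.1 (hcen h1) h, mul_inv_cancel_right]
  -- base vectors
  choose w hw hw0 using exists_ne_zero I
  have hex : ∀ (h : H) (i : B), ∃ g : Q, (g : H) • w (h • i) = h • w i := by
    intro h i
    have h1 : h • w i ∈ W (h • i) := by
      rw [← I.smulW]
      exact AddSubgroup.smul_mem_pointwise_smul _ h (W i) (hw i)
    obtain ⟨g, hg, h2⟩ := trQ (h • i) (w (h • i)) (hw _) (h • w i) h1 (hw0 _)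
      (fun h0 => hw0 i ((smul_eq_zero_iff_eq h).1 h0))
    exact ⟨⟨g, hg⟩, h2⟩
  choose G hG using hex
  have huniq : ∀ (g : Q) (h : H) (i : B), (g : H) • w (h • i) = h • w i → π g = π (G h i) := by
    intro g h i hg
    have h1 : π ((G h i)⁻¹ * g) = 1 := by
      refine hfix _ (w (h • i)) (hw0 _) ?_
      rw [Subgroup.coe_mul, Subgroup.coe_inv, mul_smul, hg, ← hG h i, inv_smul_smul]
    rw [map_mul, map_inv] at h1
    exact (inv_mul_eq_one.1 h1).symm
  let σ : H → B → Multiplicative (ZMod (r ^ a)) := fun h i => π (G h i)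
  have hσ : ∀ g h i, σ (g * h) i = σ g (h • i) * σ h i := by
    intro g h i
    have h1 : π (⟨g * G h i * g⁻¹, hQn g _ (G h i).2⟩ * G g (h • i)) = π (G (g * h) i) := by
      apply huniq
      rw [Subgroup.coe_mul, mul_smul, mul_smul g h i, hG g (h • i)]
      change (g * (G h i : H) * g⁻¹) • g • w (h • i) = _
      rw [mul_smul, mul_smul, inv_smul_smul, hG h i, mul_smul]
    rw [map_mul, hinv] at h1
    change π (G (g * h) i) = π (G g (h • i)) * π (G h i)
    rw [← h1, mul_comm]
  have hσQ : ∀ (g : Q) (i : B), σ g i = π g := by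
    intro g i
    have h1 : (g : H) • i = i := (I.memQ g).1 g.2 i
    exact (huniq g g i (by rw [h1])).symm
  have hσs : ∀ (g h : H) (i : B), h • i = i → σ (g * h) i = σ g i * σ h i := by
    intro g h i hi
    rw [hσ, hi]
  have hrel : ∀ h i j, i ≠ j → h • i = i → h • j = j → σ h i = σ h j := by
    intro h i j hij hi hj
    let f : ↥(stabilizer H i ⊓ stabilizer H j) →* Multiplicative (ZMod (r ^ a)) :=
      MonoidHom.mk' (fun g => σ g i * (σ g j)⁻¹) fun u v => by
        change σ ((u : H) * (v : H)) i * (σ ((u : H) * (v : H)) j)⁻¹ = _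
        rw [hσs _ _ i v.2.1, hσs _ _ j v.2.2, mul_inv]
        exact mul_mul_mul_comm _ _ _ _
    have h1 := alt_hom hA hr (M := stabilizer H i ⊓ stabilizer H j) (F := fun b => b = i ∨ b = j)
      (fun g => by
        rw [Subgroup.mem_inf, mem_stabilizer_iff, mem_stabilizer_iff]
        constructor
        · rintro ⟨h1, h2⟩ b (rfl | rfl)
          · exact h1
          · exact h2
        · intro h1
          exact ⟨h1 i (Or.inl rfl), h1 j (Or.inr rfl)⟩)
      (by
        rcases hn with ⟨h3, h5⟩ | h8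
        · left
          rw [← h3]
          exact hrp
        · right
          exact card_compl_two i j (by omega)) mul_comm f
      (fun g hg => by
        change σ (g : H) i * (σ (g : H) j)⁻¹ = 1
        have hgQ : (g : H) ∈ Q := (I.memQ _).2 hg
        rw [hσQ ⟨g, hgQ⟩, hσQ ⟨g, hgQ⟩, mul_inv_cancel])
      (fun c => ⟨a, by
        have h2 : ((r ^ a : ℕ) : ZMod (r ^ a)) * Multiplicative.toAdd (f c) = 0 := by
          rw [ZMod.natCast_self, zero_mul]
        apply Multiplicative.toAdd.injective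
        rw [toAdd_pow, toAdd_one, nsmul_eq_mul, h2]⟩) ⟨h, hi, hj⟩
    exact mul_inv_eq_one.1 h1
  have hfin : ∀ g : H, (∀ i : B, g • i = i) → ∀ i, σ g i = 1 := fun g hg i =>
    edge_cocycle σ hσ hrel I.core.perf (ImpW_three I) I.t3 hg i
  -- contradiction
  have h1 := hfin ρ0 ((I.memQ ρ0).1 (hRQ hρ0)) i0
  rw [hσQ ⟨ρ0, hRQ hρ0⟩] at h1
  obtain ⟨h2, h3⟩ := hπ ⟨ρ0, hRQ hρ0⟩
  rw [h3] at h1
  have h4 : x (ρ0 ^ R.relIndex Q) i0 = 0 := by
    have := congrArg Multiplicative.toAdd h1
    simpa using this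
  rw [P.pow hρ0] at h4
  apply hx0
  have h5 : IsUnit ((R.relIndex Q : ℕ) : ZMod (r ^ a)) := by
    rw [ZMod.isUnit_iff_coprime]
    exact Nat.Coprime.pow_right a ((Nat.Prime.coprime_iff_not_dvd hr).2 hidx).symm
  exact (IsUnit.mul_right_eq_zero h5).1 h4

end

end Cfsg.Agent.H32.NY.A239
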