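import Mathlib
import Cfsg.Agent.H32.NY.PermQ
import Cfsg.Agent.H32.NY.RData
import Cfsg.Agent.H32.NY.PermP

/-!
# S4979, layer (I): a good prime is impossible, alternating action (helper239)
-/

set_option autoImplicit false

open scoped Pointwise

namespace Cfsg.Agent.H32.NY.A239

open Cfsg.Agent.H239.NX Cfsg.Agent.H32.NX9 Cfsg.Agent.H32.NY.A32

open Cfsg.Agent.H32.NX9 Cfsg.Agent.H32.NY.A32

universe u v

variable {p q : ℕ} {H V : Type u} {B : Type v} [Group H] [Finite H] [AddCommGroup V] [Finite V]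
  [DistribMulAction H V] [Finite B] [MulAction H B] {W : B → AddSubgroup V} {K N Q : Subgroup H} {φ : N →* ℂˣ}

/-- [I-fg] (I4): a good prime is impossible, alternating case. -/
theorem good_false_alt (I : ImpW (V := V) p q W K N Q φ) {r : ℕ} (hr : GoodPr p r W Q)
    (trQ : ∀ i, ∀ u ∈ W i, ∀ w ∈ W i, u ≠ 0 → w ≠ 0 → ∃ g ∈ Q, g • u = w)
    (hA : IsAlt H B) (hn : (p = 3 ∧ Nat.card B = 5) ∨ 8 ≤ Nat.card B) : False := by
  obtain ⟨a, P, t, R⟩ := Cfsg.Agent.H32.NY.A37.exists_rdata I hr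
  obtain ⟨x, mul, ker, kerN, conj, hNR, hnR, hRQ, hidx, htriv, hunit⟩ :=
    Cfsg.Agent.H32.NY.A322.perm_data I R hA hn
  obtain ⟨i, -, -, -⟩ := ImpW_three I
  have : Fact (1 < r ^ a) := ⟨Nat.one_lt_pow (by have := R.ha; omega) R.prime.one_lt⟩
  exact perm_false I hA hn R.prime R.odd hr.ne trQ
    (P := { NR := hNR, nR := hnR, mul := mul, ker := ker, kerN := kerN, conj := conj }) hRQ hidx
    ⟨t i, (le_sup_left : P ≤ P ⊔ N) (R.tP i), i, (hunit i).ne_zero⟩ htriv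

end Cfsg.Agent.H32.NY.A239
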