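import Mathlib
import Cfsg.Agent.H37.NX.Imp
import Cfsg.Agent.H37.NX.Eight
import Cfsg.Agent.H32.NY.Defs
import Cfsg.Agent.H229.RIM.Defs

/-!
# S4816, layer (I): the frame `CoreP → ImpW p p` (helper37's frame of S4979, copied by helper32)
-/

set_option autoImplicit false
set_option linter.style.haveILetI false
set_option linter.unusedSectionVars false

open scoped Pointwise

namespace Cfsg.Agent.H32.NY.A37

open MulAction Cfsg.Agent.H511.Wt Cfsg.Agent.H586.GW Cfsg.Agent.H32.NX9 Cfsg.Agent.H37.NX Cfsg.Agent.H32.NY.A32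

/-- three points -/
theorem exists_of_three {G α : Type*} [Group G] [MulAction G α] (h : IsMultiplyPretransitive G α 3)
    {i j k i' j' k' : α} (h1 : i ≠ j) (h2 : i ≠ k) (h3 : j ≠ k) (h4 : i' ≠ j') (h5 : i' ≠ k')
    (h6 : j' ≠ k') : ∃ g : G, g • i = i' ∧ g • j = j' ∧ g • k = k' := by
  have hinj : ∀ {a b c : α}, a ≠ b → a ≠ c → b ≠ c → Function.Injective ![a, b, c] := by
    intro a b c hab hac hbc x y hxy
    fin_cases x <;> fin_cases y <;> simp at hxy ⊢
    · exact hab hxy
    · exact hac hxy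
    · exact hab hxy.symm
    · exact hbc hxy
    · exact hac hxy.symm
    · exact hbc hxy.symm
  obtain ⟨g, hg⟩ := MulAction.exists_smul_eq G (⟨![i, j, k], hinj h1 h2 h3⟩ : Fin 3 ↪ α)
    ⟨![i', j', k'], hinj h4 h5 h6⟩
  refine ⟨g, ?_, ?_, ?_⟩
  · exact congrArg (fun w : Fin 3 ↪ α => w 0) hg
  · exact congrArg (fun w : Fin 3 ↪ α => w 1) hg
  · exact congrArg (fun w : Fin 3 ↪ α => w 2) hg

section core
variable {p q : ℕ} [hp : Fact p.Prime] {H V : Type*} [Group H] [Finite H] [AddCommGroup V] [Finite V]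
  [DistribMulAction H V] {K N : Subgroup H} {φ : N →* ℂˣ} {M : Subgroup H} {W : H ⧸ M → AddSubgroup V}

/-- (I0): the shape of the action on the blocks. -/
theorem CoreW.imp (h3513 : S3513Stmt) (C : CoreW (V := V) p q K N φ) (hM : IsCoatom M)
    (hW : ∀ (g : H) (i : H ⧸ M), g • W i = W (g • i)) (hind : iSupIndep W) (htop : ⨆ i, W i = ⊤) :
    ∃ (n : ℕ) (e : H ⧸ M ≃ Fin n) (ρ : H →* Equiv.Perm (Fin n)), ImpShape p K e ρ := by
  classical
  haveI := C.nt
  haveI := nontrivial_blocks hM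
  haveI : Fintype (H ⧸ M) := Fintype.ofFinite _
  refine exists_shape h3513 C.odd (prim_blocks hM) C.perf C.nK C.Kt C.maxK C.pS ?_
  intro Δ
  choose w hw hw0 using fun i => exists_ne_zero hW htop i
  let f : H ⧸ M → V := fun i => if i ∈ Δ then w i else 0
  have hf : ∀ i, f i ∈ W i := by
    intro i
    by_cases h : i ∈ Δ
    · simp only [f, if_pos h]; exact hw i
    · simp only [f, if_neg h]; exact (W i).zero_mem
  have hf0 : ∀ i, f i ≠ 0 ↔ i ∈ Δ := by
    intro i
    by_cases h : i ∈ Δ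
    · simp only [f, if_pos h]; exact iff_of_true (hw0 i) h
    · simp only [f, if_neg h]; exact iff_of_false (fun h => h rfl) h
  refine ⟨MulAction.stabilizer H (∑ i, f i), C.P1 _, fun g hgv b => ?_⟩
  rw [← hf0, ← hf0, ← fix_comp hW hind hf hgv b]
  rw [not_iff_not]
  exact smul_eq_zero_iff_eq g

/-- The block stabilizers are transitive on the nonzero vectors of the blocks. -/
theorem CoreW.imp_trans (C : CoreW (V := V) p q K N φ)
    (hW : ∀ (g : H) (i : H ⧸ M), g • W i = W (g • i)) (hind : iSupIndep W)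
    {n : ℕ} {e : H ⧸ M ≃ Fin n} {ρ : H →* Equiv.Perm (Fin n)} (I : ImpShape p K e ρ) (i₀ : H ⧸ M)
    {a b : V} (ha : a ∈ W i₀) (hb : b ∈ W i₀) (ha0 : a ≠ 0) (hb0 : b ≠ 0) :
    ∃ m : H, m • i₀ = i₀ ∧ m • a = b := by
  classical
  by_contra hcon
  push Not at hcon
  haveI : Fintype (H ⧸ M) := Fintype.ofFinite _
  -- a set of `p` blocks
  obtain ⟨Γ, hΓsub, hΓ⟩ := Finset.exists_subset_card_eq (s := (Finset.univ : Finset (H ⧸ M)))
    (n := p) (by rw [Finset.card_univ, ← Nat.card_eq_fintype_card]; exact I.le_card)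
  obtain ⟨j₀, hj₀⟩ : Γ.Nonempty := by
    rw [← Finset.card_pos, hΓ]; exact hp.out.pos
  choose t ht using fun i => MulAction.exists_smul_eq H i₀ i
  let f : H ⧸ M → V := fun i => if i = j₀ then t i • b else if i ∈ Γ then t i • a else 0
  have hmem : ∀ i (w : V), w ∈ W i₀ → t i • w ∈ W i := by
    intro i w hw
    have := smul_mem_W hW (g := t i) hw
    rwa [ht] at this
  have hf : ∀ i, f i ∈ W i := by
    intro i
    by_cases h : i = j₀
    · simp only [f, if_pos h]; exact hmem i b hb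
    · by_cases h' : i ∈ Γ
      · simp only [f, if_neg h, if_pos h']; exact hmem i a ha
      · simp only [f, if_neg h, if_neg h']; exact (W i).zero_mem
  have hst : ∀ (g : H) (i : H ⧸ M), ((t (g • i))⁻¹ * g * t i) • i₀ = i₀ := by
    intro g i
    rw [mul_smul, mul_smul, ht, inv_smul_eq_iff, ht]
  have hf0 : ∀ i, f i ≠ 0 ↔ i ∈ Γ := by
    intro i
    by_cases h : i = j₀
    · simp only [f, if_pos h]
      refine iff_of_true ?_ (h ▸ hj₀)
      rw [Ne, smul_eq_zero_iff_eq]
      exact hb0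
    · by_cases h' : i ∈ Γ
      · simp only [f, if_neg h, if_pos h']
        refine iff_of_true ?_ h'
        rw [Ne, smul_eq_zero_iff_eq]
        exact ha0
      · simp only [f, if_neg h, if_neg h']
        exact iff_of_false (fun h => h rfl) h'
  refine I.no_label C.odd (C.P1 (∑ i, f i)) (Γ : Set (H ⧸ M)) (by
    rw [Nat.card_coe_set_eq, Set.ncard_coe_finset, hΓ]) (i₀ := j₀) hj₀ ?_ ?_
  · intro g hg
    have hcomp := fix_comp hW hind hf (MulAction.mem_stabilizer_iff.1 hg)
    by_contra hne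
    have h1 := hcomp j₀
    have h2 : g • j₀ ∈ Γ := by
      rw [← hf0, ← h1, Ne, smul_eq_zero_iff_eq]
      exact (hf0 j₀).2 hj₀
    simp only [f, if_true, if_neg hne, if_pos h2] at h1
    refine hcon ((t (g • j₀))⁻¹ * g * t j₀)⁻¹ ?_ ?_
    · rw [inv_smul_eq_iff, hst]
    · rw [inv_smul_eq_iff, mul_smul, mul_smul, h1, inv_smul_smul]
  · intro g hg b hb'
    have hcomp := fix_comp hW hind hf (MulAction.mem_stabilizer_iff.1 hg)
    rw [Finset.mem_coe] at hb' ⊢
    rw [← hf0, ← hcomp b, Ne, smul_eq_zero_iff_eq]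
    exact (hf0 b).2 hb'

end core

variable {p q : ℕ} {H V : Type*} [Group H] [Finite H] [AddCommGroup V] [Finite V] [DistribMulAction H V]
  {K N : Subgroup H} {φ : N →* ℂˣ}

/-- [I-a], with the bound `2 p ≤ n + 1`. -/
theorem impW_of_impP2 (h3513 : S3513Stmt) (hp : p.Prime) (hq : q.Prime)
    (C : CoreW (V := V) p q K N φ) (h : ImpP H V) : ∃ (M : Subgroup H) (W : H ⧸ M → AddSubgroup V) (Q : Subgroup H),
      ImpW (V := V) p q W K N Q φ ∧ 2 * p ≤ Nat.card (H ⧸ M) + 1 := by
  classical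
  haveI : Fact p.Prime := ⟨hp⟩
  obtain ⟨M, W, hM, hW, hind, htop⟩ := h
  obtain ⟨n, e, ρ, I⟩ := CoreW.imp h3513 C hM hW hind htop
  have hp2 := C.odd
  have hp3 : 3 ≤ p := by
    have := hp.two_le
    omega
  have hcard : Nat.card (H ⧸ M) = n := by rw [Nat.card_congr e, Nat.card_fin]
  have hmemQ : ∀ g : H, g ∈ ρ.ker ↔ ∀ i : H ⧸ M, g • i = i := by
    intro g
    rw [MonoidHom.mem_ker]
    constructor
    · intro h i
      apply e.injective
      rw [← I.equiv, h]
      rfl
    · intro h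
      ext i : 1
      obtain ⟨b, rfl⟩ := e.surjective i
      rw [I.equiv, h]
      rfl
  have htr3 : IsMultiplyPretransitive ρ.range (Fin n) 3 := by
    rcases I.shape with ⟨h5, -, -, hA, -⟩ | ⟨hn, -, hprim, hc, -⟩
    · rw [hA]
      have h1 := alternatingGroup.isMultiplyPretransitive (Fin n)
      rw [Nat.card_fin] at h1
      haveI := h1
      refine MulAction.isMultiplyPretransitive_of_le (n := n - 2) (by omega) (by
        rw [Nat.card_fin]; omega)
    · subst hn
      exact three_trans_eight hprim hc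
  refine ⟨M, W, ρ.ker, ⟨C, hp, hq, hW, hind, htop, hmemQ, ?_, ?_, ?_, ?_, ?_, ?_⟩, ?_⟩
  · rcases I.shape with ⟨-, -, -, -, hk⟩ | ⟨-, -, -, -, hk⟩
    · exact hk.le
    · exact hk
  · rw [hcard]
    rcases I.shape with ⟨h5, h2p, -⟩ | ⟨hn, hp3', -⟩ <;> omega
  · intro Γ b hb hΓ T hTb hTΓ
    by_contra hT
    exact I.no_label hp2 hT Γ (by rw [Nat.card_coe_set_eq]; exact hΓ) hb hTb hTΓ
  · intro i a ha b hb ha0 hb0
    exact CoreW.imp_trans C hW hind I i ha hb ha0 hb0
  · intro i j k i' j' k' h1 h2 h3 h4 h5 h6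
    have hne : ∀ {a b : H ⧸ M}, a ≠ b → e a ≠ e b := fun hab h => hab (e.injective h)
    obtain ⟨⟨_, g, rfl⟩, hg1, hg2, hg3⟩ := exists_of_three htr3 (hne h1) (hne h2) (hne h3) (hne h4)
      (hne h5) (hne h6)
    refine ⟨g, ?_, ?_, ?_⟩
    · exact e.injective ((I.equiv g i).symm.trans hg1)
    · exact e.injective ((I.equiv g j).symm.trans hg2)
    · exact e.injective ((I.equiv g k).symm.trans hg3)
  · rcases I.shape with ⟨h5, h2p, ⟨a, s, hs, ha, hap, hn, hne⟩, hA, hk⟩ | ⟨hn, hp3', -, hc, -⟩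
    · left
      refine ⟨hk, ?_, ?_⟩
      · letI : Fintype (H ⧸ M) := Fintype.ofFinite _
        refine ⟨inferInstance, inferInstance, fun σ => ?_⟩
        have h1 : Equiv.Perm.sign σ = 1 ↔ e.permCongr σ ∈ ρ.range := by
          rw [hA, Equiv.Perm.mem_alternatingGroup, Equiv.Perm.sign_permCongr]
        rw [h1]
        constructor
        · rintro ⟨g, hg⟩
          refine ⟨g, fun b => ?_⟩
          apply e.injective
          rw [← I.equiv, hg]
          simp
        · rintro ⟨g, hg⟩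
          refine ⟨g, ?_⟩
          ext i : 1
          obtain ⟨b, rfl⟩ := e.surjective i
          rw [I.equiv, hg]
          simp
      · rw [hcard]
        by_cases h8 : 8 ≤ n
        · exact Or.inr h8
        · left
          have hp3' : p = 3 ∨ p = 4 := by omega
          have hp3'' : p = 3 := by
            rcases hp3' with h | h
            · exact h
            · rw [h] at hp
              exact absurd hp (by decide)
          subst hp3''
          refine ⟨rfl, ?_⟩
          have h3 : 3 ∣ n + 1 := by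
            rw [hn]
            exact (dvd_pow_self 3 (by omega)).mul_left a
          omega
    · right
      refine ⟨hp3', by rw [hcard, hn], ?_⟩
      rw [Subgroup.index_ker]
      exact hc
  · rw [hcard]
    rcases I.shape with ⟨h5, h2p, -⟩ | ⟨hn, hp3', -⟩ <;> omega


/-- `CoreP` gives `CoreW`. -/
theorem coreW_of_coreP {p : ℕ} {H V : Type*} [Group H] [Finite H] [AddCommGroup V] [Finite V] [DistribMulAction H V]
    {K N : Subgroup H} {φ : N →* ℂˣ} (C : Cfsg.Agent.H229.RIM.CoreP (V := V) p K N φ) :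
    CoreW (V := V) p p K N φ :=
  ⟨C.odd, C.perf, C.nK, C.Kt, C.maxK, C.simp, C.na, C.pK, C.pS, C.cen, C.NK, C.Nne, C.inj, C.exp, C.nt, C.ker,
    C.irr, C.P1, C.P2⟩

/-- The frame: `CoreP` with `V` imprimitive gives `ImpW p p`, with `2 p ≤ n + 1`. -/
theorem impW_of_coreP (h3513 : S3513Stmt) {p : ℕ} (hp : p.Prime) {H V : Type*} [Group H] [Finite H]
    [AddCommGroup V] [Finite V] [DistribMulAction H V] {K N : Subgroup H} {φ : N →* ℂˣ}
    (C : Cfsg.Agent.H229.RIM.CoreP (V := V) p K N φ) (h : ImpP H V) :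
    ∃ (M : Subgroup H) (W : H ⧸ M → AddSubgroup V) (Q : Subgroup H),
      ImpW (V := V) p p W K N Q φ ∧ 2 * p ≤ Nat.card (H ⧸ M) + 1 :=
  impW_of_impP2 h3513 hp hp (coreW_of_coreP C) h

end Cfsg.Agent.H32.NY.A37
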