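import Mathlib
import Cfsg.Agent.H32.NY.PermQ

/-!
# S4979, layer (I): the Fermat case, alternating action (helper239)
-/

set_option autoImplicit false
set_option linter.unusedSectionVars false

open scoped commutatorElement Pointwise

namespace Cfsg.Agent.H32.NY.A239

open Cfsg.Agent.H239.NX Cfsg.Agent.H32.NX9 Cfsg.Agent.H32.NY.A32

open Cfsg.Agent.H32.NX9 Cfsg.Agent.H32.NY.A32 MulAction

universe u

section
variable {p q : ℕ} {H V : Type u} {B : Type*} [Group H] [Finite H] [AddCommGroup V] [Finite V] [DistribMulAction H V]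
  [Finite B] [MulAction H B] {W : B → AddSubgroup V} {K N Q : Subgroup H} {φ : N →* ℂˣ}

/-- blocks of prime order: the scalars -/
theorem exists_scalar (I : ImpW (V := V) p q W K N Q φ) (hb : ∀ i, Nat.card (W i) = q) :
    ∃ (w : B → V) (c : H → B → (ZMod q)ˣ), (∀ i, w i ∈ W i) ∧ (∀ i, w i ≠ 0) ∧
      (∀ i, ∀ u ∈ W i, ∃ k : ℕ, u = k • w i) ∧
      (∀ h i, h • w i = ((c h i : ZMod q).val) • w (h • i)) ∧
      (∀ k l : ℕ, ∀ i, k • w i = l • w i → (k : ZMod q) = (l : ZMod q)) := by
  classical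
  have hqp : Fact q.Prime := ⟨I.hq⟩
  choose w hw hw0 using exists_ne_zero I
  have hord : ∀ i, addOrderOf (w i) = q := by
    intro i
    exact addOrderOf_eq_prime (I.core.exp _) (hw0 i)
  have hgen : ∀ i, ∀ u ∈ W i, ∃ k : ℕ, u = k • w i := by
    intro i u hu
    have h1 : AddSubgroup.zmultiples (w i) = W i := by
      apply AddSubgroup.eq_of_le_of_card_ge
      · rw [AddSubgroup.zmultiples_le]
        exact hw i
      · rw [hb, Nat.card_zmultiples, hord]
    rw [← h1] at hu
    obtain ⟨k, hk⟩ := AddSubgroup.mem_zmultiples_iff.1 hu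
    have h2 : u ∈ AddSubmonoid.multiples (w i) := by
      rw [mem_multiples_iff_mem_zmultiples]
      exact hu
    obtain ⟨l, hl⟩ := AddSubmonoid.mem_multiples_iff _ _ |>.1 h2
    exact ⟨l, hl.symm⟩
  have hcan : ∀ k l : ℕ, ∀ i, k • w i = l • w i → (k : ZMod q) = (l : ZMod q) := by
    intro k l i h
    rw [ZMod.natCast_eq_natCast_iff]
    have h1 := (nsmul_eq_nsmul_iff_modEq (x := w i) (n := k) (m := l)).1 h
    rwa [hord] at h1
  have hex : ∀ (h : H) (i : B), ∃ c : (ZMod q)ˣ, h • w i = ((c : ZMod q).val) • w (h • i) := by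
    intro h i
    have h1 : h • w i ∈ W (h • i) := by
      rw [← I.smulW]
      exact AddSubgroup.smul_mem_pointwise_smul _ h (W i) (hw i)
    obtain ⟨k, hk⟩ := hgen _ _ h1
    have hk' : h • w i = ((k : ZMod q).val) • w (h • i) := by
      rw [hk, ZMod.val_natCast, ← hord (h • i), mod_addOrderOf_nsmul]
    have hk0 : (k : ZMod q) ≠ 0 := by
      intro h0
      rw [h0, ZMod.val_zero, zero_smul] at hk'
      exact hw0 i ((smul_eq_zero_iff_eq h).1 hk')
    exact ⟨Units.mk0 _ hk0, hk'⟩
  choose c hc using hex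
  exact ⟨w, c, hw, hw0, hgen, hc, hcan⟩

/-- (I5) -/
theorem bad_false_alt (I : ImpW (V := V) p q W K N Q φ) (hbad : Bad q W)
    (hA : IsAlt H B) (hn : (p = 3 ∧ Nat.card B = 5) ∨ 8 ≤ Nat.card B) : False := by
  classical
  obtain ⟨hb, a, hqa, ha2⟩ := hbad
  have hqp : Fact q.Prime := ⟨I.hq⟩
  obtain ⟨w, c, hw, hw0, hgen, hc, hcan⟩ := exists_scalar I hb
  -- multiples
  have hsm : ∀ (h : H) (k : ℕ) (v : V), h • (k • v) = k • (h • v) := fun h k v =>
    map_nsmul (DistribSMul.toAddMonoidHom V h) k v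
  have hval : ∀ (u v : (ZMod q)ˣ) (i : B), (u : ZMod q).val • w i = (v : ZMod q).val • w i → u = v := by
    intro u v i h
    have h1 := hcan _ _ i h
    rw [ZMod.natCast_zmod_val, ZMod.natCast_zmod_val] at h1
    exact Units.ext h1
  have hmulv : ∀ (u v : (ZMod q)ˣ) (i : B), (u : ZMod q).val • (v : ZMod q).val • w i =
      ((u * v : (ZMod q)ˣ) : ZMod q).val • w i := by
    intro u v i
    have h1 : (q : ℕ) • w i = 0 := I.core.exp _
    rw [Units.val_mul, ZMod.val_mul, smul_smul]
    conv_lhs => rw [← Nat.mod_add_div ((u : ZMod q).val * (v : ZMod q).val) q, add_smul, mul_comm q, mul_smul, h1,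
      smul_zero, add_zero]
  have hcoc : ∀ g h i, c (g * h) i = c g (h • i) * c h i := by
    intro g h i
    apply hval _ _ ((g * h) • i)
    rw [← hc, mul_smul, hc h i, hsm, hc g (h • i), hmulv, mul_smul g h i, mul_comm]
  have hc1 : ∀ g, (∀ v : V, g • v = v) → (∀ i : B, g • i = i) → ∀ i, c g i = 1 := by
    intro g hg hgi i
    apply hval _ _ i
    have h1 := hc g i
    rw [hg, hgi] at h1
    rw [← h1, Units.val_one, ZMod.val_one, one_smul]
  have hccon : ∀ (h g : H) (i : B), (∀ i : B, g • i = i) → c (h * g * h⁻¹) (h • i) = c g i := by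
    intro h g i hg
    have h1 : c (h * g * h⁻¹ * h) i = c (h * g) i := by rw [inv_mul_cancel_right]
    rw [hcoc (h * g * h⁻¹) h i, hcoc h g i, hg, mul_comm (c h i)] at h1
    exact mul_right_cancel h1
  -- the group of units
  have hcard : Nat.card (ZMod q)ˣ = 2 ^ a := by
    rw [Nat.card_eq_fintype_card, ZMod.card_units q, hqa, Nat.add_sub_cancel]
  have hpow : ∀ u : (ZMod q)ˣ, u ^ 2 ^ a = 1 := by
    intro u
    rw [← hcard]
    exact pow_card_eq_one'
  obtain ⟨γ, hγ⟩ := IsCyclic.exists_generator (α := (ZMod q)ˣ)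
  have hγo : orderOf γ = 2 ^ a := by
    rw [← hcard]
    exact orderOf_eq_card_of_forall_mem_zpowers hγ
  -- an element with different scalars
  obtain ⟨ρ, hρ, i, j, hij, hne⟩ : ∃ ρ ∈ Q, ∃ i j : B, i ≠ j ∧
      c ρ i ^ 2 ^ (a - 1) ≠ c ρ j ^ 2 ^ (a - 1) := by
    by_contra hcon
    push Not at hcon
    let σ : H → B → (ZMod q)ˣ := fun h i => c h i ^ 2 ^ (a - 1)
    have hσ : ∀ g h i, σ (g * h) i = σ g (h • i) * σ h i := by
      intro g h i
      change c (g * h) i ^ _ = c g (h • i) ^ _ * c h i ^ _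
      rw [hcoc, mul_pow]
    have hσs : ∀ (g h : H) (i : B), h • i = i → σ (g * h) i = σ g i * σ h i := by
      intro g h i hi
      rw [hσ, hi]
    have hrel : ∀ h i j, i ≠ j → h • i = i → h • j = j → σ h i = σ h j := by
      intro h i j hij hi hj
      let f : ↥(stabilizer H i ⊓ stabilizer H j) →* (ZMod q)ˣ :=
        MonoidHom.mk' (fun g => σ g i * (σ g j)⁻¹) fun u v => by
          change σ ((u : H) * (v : H)) i * (σ ((u : H) * (v : H)) j)⁻¹ = _
          rw [hσs _ _ i v.2.1, hσs _ _ j v.2.2, mul_inv]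
          exact mul_mul_mul_comm _ _ _ _
      have h1 := alt_hom_two hA Nat.prime_two (Or.inl (by norm_num)) mul_comm f (fun g hg => by
        change σ (g : H) i * (σ (g : H) j)⁻¹ = 1
        rw [mul_inv_eq_one]
        exact hcon g ((I.memQ _).2 hg) i j hij) (fun u => ⟨a, hpow _⟩) ⟨h, hi, hj⟩
      exact mul_inv_eq_one.1 h1
    have hfin : ∀ g : H, (∀ i : B, g • i = i) → ∀ i, σ g i = 1 := fun g hg i =>
      edge_cocycle σ hσ hrel I.core.perf (ImpW_three I) I.t3 hg i
    -- the block stabilizer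
    obtain ⟨i, -, -, -⟩ := ImpW_three I
    let f : ↥(stabilizer H i) →* (ZMod q)ˣ :=
      MonoidHom.mk' (fun g => σ g i) fun u v => hσs _ _ i v.2
    have h1 : ∀ g : ↥(stabilizer H i), f g = 1 := by
      intro g
      refine alt_hom hA Nat.prime_two (M := stabilizer H i) (F := fun b => b = i) (fun g => ?_)
        (Or.inl (by norm_num)) mul_comm f (fun g hg => hfin g hg i) (fun u => ⟨a, hpow _⟩) g
      rw [mem_stabilizer_iff]
      constructor
      · rintro h1 b rfl
        exact h1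
      · intro h1
        exact h1 i rfl
    obtain ⟨m, hm1, hm2⟩ := I.trans i (w i) (hw i) ((γ : ZMod q).val • w i) ((W i).nsmul_mem (hw i) _) (hw0 i) (by
      intro h0
      have h2 := hcan ((γ : ZMod q).val) 0 i (by rw [h0, zero_smul])
      rw [ZMod.natCast_zmod_val, Nat.cast_zero] at h2
      exact γ.ne_zero h2)
    have h2 : c m i = γ := by
      apply hval _ _ i
      have h3 := hc m i
      rw [hm2, hm1] at h3
      exact h3.symm
    have h3 : c m i ^ 2 ^ (a - 1) = 1 := h1 ⟨m, hm1⟩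
    rw [h2] at h3
    have h4 := orderOf_dvd_of_pow_eq_one h3
    rw [hγo] at h4
    have h5 := Nat.le_of_dvd (by positivity) h4
    have h6 : 2 ^ (a - 1) < 2 ^ a := Nat.pow_lt_pow_right (by norm_num) (by omega)
    omega
  -- discrete logarithm
  let θ : Multiplicative (ZMod (Nat.card (ZMod q)ˣ)) ≃* (ZMod q)ˣ := zmodCyclicMulEquiv inferInstance
  let x : H → B → ZMod (Nat.card (ZMod q)ˣ) := fun g i => Multiplicative.toAdd (θ.symm (c g i))
  have hx0 : ∀ g i, x g i = 0 → c g i = 1 := by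
    intro g i h
    have h1 : θ.symm (c g i) = 1 := h
    rw [← θ.apply_symm_apply (c g i), h1, map_one]
  have htriv : ∀ ρ ∈ Q, ∀ i, x ρ i = 0 → ∀ u ∈ W i, ρ • u = u := by
    intro ρ hρ i h u hu
    obtain ⟨k, rfl⟩ := hgen i u hu
    rw [hsm, hc, hx0 ρ i h, (I.memQ ρ).1 hρ, Units.val_one, ZMod.val_one, one_smul]
  have P : PM (Nat.card (ZMod q)ˣ) N Q x :=
    { NR := by
        intro n hn
        rw [I.memQ]
        intro i
        by_contra hne
        have h1 : n • w i ∈ W (n • i) := by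
          rw [← I.smulW]
          exact AddSubgroup.smul_mem_pointwise_smul _ n (W i) (hw i)
        rw [(I.core.ker n).2 hn] at h1
        exact hw0 i (AddSubgroup.disjoint_def.1 (I.ind.pairwiseDisjoint hne) h1 (hw i))
      nR := ⟨fun g hg h => by
        rw [I.memQ]
        intro i
        rw [mul_smul, mul_smul, (I.memQ g).1 hg, smul_inv_smul]⟩
      mul := by
        intro g _ h hh i
        change Multiplicative.toAdd (θ.symm (c (g * h) i)) = _
        rw [hcoc, (I.memQ h).1 hh, map_mul, toAdd_mul]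
      ker := by
        intro g hg h
        refine (I.core.ker g).1 fun v => ?_
        let U : AddSubgroup V :=
          { carrier := {v | g • v = v}
            zero_mem' := smul_zero g
            add_mem' := by
              intro u v hu hv
              change g • (u + v) = u + v
              rw [smul_add, hu, hv]
            neg_mem' := by
              intro u hu
              change g • (-u) = -u
              rw [smul_neg, hu] }
        have h1 : (⊤ : AddSubgroup V) ≤ U := by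
          rw [← I.top]
          exact iSup_le fun i u hu => htriv g hg i (h i) u hu
        exact h1 (AddSubgroup.mem_top v)
      kerN := by
        intro g hg i
        have hgv : ∀ v : V, g • v = v := (I.core.ker g).2 hg
        have hgi : ∀ i : B, g • i = i := by
          intro i
          by_contra hne
          have h1 : g • w i ∈ W (g • i) := by
            rw [← I.smulW]
            exact AddSubgroup.smul_mem_pointwise_smul _ g (W i) (hw i)
          rw [hgv] at h1
          exact hw0 i (AddSubgroup.disjoint_def.1 (I.ind.pairwiseDisjoint hne) h1 (hw i))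
        change Multiplicative.toAdd (θ.symm (c g i)) = 0
        rw [hc1 g hgv hgi, map_one, toAdd_one]
      conj := by
        intro h g hg i
        change Multiplicative.toAdd (θ.symm (c (h * g * h⁻¹) (h • i))) = _
        rw [hccon h g i ((I.memQ g).1 hg)] }
  have h5 : 5 ≤ Nat.card B := by
    rcases hn with ⟨-, h⟩ | h
    · exact h.ge
    · omega
  have E : Pat 3 Q x := alt_pat_three hA h5 P I.core.cen
  obtain ⟨z, hz, hz1⟩ := E.avg ρ hρ i j hij
  have hm0 : (2 : ZMod (Nat.card (ZMod q)ˣ)) ^ a = 0 := by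
    have h1 : ((2 ^ a : ℕ) : ZMod (Nat.card (ZMod q)ˣ)) = 0 :=
      (ZMod.natCast_eq_zero_iff _ _).2 (dvd_of_eq hcard)
    rw [Nat.cast_pow] at h1
    exact_mod_cast h1
  have hv0 : (2 : ZMod (Nat.card (ZMod q)ˣ)) ^ (a - 1) * (x ρ i - x ρ j) ≠ 0 := by
    intro h0
    apply hne
    apply θ.symm.injective
    apply Multiplicative.toAdd.injective
    have e1 : ∀ i, Multiplicative.toAdd (θ.symm (c ρ i ^ 2 ^ (a - 1))) =
        ((2 ^ (a - 1) : ℕ) : ZMod (Nat.card (ZMod q)ˣ)) * x ρ i := by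
      intro i
      rw [show θ.symm (c ρ i ^ 2 ^ (a - 1)) = θ.symm (c ρ i) ^ 2 ^ (a - 1) from map_pow θ.symm _ _, toAdd_pow,
        nsmul_eq_mul]
    rw [e1, e1]
    rw [mul_sub, sub_eq_zero] at h0
    exact_mod_cast h0
  have hrel : (2 : ZMod (Nat.card (ZMod q)ˣ)) * (2 ^ (a - 1) * (x ρ i - x ρ j)) = 0 := by
    rw [← mul_assoc, ← pow_succ', Nat.sub_add_cancel (by omega), hm0, zero_mul]
  have hpw : (2 : ZMod (Nat.card (ZMod q)ˣ)) ^ (a - 1) = 2 * 2 ^ (a - 2) := by
    rw [← pow_succ']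
    congr 1
    omega
  have ht : ((2 * 3 ^ 2 : ℕ) : ZMod (Nat.card (ZMod q)ˣ)) * (((2 ^ (a - 2) : ℕ) : ZMod (Nat.card (ZMod q)ˣ)) *
      (((3 : ℕ) : ZMod (Nat.card (ZMod q)ˣ)) * (x ρ i - x ρ j))) =
      27 * ((2 : ZMod (Nat.card (ZMod q)ˣ)) ^ (a - 1) * (x ρ i - x ρ j)) := by
    rw [hpw]
    push_cast
    ring
  refine zero_end I Nat.prime_two P E le_rfl (by rw [Subgroup.relIndex_self]; norm_num)
    (fun i j hij f hf hf' g => ?_) htriv (s := ((2 ^ (a - 2) : ℕ) : ZMod (Nat.card (ZMod q)ˣ)) *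
      (((3 : ℕ) : ZMod (Nat.card (ZMod q)ˣ)) * (x ρ i - x ρ j)))
    ⟨i, j, hij, z ^ 2 ^ (a - 2), pow_mem hz _, P.isZ_pow hz hz1 _⟩ ?_ ?_
  · have hf1 : ∀ c, ∃ k : ℕ, f c ^ 2 ^ k = 1 := fun c => ⟨1, by rw [pow_one]; exact hf' c⟩
    exact alt_hom_two hA Nat.prime_two (Or.inl (by norm_num))
      (fun a b => Subtype.ext (Subgroup.mem_center_iff.1 b.2 a)) f hf hf1 g
  · rw [ht, mul_left_comm]
    push_cast
    rw [hrel, mul_zero]
  · intro h0
    apply hv0
    rw [ht] at h0
    have h1 : (2 : ZMod (Nat.card (ZMod q)ˣ)) ^ (a - 1) * (x ρ i - x ρ j) =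
        27 * (2 ^ (a - 1) * (x ρ i - x ρ j)) - 13 * (2 * (2 ^ (a - 1) * (x ρ i - x ρ j))) := by ring
    rw [h1, h0, hrel, mul_zero, sub_zero]

end

end Cfsg.Agent.H32.NY.A239
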