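import Cfsg.Agent.H32.NY.RData

/-!
# S4979, layer (I): blocks on which `Q` induces a quasisimple normal subgroup (helper37)

`comp_false`: if `R ≤ Q` is a perfect normal subgroup of `H` such that every `H`-normal subgroup of `R` induces on each
block a central subgroup or the whole group induced by `R`, then `R` is minimal normal modulo its centre, contradicting
`NoComp`.
`resid_false`: the same from quasisimple normal sections of the groups induced by `Q` on the blocks with soluble
quotient.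
-/

set_option autoImplicit false
set_option linter.style.haveILetI false
set_option linter.unusedSectionVars false

open Cfsg
open scoped Pointwise commutatorElement

namespace Cfsg.Agent.H32.NY.A37

open Cfsg.Agent.H37.NX Cfsg.Agent.H32.NX9 Cfsg.Agent.H32.NY.A32

open Cfsg.Agent.H32.NX9 Cfsg.Agent.H32.NY.A32 MulAction

/-- the derived series of a subgroup, inside the group -/
def dser {H : Type*} [Group H] (Q : Subgroup H) : ℕ → Subgroup H
  | 0 => Q
  | n + 1 => ⁅dser Q n, dser Q n⁆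

section dser
variable {H : Type*} [Group H] {Q : Subgroup H}

theorem dser_zero : dser Q 0 = Q := rfl

theorem dser_succ (n : ℕ) : dser Q (n + 1) = ⁅dser Q n, dser Q n⁆ := rfl

theorem dser_succ_le (n : ℕ) : dser Q (n + 1) ≤ dser Q n := Subgroup.commutator_le_self _

theorem dser_antitone : Antitone (dser Q) := antitone_nat_of_succ_le dser_succ_le

theorem dser_normal [hQ : Q.Normal] (n : ℕ) : (dser Q n).Normal := by
  induction n with
  | zero => exact hQ
  | succ n ih =>
    haveI := ih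
    exact Subgroup.commutator_normal _ _

theorem exists_stable [Finite H] : ∃ k, ⁅dser Q k, dser Q k⁆ = dser Q k ∧ ∀ m, dser Q k ≤ dser Q m := by
  let k := Function.argmin (fun n => Nat.card (dser Q n))
  have hk : ∀ m, Nat.card (dser Q k) ≤ Nat.card (dser Q m) :=
    fun m => Function.argmin_le (fun n => Nat.card (dser Q n)) m
  have hk' : ∀ m, k ≤ m → dser Q m = dser Q k := fun m hm =>
    Subgroup.eq_of_le_of_card_ge (dser_antitone hm) (hk m)
  refine ⟨k, hk' (k + 1) (Nat.le_succ k), fun m => ?_⟩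
  rcases le_total k m with h | h
  · exact (hk' m h).ge
  · exact dser_antitone h

end dser

variable {p q : ℕ} {H V B : Type*} [Group H] [Finite H] [AddCommGroup V] [Finite V]
  [DistribMulAction H V] [Finite B] [MulAction H B] {W : B → AddSubgroup V} {K N Q : Subgroup H} {φ : N →* ℂˣ}

/-- the elements of `R` acting trivially on the blocks of `s` -/
def trivOn (W : B → AddSubgroup V) (R : Subgroup H) (s : Set B) : Subgroup H where
  carrier := {x | x ∈ R ∧ ∀ j ∈ s, ∀ w ∈ W j, x • w = w}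
  mul_mem' := by
    rintro a b ⟨ha, ha'⟩ ⟨hb, hb'⟩
    refine ⟨mul_mem ha hb, fun j hj w hw => ?_⟩
    rw [mul_smul, hb' j hj w hw, ha' j hj w hw]
  one_mem' := ⟨one_mem _, fun j _ w _ => one_smul H w⟩
  inv_mem' := by
    rintro a ⟨ha, ha'⟩
    refine ⟨inv_mem ha, fun j hj w hw => ?_⟩
    rw [inv_smul_eq_iff, ha' j hj w hw]

theorem mem_trivOn {R : Subgroup H} {s : Set B} {x : H} :
    x ∈ trivOn W R s ↔ x ∈ R ∧ ∀ j ∈ s, ∀ w ∈ W j, x • w = w := Iff.rfl

/-- commutators of elements of `Q` with elements trivial on a block -/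
theorem comm_trivial_left (I : ImpW (V := V) p q W K N Q φ) {x y : H} (hy : y ∈ Q) {j : B}
    (hx : ∀ w ∈ W j, x • w = w) : ∀ w ∈ W j, ⁅x, y⁆ • w = w := by
  intro w hw
  have h1 : ∀ w ∈ W j, x⁻¹ • w = w := fun w hw => by rw [inv_smul_eq_iff, hx w hw]
  have h2 : y⁻¹ • w ∈ W j := smul_mem_of_Q I (inv_mem hy) hw
  rw [commutatorElement_def, mul_smul, mul_smul, mul_smul, h1 _ h2, smul_inv_smul, hx w hw]

theorem comm_trivial_right (I : ImpW (V := V) p q W K N Q φ) {x y : H} (hx : x ∈ Q) {j : B}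
    (hy : ∀ w ∈ W j, y • w = w) : ∀ w ∈ W j, ⁅x, y⁆ • w = w := by
  intro w hw
  have h1 : ∀ w ∈ W j, y⁻¹ • w = w := fun w hw => by rw [inv_smul_eq_iff, hy w hw]
  have h2 : x⁻¹ • w ∈ W j := smul_mem_of_Q I (inv_mem hx) hw
  rw [commutatorElement_def, mul_smul, mul_smul, mul_smul, h1 w hw, hy _ h2, smul_inv_smul]

/-- **`R` is minimal normal modulo its centre.** -/
theorem comp_false (I : ImpW (V := V) p q W K N Q φ) (hC : NoComp K) (R : Subgroup H) (hRn : R.Normal)
    (hRQ : R ≤ Q) (hR1 : R ≠ ⊥) (hperf : ⁅R, R⁆ = R)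
    (hqs : ∀ i, ∀ M : Subgroup H, M.Normal → M ≤ R →
      (∀ m ∈ M, ∀ x ∈ R, ∀ w ∈ W i, ⁅m, x⁆ • w = w) ∨ (∀ x ∈ R, ∃ m ∈ M, ∀ w ∈ W i, x • w = m • w)) : False := by
  classical
  refine hC R hRn (hRQ.trans I.QK) hR1 hperf ?_
  intro M hM hMR
  by_cases hcen : ∀ i, ∀ m ∈ M, ∀ x ∈ R, ∀ w ∈ W i, ⁅m, x⁆ • w = w
  · left
    have h1 : ⁅M, R⁆ ≤ N := by
      rw [Subgroup.commutator_le]
      intro m hm x hx
      exact mem_N_of_blocks I fun i w hw => hcen i m hm x hx w hw
    have h2 : ⁅⁅M, R⁆, R⁆ = ⊥ := by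
      rw [eq_bot_iff, Subgroup.commutator_le]
      intro a ha b _
      rw [Subgroup.mem_bot, commutatorElement_eq_one_iff_mul_comm]
      exact (Subgroup.mem_center_iff.1 (I.core.cen (h1 ha)) b).symm
    have h3 : ⁅⁅R, R⁆, M⁆ = ⊥ := by
      refine Subgroup.commutator_commutator_eq_bot_of_rotate ?_ h2
      rw [Subgroup.commutator_comm R M]
      exact h2
    rw [hperf] at h3
    intro m hm x hx
    have h4 : ⁅x, m⁆ ∈ ⁅R, M⁆ := Subgroup.commutator_mem_commutator hx hm
    rw [h3, Subgroup.mem_bot, commutatorElement_eq_one_iff_mul_comm] at h4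
    exact h4.symm
  · right
    push Not at hcen
    obtain ⟨i, m₀, hm₀, x₀, hx₀, w₀, hw₀, hne⟩ := hcen
    have hfull : ∀ j, ∀ x ∈ R, ∃ m ∈ M, ∀ w ∈ W j, x • w = m • w := by
      intro j
      rcases hqs j M hM hMR with h | h
      · exfalso
        obtain ⟨h₀, hh₀⟩ := trans_blocks I i j
        apply hne
        have h1 := h (h₀ * m₀ * h₀⁻¹) (hM.conj_mem _ hm₀ _) (h₀ * x₀ * h₀⁻¹) (hRn.conj_mem _ hx₀ _)
          (h₀ • w₀) (by rw [← hh₀]; exact smul_mem_block I h₀ hw₀)
        have h2 : ⁅h₀ * m₀ * h₀⁻¹, h₀ * x₀ * h₀⁻¹⁆ = h₀ * ⁅m₀, x₀⁆ * h₀⁻¹ := by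
          rw [commutatorElement_def, commutatorElement_def]; group
        rw [h2, mul_smul, inv_smul_smul, mul_smul] at h1
        exact smul_left_cancel h₀ h1
      · exact h
    -- `R ≤ M (∩ trivial)`
    have key : ∀ s : Finset B, ∀ x ∈ R, ∃ m ∈ M, ∃ y ∈ trivOn W R (s : Set B), x = m * y := by
      intro s
      induction s using Finset.induction_on with
      | empty =>
        intro x hx
        exact ⟨1, one_mem _, x, ⟨hx, fun j hj => absurd hj (by simp)⟩, (one_mul x).symm⟩
      | insert j s hj ih =>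
        have hle : ⁅R, R⁆ ≤ M ⊔ trivOn W R ((insert j s : Finset B) : Set B) := by
          rw [Subgroup.commutator_le]
          intro a ha b hb
          obtain ⟨m, hm, y, hy, rfl⟩ := ih a ha
          obtain ⟨m', hm', hb'⟩ := hfull j b hb
          have hy' : ∀ w ∈ W j, (m'⁻¹ * b) • w = w := by
            intro w hw
            rw [mul_smul, hb' w hw, inv_smul_smul]
          have hbR : m'⁻¹ * b ∈ R := mul_mem (inv_mem (hMR hm')) hb
          have e1 : b = m' * (m'⁻¹ * b) := by group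
          set y' := m'⁻¹ * b with hy'def
          -- modulo `M`
          have h1 : (QuotientGroup.mk ⁅m * y, b⁆ : H ⧸ M) = QuotientGroup.mk ⁅y, y'⁆ := by
            have h2 : (QuotientGroup.mk (m * y) : H ⧸ M) = QuotientGroup.mk y := by
              rw [QuotientGroup.mk_mul, (QuotientGroup.eq_one_iff m).2 hm, one_mul]
            have h3 : (QuotientGroup.mk b : H ⧸ M) = QuotientGroup.mk y' := by
              rw [e1, QuotientGroup.mk_mul, (QuotientGroup.eq_one_iff m').2 hm', one_mul]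
            have h4 : ∀ a b : H, (QuotientGroup.mk ⁅a, b⁆ : H ⧸ M) =
                ⁅(QuotientGroup.mk a : H ⧸ M), (QuotientGroup.mk b : H ⧸ M)⁆ := fun a b => rfl
            rw [h4, h2, h3, ← h4]
          have h5 : ⁅m * y, b⁆ * (⁅y, y'⁆)⁻¹ ∈ M := by
            rw [← QuotientGroup.eq_one_iff, QuotientGroup.mk_mul, QuotientGroup.mk_inv, h1, mul_inv_cancel]
          have h6 : ⁅m * y, b⁆ = (⁅m * y, b⁆ * (⁅y, y'⁆)⁻¹) * ⁅y, y'⁆ := by group
          rw [h6]
          refine mul_mem (Subgroup.mem_sup_left h5) (Subgroup.mem_sup_right ⟨?_, ?_⟩)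
          · rw [← hperf]
            exact Subgroup.commutator_mem_commutator hy.1 hbR
          · intro l hl w hw
            rw [Finset.coe_insert, Set.mem_insert_iff] at hl
            rcases hl with rfl | hl
            · exact comm_trivial_right I (hRQ hy.1) hy' w hw
            · exact comm_trivial_left I (hRQ hbR) (hy.2 l hl) w hw
        intro x hx
        rw [hperf] at hle
        obtain ⟨m, hm, y, hy, he⟩ := Subgroup.mem_sup_of_normal_left.1 (hle hx)
        exact ⟨m, hm, y, hy, he.symm⟩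
    letI := Fintype.ofFinite B
    apply le_antisymm hMR
    rw [← hperf, Subgroup.commutator_le]
    intro a ha b hb
    obtain ⟨m, hm, y, hy, rfl⟩ := key Finset.univ a ha
    obtain ⟨m', hm', y', hy', rfl⟩ := key Finset.univ b hb
    have hyN : y ∈ Subgroup.center H := I.core.cen (mem_N_of_blocks I fun i w hw => hy.2 i (by simp) w hw)
    have hyN' : y' ∈ Subgroup.center H := I.core.cen (mem_N_of_blocks I fun i w hw => hy'.2 i (by simp) w hw)
    have e1 : ⁅m * y, m' * y'⁆ = ⁅m, m'⁆ := by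
      have c1 := fun g => Subgroup.mem_center_iff.1 hyN g
      have c2 := fun g => Subgroup.mem_center_iff.1 hyN' g
      have c3 := fun g => Subgroup.mem_center_iff.1 (inv_mem hyN) g
      have c4 := fun g => Subgroup.mem_center_iff.1 (inv_mem hyN') g
      rw [commutatorElement_def, commutatorElement_def, mul_inv_rev, mul_inv_rev]
      calc m * y * (m' * y') * (y⁻¹ * m⁻¹) * (y'⁻¹ * m'⁻¹)
          = m * (y * (m' * y' * y⁻¹)) * m⁻¹ * (y'⁻¹ * m'⁻¹) := by group
        _ = m * (m' * y' * y⁻¹ * y) * m⁻¹ * (y'⁻¹ * m'⁻¹) := by rw [← c1]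
        _ = m * m' * (y' * (m⁻¹ * y'⁻¹)) * m'⁻¹ := by group
        _ = m * m' * (m⁻¹ * y'⁻¹ * y') * m'⁻¹ := by rw [← c2]
        _ = m * m' * m⁻¹ * m'⁻¹ := by group
    rw [e1]
    exact Subgroup.commutator_le_right R M |>.trans le_rfl (Subgroup.commutator_mem_commutator (hMR hm) hm')

/-- **Quasisimple sections on the blocks.** -/
theorem resid_false (I : ImpW (V := V) p q W K N Q φ) (hC : NoComp K) {S : Type*} [Group S] [Nontrivial S]
    (hS : commutator S = ⊤) (hSn : ∀ M : Subgroup S, M.Normal → M ≤ Subgroup.center S ∨ M = ⊤)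
    (h : ∀ i, ∃ (E : Subgroup H) (f : E →* S), E ≤ Q ∧ Function.Surjective f ∧
      (∀ x : E, f x = 1 ↔ ∀ w ∈ W i, (x : H) • w = w) ∧ ∃ k, dser Q k ≤ E) : False := by
  classical
  haveI := Q_normal I
  obtain ⟨k₀, hperf, hmin⟩ := exists_stable (Q := Q)
  set R := dser Q k₀ with hR
  have hRn : R.Normal := dser_normal k₀
  have hRQ : R ≤ Q := dser_antitone (Nat.zero_le k₀)
  choose E f hEQ hf hker k hk using h
  have hRE : ∀ i, R ≤ E i := fun i => (hmin (k i)).trans (hk i)
  -- the image of `R` on a block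
  have himg : ∀ i m, ((dser Q m).subgroupOf (E i)).map (f i) = ⊤ := by
    intro i m
    induction m with
    | zero =>
      rw [dser_zero, Subgroup.subgroupOf_eq_top.2 (hEQ i), ← MonoidHom.range_eq_map,
        MonoidHom.range_eq_top.2 (hf i)]
    | succ m ih =>
      rw [eq_top_iff, ← hS, commutator_def, ← ih, ← Subgroup.map_commutator]
      apply Subgroup.map_mono
      rw [Subgroup.commutator_le]
      intro a ha b hb
      exact Subgroup.commutator_mem_commutator (G := H) ha hb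
  have hRS : ∀ i, ∀ s : S, ∃ x, ∃ hx : x ∈ R, f i ⟨x, hRE i hx⟩ = s := by
    intro i s
    have h1 : s ∈ ((dser Q k₀).subgroupOf (E i)).map (f i) := by rw [himg]; trivial
    obtain ⟨x, hx, rfl⟩ := h1
    exact ⟨x, hx, rfl⟩
  have hR1 : R ≠ ⊥ := by
    intro h
    obtain ⟨s, hs⟩ := exists_ne (1 : S)
    have hB : Nonempty B := by
      rw [← Finite.card_pos_iff]
      have := I.card
      omega
    obtain ⟨i⟩ := hB
    obtain ⟨x, hx, hxs⟩ := hRS i s
    have hx1 : x = 1 := by
      rw [h] at hx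
      exact Subgroup.mem_bot.1 hx
    apply hs
    rw [← hxs, ← map_one (f i)]
    congr 1
    exact Subtype.ext hx1
  refine comp_false I hC R hRn hRQ hR1 hperf ?_
  intro i M hM hMR
  have hMn : ((M.subgroupOf (E i)).map (f i)).Normal := by
    constructor
    rintro _ ⟨m, hm, rfl⟩ s
    obtain ⟨x, hx, rfl⟩ := hRS i s
    refine ⟨⟨x, hRE i hx⟩ * m * ⟨x, hRE i hx⟩⁻¹, ?_, by rw [map_mul, map_mul, map_inv]⟩
    exact hM.conj_mem _ hm x
  rcases hSn _ hMn with h1 | h1
  · left
    intro m hm x hx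
    have h2 : f i ⟨m, hRE i (hMR hm)⟩ ∈ Subgroup.center S := h1 ⟨⟨m, hRE i (hMR hm)⟩, hm, rfl⟩
    have h3 : f i ⁅(⟨m, hRE i (hMR hm)⟩ : E i), ⟨x, hRE i hx⟩⁆ = 1 := by
      rw [map_commutatorElement, commutatorElement_eq_one_iff_mul_comm]
      exact (Subgroup.mem_center_iff.1 h2 _).symm
    exact (hker i _).1 h3
  · right
    intro x hx
    have h2 : f i ⟨x, hRE i hx⟩ ∈ (M.subgroupOf (E i)).map (f i) := by rw [h1]; trivial
    obtain ⟨m, hm, hmx⟩ := h2
    refine ⟨m, hm, fun w hw => ?_⟩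
    have h3 : f i (m⁻¹ * ⟨x, hRE i hx⟩) = 1 := by rw [map_mul, map_inv, hmx, inv_mul_cancel]
    have h4 := (hker i _).1 h3 w hw
    change ((m : H)⁻¹ * x) • w = w at h4
    rw [mul_smul, inv_smul_eq_iff] at h4
    exact h4

end Cfsg.Agent.H32.NY.A37
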