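import Mathlib
import Cfsg.Agent.H32.NY.Coord
import Cfsg.Agent.Lib.CoprimeAbelian

/-!
# S4979, layer (I), [I-f]: PROD or scalar action (helper322)

* `prod_data` : if `P ≤ Q` are as in `RData` and every block has an element of `P` supported on it whose coordinate is a unit,
  if the elements of different blocks commute, and if `Q`, or a block stabiliser, acts nontrivially, then there is a PROD family;
* `scal_or_prod` : `Scal N Q P`, or there is a PROD family.
-/

set_option autoImplicit false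
set_option linter.unusedSectionVars false

open Cfsg
open scoped commutatorElement Pointwise

namespace Cfsg.Agent.H32.NY.A322

open Cfsg.Agent.H322.NX Cfsg.Agent.H32.NX9 Cfsg.Agent.H32.NY.A32

open Cfsg.Agent.H32.NX9 Cfsg.Agent.H32.NY.A32 Cfsg.Agent.H37.NX Cfsg.Agent.H32.NY.A37

/-- a PROD family -/
structure Prod {H V B : Type*} [Group H] [AddCommGroup V] [DistribMulAction H V] [MulAction H B]
    (W : B → AddSubgroup V) (N Q : Subgroup H) (T : B → Subgroup H) : Prop where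
  TQ : ∀ i, T i ≤ Q
  conj : ∀ (h : H) (i : B), ∀ t ∈ T i, h * t * h⁻¹ ∈ T (h • i)
  triv : ∀ i j, i ≠ j → ∀ t ∈ T i, ∀ w ∈ W j, t • w = w
  ne : ∀ i, T i ≠ ⊥
  ab : ∀ i j, ∀ a ∈ T i, ∀ b ∈ T j, a * b = b * a
  inf : (⨆ i, T i) ⊓ N = ⊥

/-! ### Coprime action -/

section action

variable {Γ : Type*} [Group Γ]

/-- The action of `Γ / C(V)` on the normal subgroup `V`. -/
noncomputable def quotAct (V : Subgroup Γ) [hV : V.Normal] :
    (Γ ⧸ Subgroup.centralizer (V : Set Γ)) →* MulAut V :=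
  QuotientGroup.lift (Subgroup.centralizer (V : Set Γ)) (MulAut.conjNormal (H := V)) (by
    intro x hx
    apply MulEquiv.ext
    intro v
    apply Subtype.ext
    rw [MulAut.conjNormal_apply]
    have h1 := (Subgroup.mem_centralizer_iff.mp hx) v v.2
    rw [← h1]
    simp)

theorem quotAct_mk (V : Subgroup Γ) [hV : V.Normal] (g : Γ) (v : V) :
    ((quotAct V (QuotientGroup.mk' _ g) v : V) : Γ) = g * v * g⁻¹ := by
  show ((MulAut.conjNormal g v : V) : Γ) = _
  rw [MulAut.conjNormal_apply]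

/-- `[V, B] ∩ C_V(B) = 1` when `B` acts on the abelian normal subgroup `V` through a group of order
prime to that of `V`. -/
theorem inf_commutator_eq_bot [Finite Γ] (V B : Subgroup Γ) [hV : V.Normal]
    (hab : ∀ x ∈ V, ∀ y ∈ V, x * y = y * x)
    (hcop : (Nat.card (B.map (QuotientGroup.mk' (Subgroup.centralizer (V : Set Γ))))).Coprime
      (Nat.card V)) :
    ⁅V, B⁆ ⊓ Subgroup.centralizer (B : Set Γ) = ⊥ := by
  rw [eq_bot_iff]
  rintro x ⟨hx1, hx2⟩
  have hVB : ⁅V, B⁆ ≤ V := Subgroup.commutator_le_left V B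
  have hxV : x ∈ V := hVB hx1
  let cg : CommGroup V := { (inferInstance : Group V) with
    mul_comm := fun a b => Subtype.ext (hab a a.2 b b.2) }
  let φ : (B.map (QuotientGroup.mk' (Subgroup.centralizer (V : Set Γ)))) →* MulAut V :=
    (quotAct V).comp (Subgroup.subtype _)
  have hfix : ∀ a, φ a ⟨x, hxV⟩ = ⟨x, hxV⟩ := by
    rintro ⟨_, b, hb, rfl⟩
    apply Subtype.ext
    show ((quotAct V (QuotientGroup.mk' _ b) ⟨x, hxV⟩ : V) : Γ) = x
    rw [quotAct_mk]
    have h1 := (Subgroup.mem_centralizer_iff.mp hx2) b hb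
    show b * x * b⁻¹ = x
    rw [h1]; group
  have hmem : (⟨x, hxV⟩ : V) ∈ Subgroup.closure {w : V | ∃ a u, w = φ a u * u⁻¹} := by
    have h1 : ⁅V, B⁆ ≤ (Subgroup.closure {w : V | ∃ a u, w = φ a u * u⁻¹}).map V.subtype := by
      rw [Subgroup.commutator_comm, Subgroup.commutator_le]
      intro b hb v hv
      refine ⟨φ ⟨_, b, hb, rfl⟩ ⟨v, hv⟩ * (⟨v, hv⟩ : V)⁻¹, Subgroup.subset_closure ⟨_, _, rfl⟩, ?_⟩
      show ((quotAct V (QuotientGroup.mk' _ b) ⟨v, hv⟩ : V) : Γ) * v⁻¹ = ⁅b, v⁆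
      rw [quotAct_mk, commutatorElement_def]
    obtain ⟨w, hw, hwx⟩ := h1 hx1
    have h2 : w = ⟨x, hxV⟩ := Subtype.ext hwx
    rwa [h2] at hw
  have h2 := @Cfsg.Agent.Lib.CoprimeAbelian.eq_one_of_fixed_of_mem_closure _ _ _ _ _ φ hcop ⟨x, hxV⟩ hfix
    hmem
  rw [Subgroup.mem_bot]
  exact congrArg Subtype.val h2

end action

variable {p q r a : ℕ} {H V B : Type*} [Group H] [Finite H] [AddCommGroup V] [Finite V]
  [DistribMulAction H V] [Finite B] [MulAction H B] {W : B → AddSubgroup V} {K N Q P : Subgroup H}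
  {φ : N →* ℂˣ} {t : B → H}

section PR

variable (R : RData r a W N Q P t)

/-- the elements of `P` supported on the block `i` -/
def Sup (R : RData r a W N Q P t) (I : ImpW (V := V) p q W K N Q φ) (i : B) : Subgroup H where
  carrier := {x | x ∈ P ∧ ∀ j, j ≠ i → X R j x = 0}
  one_mem' := ⟨one_mem P, fun j _ => X_one R j⟩
  mul_mem' := fun {x y} hx hy => ⟨mul_mem hx.1 hy.1, fun j hj => by
    rw [X_mul R I hx.1 hy.1, hx.2 j hj, hy.2 j hj, add_zero]⟩
  inv_mem' := fun {x} hx => ⟨inv_mem hx.1, fun j hj => by rw [X_inv R I hx.1, hx.2 j hj, neg_zero]⟩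

variable (I : ImpW (V := V) p q W K N Q φ)

theorem mem_Sup {i : B} {x : H} : x ∈ Sup R I i ↔ x ∈ P ∧ ∀ j, j ≠ i → X R j x = 0 := Iff.rfl

theorem Sup_conj {h : H} {i : B} {x : H} (hx : x ∈ Sup R I i) : h * x * h⁻¹ ∈ Sup R I (h • i) := by
  refine ⟨R.nP.conj_mem _ hx.1 h, fun j hj => ?_⟩
  have h1 := X_conj R I hx.1 h (h⁻¹ • j)
  rw [smul_inv_smul] at h1
  rw [h1, hx.2 _ (fun e => hj (by rw [← e, smul_inv_smul])), mul_zero]

theorem Sup_triv {i j : B} (hij : i ≠ j) {x : H} (hx : x ∈ Sup R I i) : ∀ w ∈ W j, x • w = w :=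
  (X_eq_zero R hx.1 j).1 (hx.2 j hij.symm)

include I in
theorem sub_mem_N {x y : H} (hx : x ∈ P) (hy : y ∈ P) (h : ∀ i, X R i x = X R i y) : x * y⁻¹ ∈ N :=
  X_all R I (mul_mem hx (inv_mem hy)) fun i => by
    rw [X_mul R I hx (inv_mem hy), X_inv R I hy, h i, add_neg_cancel]

theorem NP_le_Sup {x : H} (hx : x ∈ P) (hN : x ∈ N) (i : B) : x ∈ Sup R I i :=
  ⟨hx, fun j _ => X_N R I hx hN j⟩

include R in
/-- `x = (x s^{-m}) s^m` -/
theorem exists_pow {i : B} {s x : H} (hs : s ∈ Sup R I i) (hu : IsUnit (X R i s)) (hx : x ∈ P) :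
    ∃ m : ℕ, X R i (x * (s ^ m)⁻¹) = 0 ∧ ∀ j, j ≠ i → X R j (x * (s ^ m)⁻¹) = X R j x := by
  haveI := neZero_ra R
  obtain ⟨u, hu⟩ := hu
  refine ⟨(X R i x * ((u⁻¹ : (ZMod (r ^ a))ˣ) : ZMod (r ^ a))).val, ?_, fun j hj => ?_⟩
  · rw [X_mul R I hx (inv_mem (pow_mem hs.1 _)), X_inv R I (pow_mem hs.1 _), X_pow R I hs.1,
      ZMod.natCast_zmod_val, ← hu, mul_assoc, Units.inv_mul, mul_one, add_neg_cancel]
  · rw [X_mul R I hx (inv_mem (pow_mem hs.1 _)), X_inv R I (pow_mem hs.1 _), X_pow R I hs.1,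
      hs.2 j hj, mul_zero, neg_zero, add_zero]

include I in
theorem comm_N {n : H} (hn : n ∈ N) (h : H) : h * n = n * h := Subgroup.mem_center_iff.1 (I.core.cen hn) h

theorem Sup_comm {i : B} {s : H} (hs : s ∈ Sup R I i) (hu : IsUnit (X R i s)) :
    ∀ x ∈ Sup R I i, ∀ y ∈ Sup R I i, x * y = y * x := by
  have key : ∀ x ∈ Sup R I i, ∃ (n : H) (m : ℕ), n ∈ N ∧ x = n * s ^ m := by
    intro x hx
    obtain ⟨m, h1, h2⟩ := exists_pow R I hs hu hx.1
    refine ⟨x * (s ^ m)⁻¹, m, X_all R I (mul_mem hx.1 (inv_mem (pow_mem hs.1 _))) fun j => ?_, by group⟩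
    by_cases hj : j = i
    · rw [hj]; exact h1
    · rw [h2 j hj, hx.2 j hj]
  intro x hx y hy
  obtain ⟨n, m, hn, rfl⟩ := key x hx
  obtain ⟨n', m', hn', rfl⟩ := key y hy
  have e1 : Commute n n' := (comm_N I hn n').symm
  have e2 : ∀ z, Commute n z := fun z => (comm_N I hn z).symm
  have e3 : ∀ z, Commute n' z := fun z => (comm_N I hn' z).symm
  have e4 : Commute (s ^ m) (s ^ m') := (Commute.refl s).pow_pow m m'
  exact ((e2 _).mul_left ((((e3 _).symm).mul_right e4))).eq

/-- `P` is generated by the `Sup i` -/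
theorem P_le (s : B → H) (hs : ∀ i, s i ∈ Sup R I i) (hu : ∀ i, IsUnit (X R i (s i))) :
    P ≤ ⨆ i, Sup R I i := by
  classical
  haveI := Fintype.ofFinite B
  intro x hx
  have key : ∀ F : Finset B, ∃ y : H, y ∈ P ∧ y ∈ (⨆ i, Sup R I i) ∧ (∀ i ∈ F, X R i (x * y⁻¹) = 0) := by
    intro F
    induction F using Finset.induction_on with
    | empty => exact ⟨1, one_mem _, one_mem _, fun i hi => absurd hi (Finset.notMem_empty i)⟩
    | insert i F hi ih =>
      obtain ⟨y, hyP, hy, h1⟩ := ih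
      obtain ⟨m, h2, h3⟩ := exists_pow R I (hs i) (hu i) (mul_mem hx (inv_mem hyP))
      refine ⟨s i ^ m * y, mul_mem (pow_mem (hs i).1 m) hyP,
        mul_mem (pow_mem ((le_iSup (Sup R I) i) (hs i)) m) hy, fun j hj => ?_⟩
      have h4 : x * (s i ^ m * y)⁻¹ = x * y⁻¹ * (s i ^ m)⁻¹ := by group
      rw [h4]
      rcases Finset.mem_insert.1 hj with rfl | hj
      · exact h2
      · rw [h3 j (fun e => hi (e ▸ hj)), h1 j hj]
  obtain ⟨y, hyP, hy, h1⟩ := key Finset.univ
  have h2 : x * y⁻¹ ∈ N := X_all R I (mul_mem hx (inv_mem hyP)) fun i => h1 i (Finset.mem_univ i)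
  have h3 : x = x * y⁻¹ * y := by group
  rw [h3]
  by_cases hB : Nonempty B
  · obtain ⟨i⟩ := hB
    exact mul_mem ((le_iSup (Sup R I) i) (NP_le_Sup R I (mul_mem hx (inv_mem hyP)) h2 i)) hy
  · have : 0 < Nat.card B := lt_of_lt_of_le (by omega) I.card
    exact absurd (Nat.card_pos_iff.1 this).1 hB

theorem P_comm (s : B → H) (hs : ∀ i, s i ∈ Sup R I i) (hu : ∀ i, IsUnit (X R i (s i)))
    (hcomm : ∀ i j, i ≠ j → ∀ x ∈ Sup R I i, ∀ y ∈ Sup R I j, x * y = y * x) :
    ∀ x ∈ P, ∀ y ∈ P, x * y = y * x := by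
  have h1 : ∀ i j, ∀ x ∈ Sup R I i, ∀ y ∈ Sup R I j, x * y = y * x := by
    intro i j
    by_cases hij : i = j
    · subst hij; exact Sup_comm R I (hs i) (hu i)
    · exact hcomm i j hij
  have h2 : (⨆ i, Sup R I i) ≤ Subgroup.centralizer ((⨆ i, Sup R I i : Subgroup H) : Set H) := by
    refine iSup_le fun i x hx => ?_
    have h3 : (⨆ j, Sup R I j) ≤ Subgroup.centralizer ({x} : Set H) := iSup_le fun j y hy => by
      rw [Subgroup.mem_centralizer_singleton_iff]
      exact (h1 i j x hx y hy).symm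
    rw [Subgroup.mem_centralizer_iff]
    intro y hy
    exact Subgroup.mem_centralizer_singleton_iff.1 (h3 hy)
  intro x hx y hy
  have h3 := P_le R I s hs hu
  exact Subgroup.mem_centralizer_iff.1 (h2 (h3 hy)) x (h3 hx)

/-- **PROD**: every block has an element of `P` supported on it with unit coordinate, the elements supported on
different blocks commute, and the block stabiliser acts nontrivially on the coordinates. -/
theorem prod_data (s : B → H) (hs : ∀ i, s i ∈ Sup R I i) (hu : ∀ i, IsUnit (X R i (s i)))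
    (hcomm : ∀ i j, i ≠ j → ∀ x ∈ Sup R I i, ∀ y ∈ Sup R I j, x * y = y * x)
    (L : B → Subgroup H) (hL : ∀ (h : H) (i : B), ∀ k ∈ L i, h * k * h⁻¹ ∈ L (h • i))
    (hLi : ∀ i, ∀ k ∈ L i, k • i = i)
    (hcop : ∀ i, ∀ k ∈ L i, ∃ n : ℕ, ¬ r ∣ n ∧ k ^ n ∈ P)
    (hne : ∀ i, ∃ k ∈ L i, U R k i ≠ 1) : ∃ T : B → Subgroup H, Prod W N Q T := by
  classical
  haveI := Fintype.ofFinite B
  haveI := R.nP
  haveI : Fact r.Prime := ⟨R.prime⟩
  have hPab := P_comm R I s hs hu hcomm
  -- `[Sup i, L i] ≤ Sup i`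
  have hle : ∀ i, ⁅Sup R I i, L i⁆ ≤ Sup R I i := by
    intro i
    rw [Subgroup.commutator_le]
    intro x hx k hk
    rw [commutatorElement_def]
    have h1 : k * x⁻¹ * k⁻¹ ∈ Sup R I i := by
      have := Sup_conj R I (h := k) (inv_mem hx)
      rwa [hLi i k hk] at this
    have h2 : x * k * x⁻¹ * k⁻¹ = x * (k * x⁻¹ * k⁻¹) := by group
    rw [h2]
    exact mul_mem hx h1
  -- `[P, L i] ∩ N = 1`
  have hcap : ∀ i, ⁅P, L i⁆ ⊓ N = ⊥ := by
    intro i
    have h1 : (Nat.card ((L i).map (QuotientGroup.mk' (Subgroup.centralizer (P : Set H))))).Coprime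
        (Nat.card P) := by
      obtain ⟨m, hm⟩ := R.pg.exists_card_eq
      rw [hm]
      refine Nat.Coprime.pow_right m ?_
      rw [Nat.coprime_comm, Nat.Prime.coprime_iff_not_dvd R.prime]
      intro hd
      obtain ⟨⟨_, k, hk, rfl⟩, hg⟩ := exists_prime_orderOf_dvd_card' r hd
      obtain ⟨n, hn, hkn⟩ := hcop i k hk
      apply hn
      rw [← hg, orderOf_dvd_iff_pow_eq_one]
      apply Subtype.ext
      show (QuotientGroup.mk' _ k) ^ n = 1
      rw [← map_pow, QuotientGroup.mk'_apply, QuotientGroup.eq_one_iff, Subgroup.mem_centralizer_iff]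
      exact fun x hx => hPab x hx _ hkn
    have h2 := inf_commutator_eq_bot P (L i) hPab h1
    rw [eq_bot_iff]
    refine le_trans ?_ h2.le
    refine inf_le_inf le_rfl fun n hn => ?_
    rw [Subgroup.mem_centralizer_iff]
    exact fun k _ => comm_N I hn k
  have hTN : ∀ i, ∀ x ∈ ⁅Sup R I i, L i⁆, X R i x = 0 → x = 1 := by
    intro i x hx h0
    have h1 : x ∈ N := X_all R I (hle i hx).1 fun j => by
      by_cases hj : j = i
      · rw [hj, h0]
      · exact (hle i hx).2 j hj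
    have h2 : x ∈ ⁅P, L i⁆ := Subgroup.commutator_mono (fun y (hy : y ∈ Sup R I i) => hy.1) le_rfl hx
    have h3 : x ∈ (⁅P, L i⁆ ⊓ N : Subgroup H) := ⟨h2, h1⟩
    rw [hcap i, Subgroup.mem_bot] at h3
    exact h3
  refine ⟨fun i => ⁅Sup R I i, L i⁆, ?_, ?_, ?_, ?_, ?_, ?_⟩
  · exact fun i x hx => R.PQ (hle i hx).1
  · intro h i x hx
    have h1 : h * x * h⁻¹ ∈ (⁅Sup R I i, L i⁆).map (MulAut.conj h).toMonoidHom := ⟨x, hx, rfl⟩
    rw [Subgroup.map_commutator] at h1
    refine Subgroup.commutator_mono ?_ ?_ h1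
    · rintro _ ⟨y, hy, rfl⟩
      exact Sup_conj R I hy
    · rintro _ ⟨y, hy, rfl⟩
      exact hL h i y hy
  · exact fun i j hij x hx => Sup_triv R I hij (hle i hx)
  · intro i hbot
    obtain ⟨k, hk, hk1⟩ := hne i
    have h1 : ⁅k, s i⁆ ∈ ⁅Sup R I i, L i⁆ := by
      rw [Subgroup.commutator_comm]
      exact Subgroup.commutator_mem_commutator hk (hs i)
    have h0 : (fun i => ⁅Sup R I i, L i⁆) i = ⊥ := hbot
    simp only at h0
    rw [h0, Subgroup.mem_bot, commutatorElement_def, mul_inv_eq_one] at h1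
    have h2 := X_conj R I (hs i).1 k i
    rw [hLi i k hk, h1] at h2
    apply hk1
    have h3 : (U R k i - 1) * X R i (s i) = 0 := by rw [sub_mul, one_mul, ← h2, sub_self]
    exact sub_eq_zero.1 (((hu i).mul_left_eq_zero).1 h3)
  · exact fun i j x hx y hy => hPab x (hle i hx).1 y (hle j hy).1
  · rw [eq_bot_iff]
    rintro x ⟨hx, hxN⟩
    letI : CommGroup P := { (inferInstance : Group P) with
      mul_comm := fun a b => Subtype.ext (hPab a a.2 b b.2) }
    let D : Subgroup P :=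
      { carrier := {y | ∃ f : B → P, (∀ i, (f i : H) ∈ ⁅Sup R I i, L i⁆) ∧ y = ∏ i, f i}
        one_mem' := ⟨fun _ => 1, fun i => one_mem _, by rw [Finset.prod_const_one]⟩
        mul_mem' := by
          rintro _ _ ⟨f, hf, rfl⟩ ⟨g, hg, rfl⟩
          exact ⟨fun i => f i * g i, fun i => mul_mem (hf i) (hg i), by rw [Finset.prod_mul_distrib]⟩
        inv_mem' := by
          rintro _ ⟨f, hf, rfl⟩
          exact ⟨fun i => (f i)⁻¹, fun i => inv_mem (hf i), by rw [Finset.prod_inv_distrib]⟩ }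
    have h1 : (⨆ i, ⁅Sup R I i, L i⁆) ≤ D.map P.subtype := by
      refine iSup_le fun i y hy => ?_
      refine ⟨⟨y, (hle i hy).1⟩, ⟨Pi.mulSingle i ⟨y, (hle i hy).1⟩, fun j => ?_, ?_⟩, rfl⟩
      · by_cases hj : j = i
        · subst hj; rw [Pi.mulSingle_eq_same]; exact hy
        · rw [Pi.mulSingle_eq_of_ne hj]; exact one_mem _
      · rw [Finset.prod_pi_mulSingle']
        simp
    obtain ⟨y, ⟨f, hf, rfl⟩, rfl⟩ := h1 hx
    let Xh : B → (P →* Multiplicative (ZMod (r ^ a))) := fun j => MonoidHom.mk'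
      (fun y => Multiplicative.ofAdd (X R j y)) fun y z => by
        rw [← ofAdd_add]
        exact congrArg _ (X_mul R I y.2 z.2 j)
    have h2 : ∀ j, X R j (f j : H) = 0 := by
      intro j
      have h3 : Xh j (∏ i, f i) = Multiplicative.ofAdd (X R j (f j : H)) := by
        rw [map_prod]
        refine Finset.prod_eq_single j (fun i _ hi => ?_) (fun h => absurd (Finset.mem_univ j) h)
        show Multiplicative.ofAdd (X R j (f i : H)) = 1
        rw [(hle i (hf i)).2 j (Ne.symm hi)]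
        rfl
      have h4 : X R j ((∏ i, f i : P) : H) = 0 := X_N R I (Subtype.prop _) hxN j
      have h5 : Xh j (∏ i, f i) = Multiplicative.ofAdd (X R j ((∏ i, f i : P) : H)) := rfl
      rw [h5, h4] at h3
      exact (Multiplicative.ofAdd.injective h3).symm
    have h3 : ∀ j, f j = 1 := fun j => Subtype.ext (hTN j _ (hf j) (h2 j))
    rw [Subgroup.mem_bot]
    show ((∏ i, f i : P) : H) = 1
    rw [Finset.prod_congr rfl fun i _ => h3 i, Finset.prod_const_one]
    rfl

/-! ### scalars or PROD -/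

include I in
theorem Q_conj {k : H} (hk : k ∈ Q) (h : H) : h * k * h⁻¹ ∈ Q := by
  rw [I.memQ] at hk ⊢
  intro i
  rw [mul_smul, mul_smul, hk, smul_inv_smul]

include I in
theorem third (i j : B) : ∃ k : B, i ≠ k ∧ j ≠ k := by
  classical
  haveI := Fintype.ofFinite B
  by_contra hcon
  push Not at hcon
  have h1 : (Finset.univ : Finset B) ⊆ {i, j} := by
    intro k _
    rw [Finset.mem_insert, Finset.mem_singleton]
    by_cases hk : i = k
    · exact Or.inl hk.symm
    · exact Or.inr (hcon k hk).symm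
  have h2 := Finset.card_le_card h1
  have h3 : (({i, j} : Finset B)).card ≤ 2 := Finset.card_le_two
  have h4 := I.card
  have h5 := I.hp.two_le
  rw [Nat.card_eq_fintype_card] at h4
  rw [Finset.card_univ] at h2
  omega

include I in
theorem two {i j i' j' : B} (hij : i ≠ j) (hij' : i' ≠ j') : ∃ h : H, h • i = i' ∧ h • j = j' := by
  obtain ⟨k, h1, h2⟩ := third I i j
  obtain ⟨k', h1', h2'⟩ := third I i' j'
  obtain ⟨h, h3, h4, -⟩ := I.t3 i j k i' j' k' hij h1 h2 hij' h1' h2'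
  exact ⟨h, h3, h4⟩

include I in
/-- conjugating back -/
theorem U_conj' {k : H} (hk : k ∈ Q) (h : H) (i : B) : U R (h⁻¹ * k * h) i = U R k (h • i) := by
  have h1 : h⁻¹ * k * h ∈ Q := by simpa using Q_conj I hk h⁻¹
  have h2 := U_conj R I h (h⁻¹ * k * h) i ((I.memQ _).1 h1 i)
  rw [← h2]
  congr 1
  group

theorem red_val (z : ZMod (r ^ a)) : red R z = ((z.val : ℕ) : ZMod r) := by
  haveI := neZero_ra R
  conv_lhs => rw [← ZMod.natCast_zmod_val z]
  rw [map_natCast]

theorem comm_pow {G : Type*} [Group G] {x y c : G} (hc : ∀ g, g * c = c * g) (h : x * y = c * (y * x))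
    (e f : ℕ) : x ^ e * y ^ f = c ^ (e * f) * (y ^ f * x ^ e) := by
  have hcp : ∀ (n : ℕ) (g : G), g * c ^ n = c ^ n * g := fun n g =>
    ((show Commute g c from hc g).pow_right n).eq
  have h1 : ∀ e : ℕ, x ^ e * y = c ^ e * (y * x ^ e) := by
    intro e
    induction e with
    | zero => rw [pow_zero, pow_zero, one_mul, one_mul, mul_one]
    | succ e ih =>
      calc x ^ (e + 1) * y = x ^ e * (x * y) := by rw [pow_succ]; group
        _ = x ^ e * c * (y * x) := by rw [h]; group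
        _ = c * (x ^ e * y) * x := by rw [hc]; group
        _ = c * c ^ e * (y * (x ^ e * x)) := by rw [ih]; group
        _ = _ := by rw [← pow_succ', ← pow_succ]
  induction f with
  | zero => rw [pow_zero, mul_zero, pow_zero, mul_one, one_mul, one_mul]
  | succ f ih =>
    calc x ^ e * y ^ (f + 1) = x ^ e * y ^ f * y := by rw [pow_succ]; group
      _ = c ^ (e * f) * (y ^ f * (x ^ e * y)) := by rw [ih]; group
      _ = c ^ (e * f) * (y ^ f * c ^ e) * (y * x ^ e) := by rw [h1]; group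
      _ = c ^ (e * f) * c ^ e * (y ^ f * y * x ^ e) := by rw [hcp]; group
      _ = _ := by rw [← pow_add, ← pow_succ]; ring_nf

/-- elements supported on different blocks commute if the product of the characters is not one mod `r` -/
theorem sup_comm {i j : B} (hij : i ≠ j) {k : H} (hk : k ∈ Q) (hne : red R (U R k i * U R k j) ≠ 1)
    {x y : H} (hx : x ∈ Sup R I i) (hy : y ∈ Sup R I j) : x * y = y * x := by
  haveI := neZero_ra R
  haveI : Fact r.Prime := ⟨R.prime⟩
  have key : ∀ {i : B} {x : H}, x ∈ Sup R I i → ∃ n ∈ N, k * x * k⁻¹ = n * x ^ (U R k i).val := by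
    intro i x hx
    refine ⟨k * x * k⁻¹ * (x ^ (U R k i).val)⁻¹, ?_, by group⟩
    refine sub_mem_N R I (R.nP.conj_mem _ hx.1 k) (pow_mem hx.1 _) fun l => ?_
    rw [X_conj_Q R I hk hx.1, X_pow R I hx.1, ZMod.natCast_zmod_val]
    by_cases hl : l = i
    · rw [hl]
    · rw [hx.2 l hl, mul_zero, mul_zero]
  obtain ⟨n, hn, e1⟩ := key hx
  obtain ⟨n', hn', e2⟩ := key hy
  set c := x * y * x⁻¹ * y⁻¹ with hc
  have hcN : c ∈ N := R.comm x hx.1 y hy.1
  have hcP : c ∈ P := mul_mem (mul_mem (mul_mem hx.1 hy.1) (inv_mem hx.1)) (inv_mem hy.1)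
  have hcc : ∀ g : H, g * c = c * g := comm_N I hcN
  have h1 : x * y = c * (y * x) := by rw [hc]; group
  have h2 := comm_pow hcc h1 (U R k i).val (U R k j).val
  set e := (U R k i).val with he
  set f := (U R k j).val with hf
  have h3 : k * x * k⁻¹ * (k * y * k⁻¹) = c * (k * y * k⁻¹ * (k * x * k⁻¹)) := by
    calc k * x * k⁻¹ * (k * y * k⁻¹) = k * (x * y) * k⁻¹ := by group
      _ = k * c * (y * x) * k⁻¹ := by rw [h1]; group
      _ = _ := by rw [hcc]; group
  rw [e1, e2] at h3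
  have hnc : ∀ g, g * n = n * g := comm_N I hn
  have hnc' : ∀ g, g * n' = n' * g := comm_N I hn'
  have h4 : n * x ^ e * (n' * y ^ f) = n * n' * (x ^ e * y ^ f) := by
    calc n * x ^ e * (n' * y ^ f) = n * (x ^ e * n') * y ^ f := by group
      _ = _ := by rw [hnc']; group
  have h5 : n' * y ^ f * (n * x ^ e) = n * n' * (y ^ f * x ^ e) := by
    calc n' * y ^ f * (n * x ^ e) = n' * (y ^ f * n) * x ^ e := by group
      _ = n' * n * (y ^ f * x ^ e) := by rw [hnc]; group
      _ = _ := by rw [hnc]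
  rw [h4, h5, h2] at h3
  have h6 : c ^ (e * f) = c := by
    have h7 : n * n' * (c ^ (e * f) * (y ^ f * x ^ e)) = n * n' * (c * (y ^ f * x ^ e)) := by
      rw [h3]
      calc c * (n * n' * (y ^ f * x ^ e)) = c * (n * n') * (y ^ f * x ^ e) := by group
        _ = _ := by rw [← hcc]; group
    exact mul_right_cancel (mul_left_cancel h7)
  have h8 : c = 1 := by
    by_contra hc1
    have h9 : r ∣ orderOf c := by
      obtain ⟨m, hm⟩ := R.pg ⟨c, hcP⟩
      have h10 : c ^ r ^ m = 1 := congrArg Subtype.val hm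
      obtain ⟨l, -, hl⟩ := (Nat.dvd_prime_pow R.prime).1 (orderOf_dvd_of_pow_eq_one h10)
      rw [hl]
      refine dvd_pow_self r fun h0 => hc1 ?_
      rw [h0, pow_zero, orderOf_eq_one_iff] at hl
      exact hl
    have h10 : c ^ (e * f) = c ^ 1 := by rw [pow_one]; exact h6
    have h11 := ((pow_eq_pow_iff_modEq.1 h10).of_dvd h9)
    apply hne
    rw [map_mul, red_val, red_val, ← Nat.cast_mul]
    have h12 := (ZMod.natCast_eq_natCast_iff _ _ _).2 h11
    rw [Nat.cast_one] at h12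
    exact h12
  rw [h8, one_mul] at h1
  exact h1

include R I in
/-- **`Q` acts on `P` modulo `N` by scalars, or there is a PROD family.** -/
theorem scal_or_prod : Scal N Q P ∨ ∃ T : B → Subgroup H, Prod W N Q T := by
  classical
  haveI := neZero_ra R
  haveI : Fact r.Prime := ⟨R.prime⟩
  by_cases hall : ∀ k ∈ Q, ∀ i j, U R k i = U R k j
  · left
    intro k hk
    have h0 : 0 < Nat.card B := lt_of_lt_of_le (by omega) I.card
    obtain ⟨⟨i0⟩, -⟩ := Nat.card_pos_iff.1 h0
    refine ⟨(U R k i0).val, fun x hx => ?_⟩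
    exact sub_mem_N R I (R.nP.conj_mem _ hx k) (pow_mem hx _) fun i => by
      rw [X_conj_Q R I hk hx, X_pow R I hx, ZMod.natCast_zmod_val, hall k hk i i0]
  right
  push Not at hall
  obtain ⟨k0, hk0, i0, j0, hne⟩ := hall
  have h0 : i0 ≠ j0 := fun e => hne (by rw [e])
  have step1 : ∀ i j, i ≠ j → ∃ k ∈ Q, red R (U R k i) ≠ red R (U R k j) := by
    intro i j hij
    obtain ⟨h, h1, h2⟩ := two I h0 hij
    by_contra hcon
    push Not at hcon
    have hkQ := Q_conj I hk0 h
    have e1 : U R (h * k0 * h⁻¹) i = U R k0 i0 := by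
      rw [← h1, U_conj R I h k0 i0 ((I.memQ k0).1 hk0 i0)]
    have e2 : U R (h * k0 * h⁻¹) j = U R k0 j0 := by
      rw [← h2, U_conj R I h k0 j0 ((I.memQ k0).1 hk0 j0)]
    have h3 := hcon _ hkQ
    rw [e1, e2] at h3
    apply hne
    obtain ⟨v, hv⟩ := U_unit R I k0 j0
    have h4 : U R k0 i0 * ((v⁻¹ : (ZMod (r ^ a))ˣ) : ZMod (r ^ a)) = 1 := by
      refine eq_one_of_red R (n := P.relIndex Q) R.idx ?_ ?_
      · rw [mul_pow, U_Q_pow R I hk0, one_mul, ← Units.val_pow_eq_pow_val, inv_pow]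
        have h5 : v ^ P.relIndex Q = 1 := Units.ext (by
          rw [Units.val_pow_eq_pow_val, hv, U_Q_pow R I hk0, Units.val_one])
        rw [h5, inv_one, Units.val_one]
      · rw [map_mul, h3, ← hv, ← map_mul, Units.mul_inv, map_one]
    calc U R k0 i0 = U R k0 i0 * ((v⁻¹ : (ZMod (r ^ a))ˣ) : ZMod (r ^ a)) * v := by
          rw [mul_assoc, Units.inv_mul, mul_one]
      _ = U R k0 j0 := by rw [h4, one_mul, hv]
  have step2 : ∀ i j, i ≠ j → ∃ k ∈ Q, red R (U R k i * U R k j) ≠ 1 := by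
    intro i1 j1 hij1
    by_contra hcon
    push Not at hcon
    have h1 : ∀ i j, i ≠ j → ∀ k ∈ Q, red R (U R k i * U R k j) = 1 := by
      intro i j hij k hk
      obtain ⟨h, e1, e2⟩ := two I hij1 hij
      have h2 := hcon (h⁻¹ * k * h) (by simpa using Q_conj I hk h⁻¹)
      rwa [U_conj' R I hk, U_conj' R I hk, e1, e2] at h2
    obtain ⟨l, hl1, hl2⟩ := third I i1 j1
    obtain ⟨k, hk, h2⟩ := step1 j1 l hl2
    apply h2
    have h3 := h1 i1 j1 hij1 k hk
    have h4 := h1 i1 l hl1 k hk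
    rw [map_mul] at h3 h4
    have h5 : red R (U R k i1) ≠ 0 := fun h => by rw [h, zero_mul] at h3; exact zero_ne_one h3
    exact mul_left_cancel₀ h5 (h3.trans h4.symm)
  -- isolate
  have iso : ∀ i, ∃ s ∈ Sup R I i, IsUnit (X R i s) := by
    intro i
    haveI := Fintype.ofFinite B
    have key : ∀ F : Finset B, i ∉ F → ∃ s ∈ P, IsUnit (X R i s) ∧ ∀ j ∈ F, X R j s = 0 := by
      intro F
      induction F using Finset.induction_on with
      | empty => exact fun _ => ⟨t i, R.tP i, by rw [X_t]; exact isUnit_one,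
          fun j hj => absurd hj (Finset.notMem_empty j)⟩
      | insert j F hj ih =>
        intro hi
        rw [Finset.mem_insert, not_or] at hi
        obtain ⟨s, hs, hu, hF⟩ := ih hi.2
        obtain ⟨k, hk, hne'⟩ := step1 i j hi.1
        have hX : ∀ l, X R l (k * s * k⁻¹ * (s ^ (U R k j).val)⁻¹) = (U R k l - U R k j) * X R l s := by
          intro l
          rw [X_mul R I (R.nP.conj_mem _ hs k) (inv_mem (pow_mem hs _)), X_conj_Q R I hk hs,
            X_inv R I (pow_mem hs _), X_pow R I hs, ZMod.natCast_zmod_val]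
          ring
        refine ⟨k * s * k⁻¹ * (s ^ (U R k j).val)⁻¹,
          mul_mem (R.nP.conj_mem _ hs k) (inv_mem (pow_mem hs _)), ?_, fun l hl => ?_⟩
        · rw [hX]
          refine IsUnit.mul ?_ hu
          rw [isUnit_iff R, map_sub]
          exact sub_ne_zero.2 hne'
        · rw [hX]
          rcases Finset.mem_insert.1 hl with rfl | hl
          · rw [sub_self, zero_mul]
          · rw [hF l hl, mul_zero]
    obtain ⟨s, hs, hu, hF⟩ := key (Finset.univ.erase i) (Finset.notMem_erase i _)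
    exact ⟨s, ⟨hs, fun j hj => hF j (Finset.mem_erase.2 ⟨hj, Finset.mem_univ j⟩)⟩, hu⟩
  choose s hs hu using iso
  refine prod_data R I s hs hu (fun i j hij x hx y hy => ?_) (fun _ => Q) (fun h _ k hk => Q_conj I hk h)
    (fun i k hk => (I.memQ k).1 hk i) (fun _ k hk => ⟨P.relIndex Q, R.idx, pow_relIndex_mem R hk⟩) ?_
  · obtain ⟨k, hk, hne'⟩ := step2 i j hij
    exact sup_comm R I hij hk hne' hx hy
  · intro i
    by_contra hcon
    push Not at hcon
    obtain ⟨j, hij, -⟩ := third I i i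
    obtain ⟨k, hk, h1⟩ := step1 i j hij
    obtain ⟨h, e1, -⟩ := two I hij hij.symm
    have h2 := hcon (h⁻¹ * k * h) (by simpa using Q_conj I hk h⁻¹)
    rw [U_conj' R I hk, e1] at h2
    exact h1 (by rw [hcon k hk, h2])

end PR

end Cfsg.Agent.H32.NY.A322
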